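import Cfsg.Agent.H30.Basics
import Cfsg.Agent.H25.Burnside
import Cfsg.Agent.S1018
import Cfsg.Agent.S1019

/-!
# Centralisers in non-abelian simple groups: class sizes, involutions centralising a Sylow subgroup
-/

set_option autoImplicit false

namespace Cfsg.Agent.H30

open Subgroup MulAction

variable {G : Type*} [Group G] [Finite G] [IsSimpleGroup G]

/-- In a non-abelian simple group no centralizer of a non-identity element has prime power index. -/
theorem index_centralizer_ne_prime_pow (hG : ¬ IsMulCommutative G) {q : ℕ} (hq : q.Prime) {g : G}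
    (hg : g ≠ 1) (k : ℕ) : (centralizer ({g} : Set G)).index ≠ q ^ k := by
  intro h
  have hpr := H25.prime_card_of_simple_of_primePow_class hq hg h
  have := Fact.mk hpr
  have : IsCyclic G := isCyclic_of_prime_card (α := G) rfl
  exact hG IsCyclic.isMulCommutative

omit [IsSimpleGroup G] in
/-- A centralizer containing a Sylow 2-subgroup exists: an involution with centralizer order
divisible by the 2-part of the group order. -/
theorem exists_central_involution {a m : ℕ} (hcard : Nat.card G = 2 ^ a * m) (hm : ¬ 2 ∣ m)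
    (ha : 0 < a) :
    ∃ u : G, orderOf u = 2 ∧ 2 ^ a ∣ Nat.card (centralizer ({u} : Set G)) := by
  have : Fact (Nat.Prime 2) := ⟨Nat.prime_two⟩
  let T : Sylow 2 G := default
  have hT : Nat.card (T : Subgroup G) = 2 ^ a := card_sylow_subgroup T hcard hm
  have : Nontrivial (T : Subgroup G) :=
    Finite.one_lt_card_iff_nontrivial.mp (hT.symm ▸ Nat.one_lt_two_pow (by omega))
  have hn : Nontrivial (center (T : Subgroup G)) := T.2.center_nontrivial
  obtain ⟨j, hj⟩ := (T.2.to_subgroup (center (T : Subgroup G))).exists_card_eq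
  have h2 : 2 ∣ Nat.card (center (T : Subgroup G)) := by
    rw [hj]
    refine dvd_pow_self 2 fun h0 => ?_
    rw [h0, pow_zero] at hj
    have := Finite.one_lt_card (α := center (T : Subgroup G))
    omega
  obtain ⟨x, hx⟩ := exists_prime_orderOf_dvd_card' 2 h2
  refine ⟨((x : (T : Subgroup G)) : G), ?_, ?_⟩
  · rw [Subgroup.orderOf_coe, Subgroup.orderOf_coe, hx]
  · rw [← hT]
    refine card_dvd_of_le fun y hy => ?_
    rw [mem_centralizer_singleton_iff]
    exact congrArg Subtype.val (mem_center_iff.mp x.2 ⟨y, hy⟩)

/-- An element of a non-abelian simple group acts evenly on cosets, so an involution fixes a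
number of cosets congruent to the index modulo four. -/
theorem card_fixedBy_involution_mod_four (hG : ¬ IsMulCommutative G) (H : Subgroup G) {u : G}
    (hu : u ^ 2 = 1) : Nat.card (fixedBy (G ⧸ H) u) % 4 = H.index % 4 := by
  classical
  let _ : Fintype (G ⧸ H) := Fintype.ofFinite _
  set σ := MulAction.toPermHom G (G ⧸ H) u with hσ
  have hker : ((Equiv.Perm.sign).comp (MulAction.toPermHom G (G ⧸ H))).ker = ⊤ := by
    refine (IsSimpleGroup.eq_bot_or_eq_top_of_normal _ inferInstance).resolve_left fun h => ?_
    exact hG ⟨⟨fun a b => (MonoidHom.ker_eq_bot_iff _).mp h (by simp only [map_mul, mul_comm])⟩⟩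
  have hsign : Equiv.Perm.sign σ = 1 := by
    have : u ∈ ((Equiv.Perm.sign).comp (MulAction.toPermHom G (G ⧸ H))).ker := hker ▸ mem_top u
    exact this
  have hsupp : σ.support.card + Nat.card (fixedBy (G ⧸ H) u) = H.index := by
    have h1 : fixedBy (G ⧸ H) u = ↑(σ.supportᶜ) := by
      ext c
      simp [hσ, MulAction.fixedBy, Equiv.Perm.mem_support]
    rw [h1, Nat.card_coe_set_eq, Set.ncard_coe_finset, Finset.card_compl, H.index_eq_card,
      Nat.card_eq_fintype_card]
    have := σ.support.card_le_univ
    omega
  have hσ2 : σ ^ 2 = 1 := by rw [hσ, ← map_pow, hu, map_one]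
  have hmem : ∀ n ∈ σ.cycleType, n = 2 := fun n hn => by
    have h2 := Equiv.Perm.two_le_of_mem_cycleType hn
    have h3 : n ∣ 2 := (Equiv.Perm.dvd_of_mem_cycleType hn).trans (orderOf_dvd_of_pow_eq_one hσ2)
    have := Nat.le_of_dvd two_pos h3
    omega
  have hct : σ.cycleType = Multiset.replicate σ.cycleType.card 2 := Multiset.eq_replicate_card.mpr hmem
  have hs := Equiv.Perm.sign_of_cycleType σ
  have hsum := σ.sum_cycleType
  rw [hct, Multiset.sum_replicate, smul_eq_mul] at hsum
  rw [hsign, hct, Multiset.sum_replicate, Multiset.card_replicate, smul_eq_mul] at hs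
  have heven : Even (σ.cycleType.card) := by
    rcases Nat.even_or_odd σ.cycleType.card with h | h
    · exact h
    · rw [(show Odd (σ.cycleType.card * 2 + σ.cycleType.card) by
        obtain ⟨j, hj⟩ := h; exact ⟨3 * j + 1, by omega⟩).neg_one_pow] at hs
      exact absurd hs (by decide)
  obtain ⟨j, hj⟩ := heven
  omega

/-- Let `P` be a Sylow subgroup of odd prime order `p` with `n` conjugates. If every possible
fixed-point number `f` of an involution centralising `P` exceeds that of the inverting elements
and forces an even number of conjugates inside the normalizer, then `|C(P)|` is odd. -/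
theorem not_two_dvd_card_centralizer (hG : ¬ IsMulCommutative G) (p n : ℕ) [hp : Fact p.Prime]
    (P : Sylow p G) (hP : Nat.card (P : Subgroup G) = p) (hn : Nat.card (Sylow p G) = n)
    (hf : ∀ f < n, f % p = 1 → f % 4 = n % 4 →
      (n - 1) / p + 1 < f ∧ ∀ m ≤ Nat.card G, f ∣ n * m → 2 ∣ m) :
    ¬ 2 ∣ Nat.card (centralizer ((P : Subgroup G) : Set G)) := by
  classical
  let _ : Fintype G := Fintype.ofFinite G
  intro heven
  set N := normalizer ((P : Subgroup G) : Set G) with hN
  set C := centralizer ((P : Subgroup G) : Set G) with hC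
  have hidx : N.index = n := P.card_eq_index_normalizer.symm.trans hn
  let _ : Fintype (G ⧸ N) := Fintype.ofFinite _
  have hPN : (P : Subgroup G) ≤ N := le_normalizer
  -- `P` fixes only the base coset
  have hPfix : ∀ c : G ⧸ N, (∀ y : (P : Subgroup G), (y : G) • c = c) → c = ((1 : G) : G ⧸ N) := by
    intro c
    induction c using QuotientGroup.induction_on with
    | H g =>
      intro h
      have h1 : ((g⁻¹ • P : Sylow p G) : Subgroup G) ≤ N := by
        intro x hx
        rw [Sylow.coe_subgroup_smul] at hx
        obtain ⟨y, hy, rfl⟩ := hx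
        have h2 := h ⟨y, hy⟩
        rw [MulAction.Quotient.smul_coe, smul_eq_mul] at h2
        have h3 := QuotientGroup.eq.mp h2.symm
        simpa [MulAut.conj_apply, mul_assoc] using h3
      have h4 : (g⁻¹ • P : Sylow p G) = P := by
        apply Sylow.ext
        have h5 : ((g⁻¹ • P : Sylow p G) : Subgroup G) ≤ (P : Subgroup G) := by
          have := IsPGroup.inf_normalizer_sylow (g⁻¹ • P : Sylow p G).2 P
          change ((g⁻¹ • P : Sylow p G) : Subgroup G) ⊓ N = _ at this
          rw [inf_eq_left.mpr h1] at this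
          exact this.le.trans inf_le_right
        exact ((g⁻¹ • P : Sylow p G).3 P.2 h5).symm
      have h6 := inv_mem (Sylow.smul_eq_iff_mem_normalizer.mp h4)
      rw [inv_inv] at h6
      exact QuotientGroup.eq.mpr (show g⁻¹ * 1 ∈ N from (mul_one g⁻¹).symm ▸ inv_mem h6)
  have hcentral : ∀ u ∈ C, Nat.card (fixedBy (G ⧸ N) u) % p = 1 := by
    intro u hu
    let _ : MulAction (P : Subgroup G) (fixedBy (G ⧸ N) u) :=
      { smul := fun y c => ⟨(y : G) • c.1, by
          have h1 : u * (y : G) = (y : G) * u := (mem_centralizer_iff.mp hu y.1 y.2).symm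
          show u • ((y : G) • c.1) = (y : G) • c.1
          rw [smul_smul, h1, ← smul_smul, (c.2 : u • c.1 = c.1)]⟩
        one_smul := fun c => Subtype.ext (one_smul G c.1)
        mul_smul := fun a b c => Subtype.ext (mul_smul (a : G) (b : G) c.1) }
    have hm := P.2.card_modEq_card_fixedPoints (fixedBy (G ⧸ N) u)
    have h1 : Nat.card (fixedPoints (P : Subgroup G) (fixedBy (G ⧸ N) u)) = 1 := by
      rw [Nat.card_eq_one_iff_exists]
      have hu1 : u • ((1 : G) : G ⧸ N) = ((1 : G) : G ⧸ N) := by
        rw [MulAction.Quotient.smul_coe, smul_eq_mul, mul_one]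
        exact QuotientGroup.eq.mpr (show u⁻¹ * 1 ∈ N from (mul_one u⁻¹).symm ▸ inv_mem (centralizer_le_normalizer _ hu))
      refine ⟨⟨⟨_, hu1⟩, fun y => Subtype.ext ?_⟩, fun c => ?_⟩
      · show (y : G) • ((1 : G) : G ⧸ N) = _
        rw [MulAction.Quotient.smul_coe, smul_eq_mul, mul_one]
        exact QuotientGroup.eq.mpr (by simpa using inv_mem (hPN y.2))
      · exact Subtype.ext (Subtype.ext (hPfix c.1.1 fun y => congrArg Subtype.val (c.2 y)))
    rw [Nat.ModEq, h1, Nat.mod_eq_of_lt hp.out.one_lt] at hm
    exact hm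
  have hinv : ∀ v ∈ N, v ∉ C → Nat.card (fixedBy (G ⧸ N) v) ≤ (n - 1) / p + 1 := by
    intro v hv hvC
    refine ((Cfsg.Agent.S1018.result p P hP).2 v hv hvC).trans ?_
    show Nat.card (MulAction.orbitRel.Quotient (P : Subgroup G) (G ⧸ N)) ≤ _
    let _ : Fintype (MulAction.orbitRel.Quotient (P : Subgroup G) (G ⧸ N)) := Fintype.ofFinite _
    set o0 : MulAction.orbitRel.Quotient (P : Subgroup G) (G ⧸ N) :=
      Quotient.mk'' ((1 : G) : G ⧸ N)
    have hsum : n = ∑ o : MulAction.orbitRel.Quotient (P : Subgroup G) (G ⧸ N), Nat.card o.orbit := by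
      rw [← hidx, N.index_eq_card, ← Nat.card_sigma]
      exact Nat.card_congr (MulAction.selfEquivSigmaOrbits' _ _)
    have hbig : ∀ o ≠ o0, p ≤ Nat.card (MulAction.orbitRel.Quotient.orbit o) := by
      intro o
      induction o using Quotient.inductionOn' with
      | h c =>
        intro hne
        rw [MulAction.orbitRel.Quotient.orbit_mk]
        obtain ⟨j, hj⟩ := P.2.card_orbit c
        rw [hj]
        rcases Nat.eq_zero_or_pos j with h0 | h0
        · exfalso
          refine hne ?_
          rw [h0, pow_zero, Nat.card_eq_one_iff_exists] at hj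
          obtain ⟨w, hw⟩ := hj
          have hc : c = ((1 : G) : G ⧸ N) := hPfix c fun y =>
            congrArg Subtype.val ((hw ⟨(y : G) • c, ⟨y, rfl⟩⟩).trans
              (hw ⟨c, MulAction.mem_orbit_self c⟩).symm)
          rw [hc]
        · exact Nat.le_self_pow (by omega) p
    rw [Nat.card_eq_fintype_card]
    rw [← Finset.add_sum_erase _ _ (Finset.mem_univ o0)] at hsum
    have hle := Finset.card_nsmul_le_sum (Finset.univ.erase o0) _ p
      (fun o ho => hbig o (Finset.ne_of_mem_erase ho))
    rw [Finset.card_erase_of_mem (Finset.mem_univ o0), Finset.card_univ, smul_eq_mul] at hle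
    have h1 : 0 < Nat.card (MulAction.orbitRel.Quotient.orbit o0) := by
      have : Nonempty (MulAction.orbitRel.Quotient.orbit o0) :=
        ⟨⟨((1 : G) : G ⧸ N), (MulAction.orbitRel.Quotient.mem_orbit.mpr rfl)⟩⟩
      exact Nat.card_pos
    have := (Nat.le_div_iff_mul_le hp.out.pos).mpr (hle.trans (show _ ≤ n - 1 by omega))
    omega
  -- involutions of `C`
  set S := Finset.univ.filter fun u : G => u ∈ C ∧ orderOf u = 2 with hS
  have hSodd : ¬ 2 ∣ S.card := by
    intro hS2
    have hinvol : 2 ∣ (Finset.univ.filter fun u : C => u⁻¹ = u).card := by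
      let e : Equiv.Perm C := Equiv.inv C
      have he : e ^ 2 ^ 1 = 1 := by ext u; simp [e, pow_two]
      have h := Equiv.Perm.card_compl_support_modEq (p := 2) (σ := e) he
      have h2 : e.supportᶜ = Finset.univ.filter fun u : C => u⁻¹ = u := by
        ext u; simp [e]
      rw [h2] at h
      exact (Nat.modEq_zero_iff_dvd).mp (h.trans (Nat.modEq_zero_iff_dvd.mpr
        (by rwa [← Nat.card_eq_fintype_card])))
    have hsplit : (Finset.univ.filter fun u : C => u⁻¹ = u).card = S.card + 1 := by
      have : (Finset.univ.filter fun u : C => u⁻¹ = u).map ⟨Subtype.val, Subtype.val_injective⟩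
          = insert 1 S := by
        ext g
        simp only [Finset.mem_map, Finset.mem_filter, Finset.mem_univ, true_and,
          Function.Embedding.coeFn_mk, Finset.mem_insert, hS]
        constructor
        · rintro ⟨u, hu, rfl⟩
          by_cases h1 : (u : G) = 1
          · exact Or.inl h1
          · refine Or.inr ⟨u.2, orderOf_eq_prime ?_ h1⟩
            rw [pow_two]
            have h2 := congrArg Subtype.val hu
            simp only [InvMemClass.coe_inv] at h2
            exact (mul_eq_one_iff_inv_eq).mpr h2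
        · rintro (rfl | ⟨hg, ho⟩)
          · exact ⟨1, inv_one, rfl⟩
          · refine ⟨⟨g, hg⟩, Subtype.ext ?_, rfl⟩
            have h2 : g * g = 1 := by rw [← pow_two, ← ho, pow_orderOf_eq_one]
            exact (mul_eq_one_iff_inv_eq).mp h2
      have hcard := congrArg Finset.card this
      rwa [Finset.card_map, Finset.card_insert_of_notMem (by simp [hS])] at hcard
    omega
  apply hSodd
  rw [Finset.card_eq_sum_card_image (fun u => ConjClasses.mk u) S]
  refine Finset.dvd_sum fun k hk => ?_
  obtain ⟨u, hu, rfl⟩ := Finset.mem_image.mp hk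
  obtain ⟨huC, hu2⟩ := (Finset.mem_filter.mp hu).2
  have huN : u ∈ N := centralizer_le_normalizer _ huC
  have hu1 : u ≠ 1 := fun h => by rw [h, orderOf_one] at hu2; norm_num at hu2
  have hfixle : Nat.card (fixedBy (G ⧸ N) u) < n := by
    rw [← hidx, N.index_eq_card]
    refine Nat.lt_of_le_of_ne (Finite.card_subtype_le _) fun h => hu1 ?_
    have hall : ∀ c : G ⧸ N, u • c = c := by
      intro c
      have := Set.eq_of_subset_of_ncard_le (Set.subset_univ (fixedBy (G ⧸ N) u))
        (by rw [Set.ncard_univ, ← h, Nat.card_coe_set_eq])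
      exact (show c ∈ fixedBy (G ⧸ N) u from this.symm ▸ Set.mem_univ c)
    have hcore : u ∈ N.normalCore := by
      intro g
      have := hall ((g⁻¹ : G) : G ⧸ N)
      rw [MulAction.Quotient.smul_coe, smul_eq_mul] at this
      have h3 := inv_mem (QuotientGroup.eq.mp this)
      simpa [mul_assoc] using h3
    rcases IsSimpleGroup.eq_bot_or_eq_top_of_normal N.normalCore inferInstance with h' | h'
    · rwa [h', Subgroup.mem_bot] at hcore
    · exfalso
      refine card_sylow_ne_one hG p (hP ▸ card_subgroup_dvd_card (P : Subgroup G)) ?_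
      refine P.card_eq_index_normalizer.trans (index_eq_one.mpr ?_)
      show N = ⊤
      exact top_le_iff.mp (h' ▸ Subgroup.normalCore_le N)
  obtain ⟨hbig, hev⟩ := hf _ hfixle (hcentral u huC) (by
    rw [card_fixedBy_involution_mod_four hG N (by rw [← hu2, pow_orderOf_eq_one]), hidx])
  have key := Cfsg.Agent.S1019.result N u huN
  rw [hidx] at key
  have hset : (S.filter fun g => ConjClasses.mk g = ConjClasses.mk u).card =
      Nat.card {g : G // IsConj u g ∧ g ∈ N} := by
    rw [Nat.card_eq_fintype_card, Fintype.card_subtype]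
    congr 1
    ext g
    simp only [Finset.mem_filter, Finset.mem_univ, true_and, hS, ConjClasses.mk_eq_mk_iff_isConj]
    constructor
    · rintro ⟨⟨hg, -⟩, hc⟩
      exact ⟨hc.symm, centralizer_le_normalizer _ hg⟩
    · rintro ⟨hc, hg⟩
      refine ⟨⟨by_contra fun hgC => ?_, ?_⟩, hc.symm⟩
      · -- conjugates fix equally many cosets
        have h1 := Cfsg.Agent.S1019.result N g hg
        have hc1 : {y : G // IsConj g y} = {y : G // IsConj u y} := by
          congr 1; funext y; exact propext ⟨hc.trans, hc.symm.trans⟩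
        have hc2 : {y : G // IsConj g y ∧ y ∈ N} = {y : G // IsConj u y ∧ y ∈ N} := by
          congr 1; funext y; exact propext (and_congr_left' ⟨hc.trans, hc.symm.trans⟩)
        rw [hc1, hc2, hidx, ← key] at h1
        have : Nonempty {y : G // IsConj u y} := ⟨⟨u, IsConj.refl u⟩⟩
        have heq := Nat.eq_of_mul_eq_mul_right Nat.card_pos h1
        have := hinv g hg hgC
        omega
      · obtain ⟨w, hw⟩ := isConj_iff.mp hc
        rw [← hw, ← hu2]
        exact orderOf_injective (MulAut.conj w).toMonoidHom (MulAut.conj w).injective u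
  rw [hset]
  exact hev _ (Finite.card_subtype_le _) ⟨_, key.symm⟩

end Cfsg.Agent.H30
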