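import Cfsg.Agent.H30.InvolutionEquation
import Cfsg.Agent.H30.CentralizerTools

/-!
# Case lemmas for a Sylow subgroup of prime order in a simple group
-/

set_option autoImplicit false

namespace Cfsg.Agent.H30

open Subgroup

variable {G : Type*} [Group G] [Finite G] [IsSimpleGroup G]

omit [IsSimpleGroup G] in
/-- If a `q`-element centralises a Sylow subgroup of order `p` and Sylow `q`-subgroups have order
`q^2`, its centralizer order is divisible by `p q^2`. -/
theorem exists_centralizer_dvd (p q m : ℕ) [hp : Fact p.Prime] [hq : Fact q.Prime] (hpq : p ≠ q)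
    (P : Sylow p G) (hP : Nat.card (P : Subgroup G) = p) (hcard : Nat.card G = q ^ 2 * m)
    (hm : ¬ q ∣ m) (hC : q ∣ Nat.card (centralizer ((P : Subgroup G) : Set G))) :
    ∃ w : G, w ≠ 1 ∧ p * q ^ 2 ∣ Nat.card (centralizer ({w} : Set G)) := by
  obtain ⟨w, hw⟩ := exists_prime_orderOf_dvd_card' q hC
  refine ⟨w.1, fun h => ?_, ?_⟩
  · rw [← Subgroup.orderOf_coe, h, orderOf_one] at hw
    exact hq.out.one_lt.ne hw
  · have hz : IsPGroup q (zpowers (w : G)) :=
      IsPGroup.of_card (n := 1) (by rw [Nat.card_zpowers, Subgroup.orderOf_coe, hw, pow_one])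
    obtain ⟨S, hS⟩ := hz.exists_le_sylow
    have hSc : Nat.card (S : Subgroup G) = q ^ 2 := card_sylow_subgroup S hcard hm
    have : IsMulCommutative (S : Subgroup G) := IsPGroup.isMulCommutative_of_card_eq_prime_sq hSc
    have h1 : (S : Subgroup G) ≤ centralizer ({(w : G)} : Set G) :=
      (Subgroup.le_centralizer (S : Subgroup G)).trans
        (centralizer_le (Set.singleton_subset_iff.mpr (hS (mem_zpowers _))))
    have h2 : (P : Subgroup G) ≤ centralizer ({(w : G)} : Set G) := fun y hy => by
      rw [mem_centralizer_singleton_iff]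
      exact mem_centralizer_iff.mp w.2 y hy
    refine Nat.Coprime.mul_dvd_of_dvd_of_dvd
      (((Nat.coprime_primes hp.out hq.out).mpr hpq).pow_right 2) ?_ ?_
    · exact (dvd_of_eq hP.symm).trans (card_dvd_of_le h2)
    · exact (dvd_of_eq hSc.symm).trans (card_dvd_of_le h1)

/-- Two different primes: `C(P)` has order prime to `q` when `|G| = p q^2 r^k`. -/
theorem not_dvd_card_centralizer_of_card (hG : ¬ IsMulCommutative G) (p q r k : ℕ)
    [hp : Fact p.Prime] [hq : Fact q.Prime] [hr : Fact r.Prime] (hpq : p ≠ q) (hpr : p ≠ r)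
    (hqr : q ≠ r) (P : Sylow p G) (hP : Nat.card (P : Subgroup G) = p)
    (hcard : Nat.card G = q ^ 2 * (p * r ^ k)) :
    ¬ q ∣ Nat.card (centralizer ((P : Subgroup G) : Set G)) := by
  intro hC
  have hm : ¬ q ∣ p * r ^ k := fun h => by
    rcases hq.out.dvd_mul.mp h with h' | h'
    · exact hpq ((Nat.prime_dvd_prime_iff_eq hq.out hp.out).mp h').symm
    · exact hqr ((Nat.prime_dvd_prime_iff_eq hq.out hr.out).mp (hq.out.dvd_of_dvd_pow h'))
  obtain ⟨w, hw1, ⟨j, hw⟩⟩ := exists_centralizer_dvd p q (p * r ^ k) hpq P hP hcard hm hC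
  have h := (centralizer ({w} : Set G)).index_mul_card
  rw [hw, hcard] at h
  have h' : (centralizer ({w} : Set G)).index * j = r ^ k := by
    refine mul_left_cancel₀ (mul_ne_zero hp.out.ne_zero (pow_ne_zero 2 hq.out.ne_zero)) ?_
    calc p * q ^ 2 * ((centralizer ({w} : Set G)).index * j)
        = (centralizer ({w} : Set G)).index * (p * q ^ 2 * j) := by ring
      _ = p * q ^ 2 * r ^ k := by rw [h]; ring
  obtain ⟨i, -, hi⟩ := (Nat.dvd_prime_pow hr.out).mp ⟨j, h'.symm⟩
  exact index_centralizer_ne_prime_pow hG hr.out hw1 i hi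

/-- A self-centralising Sylow subgroup of order `p` yields a self-centralising element `z`, and
the automizer order is the number of conjugate exponents. -/
theorem exists_self_centralizing [Fintype G] (p e : ℕ) [hp : Fact p.Prime] (P : Sylow p G)
    (hP : Nat.card (P : Subgroup G) = p)
    (hC : Nat.card (centralizer ((P : Subgroup G) : Set G)) = p)
    (hN : Nat.card (normalizer ((P : Subgroup G) : Set G)) = p * e) :
    ∃ z : G, orderOf z = p ∧ centralizer ({z} : Set G) = zpowers z ∧ (conjExps p z).card = e := by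
  obtain ⟨z, hzP, hz1⟩ : ∃ z ∈ (P : Subgroup G), z ≠ 1 := by
    have : Nontrivial (P : Subgroup G) :=
      Finite.one_lt_card_iff_nontrivial.mp (hP.symm ▸ hp.out.one_lt)
    obtain ⟨⟨z, hz⟩, hne⟩ := exists_ne (1 : (P : Subgroup G))
    exact ⟨z, hz, fun h => hne (Subtype.ext h)⟩
  have hzo : orderOf z = p := by
    have hd : orderOf z ∣ p := by
      have := orderOf_dvd_natCard (⟨z, hzP⟩ : (P : Subgroup G))
      rwa [Subgroup.orderOf_mk, hP] at this
    exact ((Nat.dvd_prime hp.out).mp hd).resolve_left fun h => hz1 (orderOf_eq_one_iff.mp h)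
  have hzp : zpowers z = (P : Subgroup G) :=
    eq_of_le_of_card_ge (zpowers_le.mpr hzP) (by rw [Nat.card_zpowers, hzo, hP])
  have hCz : centralizer ({z} : Set G) = zpowers z := by
    rw [hzp]
    have h1 : centralizer ({z} : Set G) = centralizer ((P : Subgroup G) : Set G) := by
      conv_rhs => rw [← hzp, zpowers_eq_closure, centralizer_closure]
    rw [h1]
    have hPc : (P : Subgroup G) ≤ centralizer ((P : Subgroup G) : Set G) := by
      have : IsCyclic (P : Subgroup G) := isCyclic_of_prime_card hP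
      have : IsMulCommutative (P : Subgroup G) := IsCyclic.isMulCommutative
      exact le_centralizer _
    exact (eq_of_le_of_card_ge hPc (by rw [hC, hP])).symm
  have h2 := card_normalizer_zpowers (p := p) hzo hCz
  rw [hzp, hN, mul_comm] at h2
  exact ⟨z, hzo, hCz, (Nat.eq_of_mul_eq_mul_right hp.out.pos h2).symm⟩

end Cfsg.Agent.H30
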