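import Mathlib.RingTheory.Polynomial.Cyclotomic.Roots
import Cfsg.Agent.H30.SelfCentralizingPrime
import Cfsg.Agent.H25.CharValues

/-!
# Character values on the complement of a Frobenius normalizer

For `z` of prime order `p` with `C(z) = ⟨z⟩` and `y` of prime order `q` with `|N(⟨z⟩)| = p q`,
`χ(y ^ i)` is a sum of as many `q`-th roots of unity as `χ` has fixed points of `z`.
-/

set_option autoImplicit false

namespace Cfsg.Agent.H30

open Finset
open scoped ComplexConjugate

/-- An integral linear relation between the `q`-th roots of unity has constant coefficients. -/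
theorem eq_of_sum_stdAddChar_eq_zero {q : ℕ} [hq : Fact q.Prime] (f : ZMod q → ℤ)
    (h : ∑ j, (f j : ℂ) * ZMod.stdAddChar j = 0) (i j : ZMod q) : f i = f j := by
  classical
  set ω : ℂ := ZMod.stdAddChar (1 : ZMod q) with hω
  have hpow : ∀ j : ZMod q, ZMod.stdAddChar j = ω ^ j.val := by
    intro j
    rw [hω, ← AddChar.map_nsmul_eq_pow, nsmul_eq_mul, mul_one, ZMod.natCast_zmod_val]
  have hprim : IsPrimitiveRoot ω q := by
    refine IsPrimitiveRoot.iff_orderOf.mpr (orderOf_eq_prime ?_ ?_)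
    · rw [hω, ← AddChar.map_nsmul_eq_pow, nsmul_eq_mul, mul_one, ZMod.natCast_self,
        AddChar.map_zero_eq_one]
    · rw [hω]
      intro h1
      have h2 := ZMod.injective_stdAddChar (N := q) (h1.trans (AddChar.map_zero_eq_one _).symm)
      exact one_ne_zero h2
  let P : Polynomial ℚ := ∑ j : ZMod q, Polynomial.C (f j : ℚ) * Polynomial.X ^ j.val
  have hP0 : Polynomial.aeval ω P = 0 := by
    simp only [P, map_sum, map_mul, map_pow, Polynomial.aeval_X, Polynomial.aeval_C]
    rw [← h]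
    exact Finset.sum_congr rfl fun j _ => by simp [hpow]
  have hdvd : Polynomial.cyclotomic q ℚ ∣ P := by
    rw [Polynomial.cyclotomic_eq_minpoly_rat hprim hq.out.pos]
    exact minpoly.dvd ℚ ω hP0
  obtain ⟨R, hR⟩ := hdvd
  have hdeg : P.natDegree ≤ q - 1 := by
    refine Polynomial.natDegree_sum_le_of_forall_le _ _ fun j _ => ?_
    refine (Polynomial.natDegree_C_mul_X_pow_le _ _).trans ?_
    have := ZMod.val_lt j
    omega
  obtain ⟨a, ha⟩ : ∃ a, R = Polynomial.C a := by
    by_cases hR0 : R = 0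
    · exact ⟨0, by rw [hR0, map_zero]⟩
    · refine ⟨_, Polynomial.eq_C_of_natDegree_le_zero ?_⟩
      rw [hR, Polynomial.natDegree_mul (Polynomial.cyclotomic_ne_zero q ℚ) hR0,
        Polynomial.natDegree_cyclotomic, Nat.totient_prime hq.out] at hdeg
      omega
  have hcoef : ∀ j : ZMod q, (f j : ℚ) = a := by
    intro j
    have h1 : P.coeff j.val = (f j : ℚ) := by
      simp only [P, Polynomial.finsetSum_coeff, Polynomial.coeff_C_mul_X_pow]
      rw [Finset.sum_eq_single j]
      · rw [if_pos rfl]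
      · intro b _ hb
        rw [if_neg fun e => hb (ZMod.val_injective q e).symm]
      · simp
    rw [← h1, hR, ha, Polynomial.cyclotomic_prime, Polynomial.coeff_mul_C, Polynomial.finsetSum_coeff]
    simp only [Polynomial.coeff_X_pow]
    rw [Finset.sum_ite_eq, if_pos (Finset.mem_range.mpr (ZMod.val_lt j)), one_mul]
  exact_mod_cast (hcoef i).trans (hcoef j).symm

variable {G : Type*} [Group G] [Fintype G] {p q : ℕ} [hp : Fact p.Prime] [hq : Fact q.Prime]
  {z y : G}

/-- Values of `χ` on a complement of order `q` in a Frobenius normalizer of order `p q`. -/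
theorem exists_frobenius_values (hz : orderOf z = p)
    (hC : Subgroup.centralizer ({z} : Set G) = Subgroup.zpowers z)
    (hE : (conjExps p z).card = q) (hpq : p ≠ q) (hy : orderOf y = q)
    (hyN : y ∈ Subgroup.normalizer (Subgroup.zpowers z : Set G)) (χ : Cfsg.IrrCharacter G) :
    ∃ n : ZMod q → ℕ, (p : ℂ) * ∑ j, (n j : ℂ) = ∑ k : ZMod p, χ.1 (z ^ k.val) ∧
      ∀ i : ZMod q, i ≠ 0 → χ.1 (y ^ i.val) = ∑ j, (n j : ℂ) * ZMod.stdAddChar (j * i) := by
  classical
  set N := Subgroup.normalizer (Subgroup.zpowers z : Set G) with hN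
  have hNc : Nat.card N = q * p := by rw [hN, card_normalizer_zpowers hz hC, hE]
  set P' := (Subgroup.zpowers z).subgroupOf N with hP'
  have : P'.Normal := Subgroup.normal_subgroupOf_of_le_normalizer le_rfl
  have hzN : z ∈ N := Subgroup.le_normalizer (Subgroup.mem_zpowers z)
  have hP'c : Nat.card P' = p := by
    rw [hP', Nat.card_congr (Subgroup.subgroupOfEquivOfLe Subgroup.le_normalizer).toEquiv,
      Nat.card_zpowers, hz]
  have hQc : Nat.card (N ⧸ P') = q := by
    have h := Subgroup.card_eq_card_quotient_mul_card_subgroup P'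
    rw [hNc, hP'c] at h
    exact Nat.eq_of_mul_eq_mul_right hp.out.pos h.symm
  have hyi : ∀ i : ZMod q, i ≠ 0 → y ^ i.val ∉ Subgroup.zpowers z := by
    intro i hi hmem
    have h1 : orderOf (y ^ i.val) ∣ p := by
      have := orderOf_dvd_natCard (⟨_, hmem⟩ : Subgroup.zpowers z)
      rwa [Subgroup.orderOf_mk, Nat.card_zpowers, hz] at this
    have h2 : orderOf (y ^ i.val) ∣ q := (orderOf_pow_dvd _).trans hy.dvd
    have h3 : orderOf (y ^ i.val) = 1 :=
      Nat.dvd_one.mp ((Nat.coprime_primes hp.out hq.out).mpr hpq ▸ Nat.dvd_gcd h1 h2)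
    rw [orderOf_eq_one_iff, ← orderOf_dvd_iff_pow_eq_one, hy] at h3
    exact hi (ZMod.val_eq_zero i |>.mp (Nat.eq_zero_of_dvd_of_lt h3 (ZMod.val_lt i)))
  let g : N ⧸ P' := QuotientGroup.mk' P' ⟨y, hyN⟩
  have hg1 : g ≠ 1 := by
    intro h
    have h1 : y ∈ Subgroup.zpowers z := by
      simpa [g, hP', Subgroup.mem_subgroupOf] using (QuotientGroup.eq_one_iff _).mp h
    refine hyi 1 one_ne_zero ?_
    rwa [ZMod.val_one, pow_one]
  have hgo : orderOf g = q := by
    have h1 : orderOf g ∣ q := (orderOf_dvd_natCard g).trans hQc.dvd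
    exact ((Nat.dvd_prime hq.out).mp h1).resolve_left (by rwa [orderOf_eq_one_iff])
  have hgen : ∀ x, x ∈ Subgroup.zpowers g := fun x => mem_zpowers_of_prime_card hQc hg1
  let ζ : ZMod q → ℂˣ := fun j =>
    ((AddChar.toMonoidHomEquiv (ZMod.stdAddChar (N := q))).toHomUnits) (Multiplicative.ofAdd j)
  have hζ : ∀ j, ((ζ j : ℂˣ) : ℂ) = ZMod.stdAddChar j := fun j => by
    simp [ζ, MonoidHom.toHomUnits, AddChar.toMonoidHomEquiv]
  have hζo : ∀ j, orderOf (ζ j) ∣ orderOf g := by
    intro j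
    rw [hgo, orderOf_dvd_iff_pow_eq_one]
    apply Units.ext
    rw [Units.val_pow_eq_pow_val, hζ, Units.val_one, ← AddChar.map_nsmul_eq_pow, nsmul_eq_mul,
      ZMod.natCast_self, zero_mul, AddChar.map_zero_eq_one]
  let lam : ZMod q → (N →* ℂˣ) := fun j =>
    (monoidHomOfForallMemZpowers hgen (hζo j)).comp (QuotientGroup.mk' P')
  let F : ZMod p × ZMod q → N := fun x =>
    ⟨z ^ x.1.val * y ^ x.2.val, mul_mem (pow_mem hzN _) (pow_mem hyN _)⟩
  have hπ : ∀ x, QuotientGroup.mk' P' (F x) = g ^ x.2.val := by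
    intro x
    have h1 : F x = ⟨z ^ x.1.val, pow_mem hzN _⟩ * (⟨y, hyN⟩ : N) ^ x.2.val := by
      ext; simp [F]
    rw [h1, map_mul, map_pow]
    have h2 : QuotientGroup.mk' P' ⟨z ^ x.1.val, pow_mem hzN _⟩ = 1 := by
      rw [QuotientGroup.mk'_apply, QuotientGroup.eq_one_iff]
      exact Subgroup.pow_mem _ (Subgroup.mem_zpowers z) _
    rw [h2, one_mul]
  have hlam : ∀ j x, ((lam j (F x) : ℂˣ) : ℂ) = ZMod.stdAddChar (j * x.2) := by
    intro j x
    have h1 : lam j (F x) = ζ j ^ x.2.val := by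
      show monoidHomOfForallMemZpowers hgen (hζo j) (QuotientGroup.mk' P' (F x)) = _
      rw [hπ, map_pow, monoidHomOfForallMemZpowers_apply_gen]
    rw [h1, Units.val_pow_eq_pow_val, hζ, ← AddChar.map_nsmul_eq_pow, nsmul_eq_mul,
      ZMod.natCast_zmod_val, mul_comm]
  have hFbij : Function.Bijective F := by
    rw [Fintype.bijective_iff_injective_and_card]
    refine ⟨?_, by
      rw [Fintype.card_prod, ZMod.card, ZMod.card, ← Nat.card_eq_fintype_card, hNc, mul_comm]⟩
    intro a b hab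
    have h1 := congrArg (QuotientGroup.mk' P') hab
    rw [hπ, hπ, pow_inj_mod, hgo, Nat.mod_eq_of_lt (ZMod.val_lt _),
      Nat.mod_eq_of_lt (ZMod.val_lt _)] at h1
    have h2 : a.2 = b.2 := ZMod.val_injective q h1
    have h3 := congrArg Subtype.val hab
    simp only [F, h2] at h3
    have h4 := mul_right_cancel h3
    rw [pow_inj_mod, hz, Nat.mod_eq_of_lt (ZMod.val_lt _), Nat.mod_eq_of_lt (ZMod.val_lt _)] at h4
    exact Prod.ext (ZMod.val_injective p h4) h2
  -- the elements outside `⟨z⟩` in a coset are conjugate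
  have hconst : ∀ k : ZMod p, ∀ i : ZMod q, i ≠ 0 →
      χ.1 (z ^ k.val * y ^ i.val) = χ.1 (y ^ i.val) := by
    intro k i hi
    have hmem : ∀ a : ZMod p, z ^ a.val * y ^ i.val * (z ^ a.val)⁻¹ * (y ^ i.val)⁻¹
        ∈ Subgroup.zpowers z := by
      intro a
      have h1 : y ^ i.val * (z ^ a.val)⁻¹ * (y ^ i.val)⁻¹ ∈ Subgroup.zpowers z :=
        (Subgroup.mem_normalizer_iff.mp (pow_mem hyN i.val) _).mp
          (inv_mem (Subgroup.pow_mem _ (Subgroup.mem_zpowers z) _))
      simpa [mul_assoc] using mul_mem (Subgroup.pow_mem _ (Subgroup.mem_zpowers z) a.val) h1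
    let f : ZMod p → Subgroup.zpowers z := fun a => ⟨_, hmem a⟩
    have hf : Function.Injective f := by
      intro a b hab
      have h1 : z ^ a.val * y ^ i.val * (z ^ a.val)⁻¹ = z ^ b.val * y ^ i.val * (z ^ b.val)⁻¹ :=
        mul_right_cancel (congrArg Subtype.val hab)
      by_contra hne
      have h2 : Commute ((z ^ b.val)⁻¹ * z ^ a.val) (y ^ i.val) := by
        show _ * _ = _ * _
        calc (z ^ b.val)⁻¹ * z ^ a.val * y ^ i.val
            = (z ^ b.val)⁻¹ * (z ^ a.val * y ^ i.val * (z ^ a.val)⁻¹) * z ^ a.val := by group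
          _ = (z ^ b.val)⁻¹ * (z ^ b.val * y ^ i.val * (z ^ b.val)⁻¹) * z ^ a.val := by rw [h1]
          _ = y ^ i.val * ((z ^ b.val)⁻¹ * z ^ a.val) := by group
      have hw : (z ^ b.val)⁻¹ * z ^ a.val ≠ 1 := by
        rw [Ne, inv_mul_eq_one, pow_inj_mod, hz, Nat.mod_eq_of_lt (ZMod.val_lt _),
          Nat.mod_eq_of_lt (ZMod.val_lt _)]
        exact fun e => hne (ZMod.val_injective p e).symm
      have hwmem : (z ^ b.val)⁻¹ * z ^ a.val ∈ Subgroup.zpowers z :=
        mul_mem (inv_mem (Subgroup.pow_mem _ (Subgroup.mem_zpowers z) _))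
          (Subgroup.pow_mem _ (Subgroup.mem_zpowers z) _)
      have hgen' : Subgroup.zpowers ((z ^ b.val)⁻¹ * z ^ a.val) = Subgroup.zpowers z := by
        refine Subgroup.eq_of_le_of_card_ge (Subgroup.zpowers_le.mpr hwmem) ?_
        have hd : orderOf ((z ^ b.val)⁻¹ * z ^ a.val) ∣ p := by
          have := orderOf_dvd_natCard (⟨_, hwmem⟩ : Subgroup.zpowers z)
          rwa [Subgroup.orderOf_mk, Nat.card_zpowers, hz] at this
        rw [Nat.card_zpowers, Nat.card_zpowers, hz,
          ((Nat.dvd_prime hp.out).mp hd).resolve_left (by rwa [orderOf_eq_one_iff])]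
      refine hyi i hi ?_
      have h3 : y ^ i.val ∈ Subgroup.centralizer
          ({(z ^ b.val)⁻¹ * z ^ a.val} : Set G) :=
        Subgroup.mem_centralizer_singleton_iff.mpr h2.eq.symm
      rw [← Subgroup.centralizer_closure, ← Subgroup.zpowers_eq_closure, hgen',
        Subgroup.zpowers_eq_closure, Subgroup.centralizer_closure, hC] at h3
      exact h3
    have hfs : Function.Surjective f := ((Fintype.bijective_iff_injective_and_card f).mpr
      ⟨hf, by rw [ZMod.card, Fintype.card_zpowers, hz]⟩).2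
    obtain ⟨a, ha⟩ := hfs ⟨_, Subgroup.pow_mem _ (Subgroup.mem_zpowers z) k.val⟩
    have h4 : z ^ a.val * y ^ i.val * (z ^ a.val)⁻¹ * (y ^ i.val)⁻¹ = z ^ k.val :=
      congrArg Subtype.val ha
    exact (H26.irr_eq_of_isConj χ (isConj_iff.mpr ⟨z ^ a.val, by rw [← h4]; group⟩)).symm
  have hint : ∀ j : ZMod q, ∃ n : ℕ, ((p * q : ℕ) : ℂ) * n =
      ∑ i : ZMod q, ∑ k : ZMod p, χ.1 (z ^ k.val * y ^ i.val) * conj (ZMod.stdAddChar (j * i)) := by
    intro j
    obtain ⟨n, hn⟩ := H26.exists_nat_classInner_irr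
      (H26.isCharacter_comp (H26.irr_isCharacter χ) N.subtype)
      ⟨fun x => (lam j x : ℂ), H26.isIrrCharacter_hom (lam j)⟩
    refine ⟨n, ?_⟩
    rw [Cfsg.classInner, hNc] at hn
    rw [← hn, mul_comm q p, ← mul_assoc,
      mul_inv_cancel₀ (Nat.cast_ne_zero.mpr (Nat.mul_ne_zero hp.out.ne_zero hq.out.ne_zero)),
      one_mul, ← Fintype.sum_prod_type_right']
    exact (Fintype.sum_bijective F hFbij _ _ fun x => by rw [← hlam j x]; rfl).symm
  choose n hn using hint
  have hψ : ∀ a : ZMod q, ∑ j : ZMod q, ZMod.stdAddChar (j * a) = if a = 0 then (q : ℂ) else 0 := by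
    intro a
    have := AddChar.sum_mulShift a (ZMod.isPrimitive_stdAddChar q)
    rw [ZMod.card] at this
    rw [this]
    split_ifs <;> simp
  have hq0 : (q : ℂ) ≠ 0 := Nat.cast_ne_zero.mpr hq.out.ne_zero
  have key : ∀ a : ZMod q, (p : ℂ) * ∑ j, (n j : ℂ) * ZMod.stdAddChar (j * a) =
      ∑ k : ZMod p, χ.1 (z ^ k.val * y ^ a.val) := by
    intro a
    apply mul_left_cancel₀ hq0
    calc (q : ℂ) * ((p : ℂ) * ∑ j, (n j : ℂ) * ZMod.stdAddChar (j * a))
        = ∑ j, ((p * q : ℕ) : ℂ) * n j * ZMod.stdAddChar (j * a) := by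
          rw [Finset.mul_sum, Finset.mul_sum]
          exact Finset.sum_congr rfl fun j _ => by push_cast; ring
      _ = ∑ i : ZMod q, ∑ j : ZMod q, (∑ k : ZMod p, χ.1 (z ^ k.val * y ^ i.val)) *
            ZMod.stdAddChar (j * (a - i)) := by
          rw [Finset.sum_comm]
          refine Finset.sum_congr rfl fun j _ => ?_
          rw [hn j, Finset.sum_mul]
          refine Finset.sum_congr rfl fun i _ => ?_
          rw [← Finset.sum_mul, mul_assoc]
          congr 1
          rw [← AddChar.map_neg_eq_conj, ← AddChar.map_add_eq_mul]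
          congr 1
          ring
      _ = (q : ℂ) * ∑ k : ZMod p, χ.1 (z ^ k.val * y ^ a.val) := by
          simp only [← Finset.mul_sum, hψ, sub_eq_zero]
          rw [Finset.sum_eq_single a]
          · rw [if_pos rfl, mul_comm]
          · intro b _ hb
            rw [if_neg hb.symm, mul_zero]
          · simp
  refine ⟨n, ?_, fun i hi => ?_⟩
  · have h := key 0
    simpa [ZMod.val_zero] using h
  · apply mul_left_cancel₀ (Nat.cast_ne_zero.mpr hp.out.ne_zero : (p : ℂ) ≠ 0)
    rw [key i, Finset.sum_congr rfl fun k _ => hconst k i hi, Finset.sum_const, Finset.card_univ,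
      ZMod.card, nsmul_eq_mul]

end Cfsg.Agent.H30
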