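import Cfsg.Agent.H30.GLTwoThreeData
import Cfsg.Agent.H25.IndRep
import Cfsg.Agent.H57.VChar

/-!
# Generalized characters of GL(2,3) vanishing off the 2-singular classes of the central involution
-/

set_option autoImplicit false
set_option synthInstance.maxSize 4096
set_option maxHeartbeats 1000000
set_option maxRecDepth 4000

namespace Cfsg.Agent.H30.GLTwoThree

open scoped ComplexConjugate

/-- A function of the class. -/
noncomputable def ofTable (T : Fin 8 → ℂ) (g : M) : ℂ := T (cls g)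

theorem isClassFunction_ofTable (T : Fin 8 → ℂ) : Cfsg.IsClassFunction M (ofTable T) := by
  intro g x
  simp only [ofTable, cls_conj]

theorem sum_ofTable (T : Fin 8 → ℂ) :
    ∑ g : M, T (cls g) = T 0 + T 1 + 6 * T 2 + 8 * T 3 + 8 * T 4 + 12 * T 5 + 6 * T 6 + 6 * T 7 := by
  have hc : ∀ c : Fin 8, ∑ g ∈ Finset.univ.filter (fun g : M => cls g = c), T (cls g) =
      ((![1, 1, 6, 8, 8, 12, 6, 6] c : ℕ) : ℂ) * T c := fun c =>
    (Finset.sum_congr rfl fun g hg => congrArg T (Finset.mem_filter.mp hg).2).trans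
      ((Finset.sum_const _).trans ((nsmul_eq_mul _ _).trans
        (congrArg (fun n : ℕ => (n : ℂ) * T c) (class_card c))))
  refine ((Finset.sum_fiberwise_of_maps_to (g := cls) (t := Finset.univ)
    (fun g _ => Finset.mem_univ _) fun g => T (cls g)).symm.trans
    (Finset.sum_congr rfl fun c _ => hc c)).trans ?_
  simp only [Fin.sum_univ_eight, Matrix.cons_val]
  push_cast
  ring

theorem classInner_ofTable (T U : Fin 8 → ℂ) :
    Cfsg.classInner (ofTable T) (ofTable U) =
      (48 : ℂ)⁻¹ * (T 0 * conj (U 0) + T 1 * conj (U 1) + 6 * (T 2 * conj (U 2)) +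
        8 * (T 3 * conj (U 3)) + 8 * (T 4 * conj (U 4)) + 12 * (T 5 * conj (U 5)) +
        6 * (T 6 * conj (U 6)) + 6 * (T 7 * conj (U 7))) := by
  have h48 : ((Nat.card M : ℕ) : ℂ) = 48 := by
    rw [Nat.card_eq_fintype_card, card_M]; norm_num
  rw [Cfsg.classInner, h48]
  exact congrArg _ (sum_ofTable fun c => T c * conj (U c))

/-- An induced character from integral values. -/
theorem indFun_int (K : Subgroup M) [DecidablePred (· ∈ K)] (f : M → ℤ) (n : ℕ)
    (hn : (Finset.univ.filter fun g : M => g ∈ K).card = n) (T : Fin 8 → ℤ)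
    (h : ∀ c : Fin 8, (∑ x : M, if x⁻¹ * rep c * x ∈ K then f (x⁻¹ * rep c * x) else 0) =
      (n : ℤ) * T c) :
    Cfsg.indFun K (fun k : K => (f k : ℂ)) = ofTable fun c => (T c : ℂ) := by
  funext g
  obtain ⟨x, hx⟩ := exists_conj g
  have hc := H25.isClassFunction_indFun K (fun k : K => (f k : ℂ)) (rep (cls g)) x
  rw [hx] at hc
  rw [hc, H25.indFun_apply, Nat.card_eq_fintype_card, Fintype.card_subtype, hn]
  have hn0 : (n : ℂ) ≠ 0 := by
    rw [← hn, Nat.cast_ne_zero]
    exact Finset.card_ne_zero.mpr ⟨1, by simp [one_mem]⟩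
  have e : ∀ x : M, Cfsg.extendByZero K (fun k : K => (f k : ℂ)) (x⁻¹ * rep (cls g) * x) =
      (((if x⁻¹ * rep (cls g) * x ∈ K then f (x⁻¹ * rep (cls g) * x) else 0) : ℤ) : ℂ) := by
    intro x
    by_cases hm : x⁻¹ * rep (cls g) * x ∈ K
    · rw [H25.extendByZero_of_mem _ _ hm, if_pos hm]
    · rw [H25.extendByZero_of_notMem _ _ hm, if_neg hm, Int.cast_zero]
  rw [Finset.sum_congr rfl fun x _ => e x, ← Int.cast_sum, h, Int.cast_mul, Int.cast_natCast,
    ← mul_assoc, inv_mul_cancel₀ hn0, one_mul]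
  rfl

/-- The determinant as a character. -/
noncomputable def sgnHom : M →* ℂˣ where
  toFun g := if dt g = 1 then 1 else -1
  map_one' := if_pos (by decide +kernel)
  map_mul' g h := by
    have := sgn_mul g h
    simp only [sgn] at this
    split_ifs at this ⊢ <;> simp_all

theorem sgnHom_val (g : M) : (sgnHom g : ℂ) = (sgn g : ℂ) := by
  show (((if dt g = 1 then (1 : ℂˣ) else -1) : ℂˣ) : ℂ) = _
  rw [sgn]
  split_ifs <;> simp

theorem gen_perm (K : Subgroup M) [DecidablePred (· ∈ K)] (n : ℕ)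
    (hn : (Finset.univ.filter fun g : M => g ∈ K).card = n) (T : Fin 8 → ℤ)
    (h : ∀ c : Fin 8, (∑ x : M, if x⁻¹ * rep c * x ∈ K then (1 : ℤ) else 0) = (n : ℤ) * T c) :
    Cfsg.IsGeneralizedCharacter M (ofTable fun c => (T c : ℂ)) := by
  rw [← indFun_int K (fun _ => 1) n hn T h]
  exact H57.gen_of_char (H25.isCharacter_indFun _ (by
    have h1 := H26.irr_isCharacter (H26.oneIrr K)
    rw [show (fun k : K => (((fun _ => 1 : M → ℤ) k : ℤ) : ℂ)) = (H26.oneIrr K).1 from
      funext fun k => by simp [H26.oneIrr_val]]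
    exact h1))

theorem gen_permBorel :
    Cfsg.IsGeneralizedCharacter M (ofTable fun c => ((![4, 4, 0, 1, 1, 2, 0, 0] c : ℤ) : ℂ)) :=
  gen_perm borel 12 card_borel _ permBorel_count

theorem gen_permVec :
    Cfsg.IsGeneralizedCharacter M (ofTable fun c => ((![8, 0, 0, 2, 0, 2, 0, 0] c : ℤ) : ℂ)) :=
  gen_perm fixVec 6 card_fixVec _ permVec_count

theorem gen_permThree :
    Cfsg.IsGeneralizedCharacter M (ofTable fun c => ((![3, 3, 3, 0, 0, 1, 1, 1] c : ℤ) : ℂ)) :=
  gen_perm semidihedral 16 card_semidihedral _ permThree_count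

theorem gen_sgn :
    Cfsg.IsGeneralizedCharacter M (ofTable fun c => ((![1, 1, 1, 1, 1, -1, -1, -1] c : ℤ) : ℂ)) := by
  have h : (ofTable fun c => ((![1, 1, 1, 1, 1, -1, -1, -1] c : ℤ) : ℂ)) =
      fun g : M => (sgnHom g : ℂ) := by
    funext g
    rw [sgnHom_val, ofTable]
    exact congrArg _ (sgn_table g)
  rw [h]
  exact H57.gen_of_irr (H26.isIrrCharacter_hom sgnHom)

theorem gen_borelSgn :
    Cfsg.IsGeneralizedCharacter M (ofTable fun c => ((![4, 4, 0, 1, 1, -2, 0, 0] c : ℤ) : ℂ)) := by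
  rw [← indFun_int borel sgn 12 card_borel _ borelSgn_count]
  refine H57.gen_of_char (H25.isCharacter_indFun _ ?_)
  have h : (fun k : borel => ((sgn k : ℤ) : ℂ)) = fun k => ((sgnHom.comp borel.subtype) k : ℂ) :=
    funext fun k => (sgnHom_val k).symm
  rw [h]
  exact H26.irr_isCharacter ⟨_, H26.isIrrCharacter_hom (sgnHom.comp borel.subtype)⟩

/-- A primitive eighth root of unity. -/
theorem exists_zeta : ∃ ζ : ℂ, ζ ^ 4 = -1 ∧ conj ζ * ζ = 1 := by
  obtain ⟨ζ, hζ⟩ := IsAlgClosed.exists_pow_nat_eq (-1 : ℂ) (n := 4) (by norm_num)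
  refine ⟨ζ, hζ, ?_⟩
  have h8 : ζ ^ 8 = 1 := by rw [show 8 = 4 * 2 by norm_num, pow_mul, hζ]; norm_num
  rw [mul_comm, Complex.mul_conj, Complex.normSq_eq_norm_sq,
    Complex.norm_eq_one_of_pow_eq_one h8 (by norm_num)]
  simp

/-- The character induced from a faithful linear character of the cyclic subgroup of order
eight. -/
theorem gen_indEight (ζ : ℂ) (hζ : ζ ^ 4 = -1) : Cfsg.IsGeneralizedCharacter M
    (ofTable ![6, -6, 0, 0, 0, 0, ζ + ζ ^ 3, -(ζ + ζ ^ 3)]) := by
  classical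
  have h8 : ζ ^ 8 = 1 := by rw [show 8 = 4 * 2 by norm_num, pow_mul, hζ]; norm_num
  have h0 : ζ ≠ 0 := fun h => by rw [h] at hζ; norm_num at hζ
  have hidx : idx 1 = 0 := by decide +kernel
  let f : cyclicEight →* ℂˣ :=
    { toFun := fun k => Units.mk0 (ζ ^ idx k) (pow_ne_zero _ h0)
      map_one' := by ext; simp [hidx]
      map_mul' := fun a b => by
        ext
        simp only [Units.val_mul, Units.val_mk0, Subgroup.coe_mul, idx_mul _ _ a.2 b.2, ← pow_add]
        exact (pow_eq_pow_mod _ h8).symm }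
  have hval : Cfsg.indFun cyclicEight (fun k => ((f k : ℂˣ) : ℂ)) =
      ofTable ![6, -6, 0, 0, 0, 0, ζ + ζ ^ 3, -(ζ + ζ ^ 3)] := by
    funext g
    obtain ⟨x, hx⟩ := exists_conj g
    have hc := H25.isClassFunction_indFun cyclicEight (fun k => ((f k : ℂˣ) : ℂ)) (rep (cls g)) x
    rw [hx] at hc
    rw [hc, H25.indFun_apply, Nat.card_eq_fintype_card, Fintype.card_subtype, card_cyclicEight,
      ofTable]
    have e : ∀ x : M, Cfsg.extendByZero cyclicEight (fun k => ((f k : ℂˣ) : ℂ))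
        (x⁻¹ * rep (cls g) * x) = ∑ j : Fin 8,
          if x⁻¹ * rep (cls g) * x ∈ cyclicEight ∧ idx (x⁻¹ * rep (cls g) * x) = (j : ℕ) then
            ζ ^ (j : ℕ) else 0 := by
      intro x
      by_cases hm : x⁻¹ * rep (cls g) * x ∈ cyclicEight
      · rw [H25.extendByZero_of_mem _ _ hm]
        have hlt : idx (x⁻¹ * rep (cls g) * x) < 8 := by unfold idx; split_ifs <;> norm_num
        rw [Finset.sum_eq_single (⟨_, hlt⟩ : Fin 8)]
        · rw [if_pos ⟨hm, rfl⟩]; rfl
        · intro j _ hj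
          rw [if_neg fun h => hj (Fin.ext h.2.symm)]
        · exact fun h => absurd (Finset.mem_univ _) h
      · rw [H25.extendByZero_of_notMem _ _ hm, Finset.sum_eq_zero]
        intro j _
        rw [if_neg fun h => hm h.1]
    rw [Finset.sum_congr rfl fun x _ => e x, Finset.sum_comm]
    simp only [← Finset.sum_filter, Finset.sum_const, idx_count, nsmul_eq_mul, Fin.sum_univ_eight]
    generalize cls g = c
    have h5 : ζ ^ 5 = -ζ := by rw [pow_succ, hζ]; ring
    have h6 : ζ ^ 6 = -ζ ^ 2 := by rw [show 6 = 4 + 2 by norm_num, pow_add, hζ]; ring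
    have h7 : ζ ^ 7 = -ζ ^ 3 := by rw [show 7 = 4 + 3 by norm_num, pow_add, hζ]; ring
    fin_cases c <;> simp [hζ, h5, h6, h7] <;> ring
  rw [← hval]
  exact H57.gen_of_char (H25.isCharacter_indFun _
    (H26.irr_isCharacter ⟨_, H26.isIrrCharacter_hom f⟩))

/-- The functions used, with the classes in the order `1, τ, i, x, τx, r, e, e'`. -/
noncomputable def T2 : Fin 8 → ℂ := ![0, 8, 0, 0, 2, 0, 2, 2]

/-- See `T2`. -/
noncomputable def T3 : Fin 8 → ℂ := ![0, 8, 0, 0, 2, 0, -2, -2]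

/-- See `T2`. -/
noncomputable def TS (s : ℂ) : Fin 8 → ℂ := ![0, 4, 2, 0, -2, 0, -s, s]

/-- See `T2`. -/
noncomputable def TW (s : ℂ) : Fin 8 → ℂ := ![0, -4, 2, 0, 2, 0, 2 + s, 2 - s]

/-- A table vanishing off the classes of elements powering to the central involution. -/
def Vanishes (T : Fin 8 → ℂ) : Prop := T 0 = 0 ∧ T 3 = 0 ∧ T 5 = 0

/-- What is needed of the functions. -/
structure Lattice where
  /-- `√-2`. -/
  s : ℂ
  gen2 : Cfsg.IsGeneralizedCharacter M (ofTable T2)
  gen3 : Cfsg.IsGeneralizedCharacter M (ofTable T3)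
  genS : Cfsg.IsGeneralizedCharacter M (ofTable (TS s))
  genW : Cfsg.IsGeneralizedCharacter M (ofTable (TW s))
  genW' : Cfsg.IsGeneralizedCharacter M (ofTable (TW (-s)))
  conj_s : conj s = -s
  sq_s : s * s = -2

theorem ofTable_eq {T U : Fin 8 → ℂ} (h : ∀ c, T c = U c) : ofTable T = ofTable U := by
  rw [funext h]

theorem exists_lattice : Nonempty Lattice := by
  obtain ⟨ζ, hζ, hconj⟩ := exists_zeta
  set s := ζ + ζ ^ 3 with hs
  have hs2 : s * s = -2 := by
    rw [hs]; linear_combination (ζ ^ 2 + 2) * hζ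
  have hcs : conj s = -s := by
    have h0 : ζ ≠ 0 := fun h => by rw [h] at hζ; norm_num at hζ
    have hc : conj ζ = -ζ ^ 3 := by
      apply mul_right_cancel₀ h0
      rw [hconj]; linear_combination hζ
    rw [hs, map_add, map_pow, hc]
    linear_combination (-ζ ^ 5 + ζ) * hζ
  have hone : Cfsg.IsGeneralizedCharacter M (ofTable fun _ => 1) :=
    H57.gen_of_irr (H26.oneIrr M).2
  have hmix : ∀ {a b : Fin 8 → ℂ}, Cfsg.IsGeneralizedCharacter M (ofTable a) →
      Cfsg.IsGeneralizedCharacter M (ofTable b) →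
      Cfsg.IsGeneralizedCharacter M (ofTable fun c => a c + b c) := fun ha hb => H57.gen_add ha hb
  have hsub : ∀ {a b : Fin 8 → ℂ}, Cfsg.IsGeneralizedCharacter M (ofTable a) →
      Cfsg.IsGeneralizedCharacter M (ofTable b) →
      Cfsg.IsGeneralizedCharacter M (ofTable fun c => a c - b c) := fun ha hb => H57.gen_sub ha hb
  have hW : ∀ ξ : ℂ, ξ ^ 4 = -1 →
      Cfsg.IsGeneralizedCharacter M (ofTable (TW (ξ + ξ ^ 3))) := fun ξ hξ => by
    have h := hsub (hmix (hmix hone hone) (gen_indEight ξ hξ)) gen_permVec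
    rw [ofTable_eq (U := fun c => _)]
    · exact h
    · intro c
      fin_cases c <;> simp [TW] <;> ring
  refine ⟨⟨s, ?_, ?_, ?_, hW ζ hζ, ?_, hcs, hs2⟩⟩
  · have h := hmix (hsub (hsub (hmix hone gen_borelSgn) gen_sgn) gen_permVec) gen_permBorel
    rw [ofTable_eq (U := fun c => _)]
    · exact h
    · intro c
      fin_cases c <;> simp [T2] <;> ring
  · have h := hsub (hsub (hmix (hmix gen_sgn gen_permBorel) gen_permBorel) hone) gen_permVec
    rw [ofTable_eq (U := fun c => _)]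
    · exact h
    · intro c
      fin_cases c <;> simp [T3] <;> ring
  · have h := hsub (hmix (hsub (hsub gen_permThree hone) (gen_indEight ζ hζ)) gen_permVec)
      gen_permBorel
    rw [ofTable_eq (U := fun c => _)]
    · exact h
    · intro c
      fin_cases c <;> simp [TS, hs] <;> ring
  · have hξ : (-ζ) ^ 4 = -1 := by rw [← hζ]; ring
    have h := hW (-ζ) hξ
    rwa [show -ζ + (-ζ) ^ 3 = -s by rw [hs]; ring] at h

end Cfsg.Agent.H30.GLTwoThree
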