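import Cfsg.Agent.H30.DegreeEquation
import Cfsg.Agent.H38.ClassCoeff
import Cfsg.Agent.H25.CharValues

/-!
# The class multiplication identity for involutions against a self-centralising prime element
-/

set_option autoImplicit false

namespace Cfsg.Agent.H30

open Finset
open scoped ComplexConjugate

variable {G : Type*} [Group G] [Fintype G] [IsSimpleGroup G]

/-- An irreducible character of a non-abelian simple group takes an integer value at an
involution, smaller in absolute value than its degree unless the character is trivial. -/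
theorem exists_int_value_involution (hG : ¬ IsMulCommutative G) {u : G} (hu : orderOf u = 2)
    (χ : Cfsg.IrrCharacter G) (d : ℕ) (hd : χ.1 1 = (d : ℂ)) :
    ∃ a : ℤ, χ.1 u = (a : ℂ) ∧ (χ ≠ H26.oneIrr G → |a| < d) := by
  classical
  obtain ⟨n, ρ, hρ, e⟩ := χ.2
  obtain ⟨μ, hμ, hsum⟩ := H25.exists_char_eq_sum_roots ρ u
  rw [hu] at hμ
  have hone : χ.1 1 = (Module.finrank ℂ (Fin n → ℂ) : ℂ) := by rw [← e, ρ.char_one]
  have hdn : d = Module.finrank ℂ (Fin n → ℂ) := by exact_mod_cast hd.symm.trans hone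
  let s : Fin (Module.finrank ℂ (Fin n → ℂ)) → ℤ := fun i => if μ i = 1 then 1 else -1
  have hs : ∀ i, μ i = (s i : ℂ) := fun i => by
    rcases sq_eq_one_iff.mp (hμ i) with h | h <;> simp [s, h]
  have hsum' : χ.1 u = ((∑ i, s i : ℤ) : ℂ) := by
    rw [← e, hsum, Int.cast_sum]
    exact Finset.sum_congr rfl fun i _ => hs i
  have hle : |∑ i, s i| ≤ (d : ℤ) := by
    refine (Finset.abs_sum_le_sum_abs _ _).trans ?_
    rw [hdn]
    refine le_trans (le_of_eq (Finset.sum_congr rfl (g := fun _ => (1 : ℤ)) fun i _ => ?_))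
      (le_of_eq (by simp))
    simp only [s]; split_ifs <;> simp
  refine ⟨∑ i, s i, hsum', fun hne => lt_of_le_of_ne hle fun heq => ?_⟩
  have hscal := H25.apply_eq_smul_id_of_norm_eq ρ u (by
    rw [congrFun e u, hsum', Complex.norm_intCast, ← Int.cast_abs, heq, Int.cast_natCast]
    exact_mod_cast hdn)
  let f : G →* Module.End ℂ (Fin n → ℂ) := ρ
  let fu : G →* (Module.End ℂ (Fin n → ℂ))ˣ := f.toHomUnits
  rcases IsSimpleGroup.eq_bot_or_eq_top_of_normal fu.ker inferInstance with h | h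
  · have hinj := (MonoidHom.ker_eq_bot_iff fu).mp h
    have hc : ∀ g, g * u = u * g := by
      intro g
      apply hinj
      apply Units.ext
      show f (g * u) = f (u * g)
      rw [map_mul, map_mul]
      show f g * ρ u = ρ u * f g
      rw [hscal, mul_smul_comm, smul_mul_assoc]
      rfl
    have hz : u ∈ Subgroup.center G := Subgroup.mem_center_iff.mpr hc
    rcases IsSimpleGroup.eq_bot_or_eq_top_of_normal (Subgroup.center G) inferInstance with h' | h'
    · rw [h', Subgroup.mem_bot] at hz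
      rw [hz, orderOf_one] at hu
      norm_num at hu
    · exact hG ⟨⟨fun a b => Subgroup.mem_center_iff.mp (h' ▸ Subgroup.mem_top b) a⟩⟩
  · -- trivial representation: the character is constant, hence equal to the trivial one
    have hconst : ∀ g, χ.1 g = (d : ℂ) := by
      intro g
      have hg : g ∈ fu.ker := h ▸ Subgroup.mem_top g
      have hg' : ρ g = 1 := congrArg Units.val (MonoidHom.mem_ker.mp hg)
      rw [← congrFun e g, hdn, H25.char_eq_degree_iff]
      exact hg'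
    have h1 := H26.classInner_irr χ χ
    rw [if_pos rfl, Cfsg.classInner] at h1
    simp only [hconst, Complex.conj_natCast, Finset.sum_const, Finset.card_univ, nsmul_eq_mul,
      ← Nat.card_eq_fintype_card] at h1
    rw [← mul_assoc, inv_mul_cancel₀ (Nat.cast_ne_zero.mpr Nat.card_pos.ne'), one_mul] at h1
    have hd1 : d = 1 := by
      have : d * d = 1 := by exact_mod_cast h1
      exact Nat.eq_one_of_mul_eq_one_left this
    exact hne (Subtype.ext (funext fun g => by rw [hconst g, hd1, H26.oneIrr_val, Nat.cast_one]))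

/-- For `e = 2`: a signed degree `x` with, for every involution `u`, integers `A`, `L` satisfying
`|G| (x - A)^2 = L |C(u)|^2 x (x - 1)`. -/
theorem involution_equation_of_two (hG : ¬ IsMulCommutative G) {p : ℕ} [hp : Fact p.Prime]
    (hp2 : p ≠ 2) {z : G} (hz : orderOf z = p)
    (hC : Subgroup.centralizer ({z} : Set G) = Subgroup.zpowers z) (t : ℕ)
    (he : (conjExps p z).card = 2) (het : 2 * t = p - 1) (ht : 2 ≤ t) :
    ∃ x : ℤ, 2 ≤ x.natAbs ∧ (p : ℤ) ∣ x + 1 ∧ x.natAbs ∣ Nat.card G ∧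
      (1 - x).natAbs ∣ Nat.card G ∧ 2 ≤ (1 - x).natAbs ∧
      x ^ 2 + t * (1 - x) ^ 2 < Nat.card G ∧
      ∀ u : G, orderOf u = 2 → ∃ (A : ℤ) (L : ℕ), |A| < |x| ∧
        (Nat.card G : ℤ) * (x - A) ^ 2 =
          L * (Nat.card (Subgroup.centralizer ({u} : Set G)) : ℤ) ^ 2 * (x * (x - 1)) := by
  classical
  obtain ⟨d, c, K, ε, C, D, hε, hK, h1K, hd1, hc1, hKv, hq, hsum, hcong, hd, hsq, hdv, ⟨hvR, hvK⟩,
    hu⟩ := degree_equation hG hz hC 2 t he het ht
  set o := H26.oneIrr G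
  set R := (univ.erase o) \ K with hR
  have hKsub : K ⊆ univ.erase o := fun k hk => mem_erase.mpr ⟨fun e => h1K (e ▸ hk), mem_univ k⟩
  have split : ∀ {M : Type} [AddCommMonoid M] (f : Cfsg.IrrCharacter G → M),
      ∑ χ, f χ = f o + (∑ χ ∈ R, f χ + ∑ χ ∈ K, f χ) := by
    intro M _ f
    rw [Finset.sum_sdiff hKsub, Finset.add_sum_erase _ _ (mem_univ o)]
  -- rewrite the data with `η = 2 C ε' + ε`, the effective exceptional sign
  rw [split, hc1, Finset.sum_congr rfl (fun k hk => by rw [(hKv k hk).2] : ∀ k ∈ K, c k ^ 2 = C ^ 2),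
    Finset.sum_const, hK, nsmul_eq_mul] at hq
  rw [split, hc1, hd1,
    Finset.sum_congr rfl (fun k hk => by rw [(hKv k hk).1, (hKv k hk).2] :
      ∀ k ∈ K, (d k : ℤ) * c k = (D : ℤ) * C),
    Finset.sum_const, hK, nsmul_eq_mul] at hsum
  push_cast at hq hsum
  have hRnn : 0 ≤ ∑ χ ∈ R, c χ ^ 2 := Finset.sum_nonneg fun χ _ => sq_nonneg _
  have ht2 : (2 : ℤ) ≤ t := by exact_mod_cast ht
  have hCC : C = 0 ∨ (C = -ε ∧ t ≤ 3) := by
    by_cases h0 : C = 0
    · exact Or.inl h0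
    · right
      have h1 : 1 ≤ C ^ 2 := by rcases lt_or_gt_of_ne h0 with h | h <;> nlinarith
      have h4 := mul_le_mul_of_nonneg_right ht2 (sq_nonneg C)
      have h2 : C = -ε := by
        rcases hε with rfl | rfl <;> nlinarith [sq_nonneg (C + 1), sq_nonneg (C - 1)]
      refine ⟨h2, ?_⟩
      subst h2
      rcases hε with rfl | rfl <;> norm_num at hq <;> omega
  have hdata : ∃ η : ℤ, (η = 1 ∨ η = -1) ∧ (t : ℤ) * C + ε = η ∧ ∑ χ ∈ R, c χ ^ 2 = 1 := by
    rcases hCC with rfl | ⟨rfl, ht3⟩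
    · exact ⟨ε, hε, by ring, by norm_num at hq; omega⟩
    · interval_cases t
      · refine ⟨-ε, by rcases hε with rfl | rfl <;> norm_num, by push_cast; ring, ?_⟩
        rcases hε with rfl | rfl <;> norm_num at hq ⊢ <;> omega
      · exfalso
        have hR0 : ∀ χ ∈ R, c χ = 0 := by
          intro χ hχ
          have h := Finset.single_le_sum (fun y _ => sq_nonneg (c y)) hχ
          have : c χ ^ 2 ≤ 0 := by rcases hε with rfl | rfl <;> norm_num at hq <;> omega
          nlinarith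
        rw [Finset.sum_eq_zero (s := R) fun χ hχ => by rw [hR0 χ hχ, mul_zero]] at hsum
        push_cast at hsum
        rcases hε with rfl | rfl <;> omega
  obtain ⟨η, hη, hηeq, hR1⟩ := hdata
  obtain ⟨χ₁, hχ₁, hne1⟩ : ∃ χ ∈ R, c χ ≠ 0 := by
    by_contra h
    push Not at h
    rw [Finset.sum_eq_zero fun χ hχ => by rw [h χ hχ]; norm_num] at hR1
    norm_num at hR1
  rw [← Finset.add_sum_erase _ _ hχ₁] at hR1
  have hnn : 0 ≤ ∑ χ ∈ R.erase χ₁, c χ ^ 2 := Finset.sum_nonneg fun χ _ => sq_nonneg _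
  have hsq1 : c χ₁ ^ 2 = 1 := by
    have : 1 ≤ c χ₁ ^ 2 := by
      rcases lt_or_gt_of_ne hne1 with h | h <;> nlinarith
    omega
  have hz0 : ∀ χ ∈ R.erase χ₁, c χ = 0 := fun χ hχ =>
    pow_eq_zero_iff (two_ne_zero) |>.mp
      (le_antisymm ((Finset.single_le_sum (fun y _ => sq_nonneg (c y)) hχ).trans (by omega))
        (sq_nonneg _))
  have hc1' : c χ₁ = 1 ∨ c χ₁ = -1 := sq_eq_one_iff.mp hsq1
  obtain ⟨hχ1o, hχ1K⟩ := Finset.mem_sdiff.mp hχ₁
  have hne_o : χ₁ ≠ o := ne_of_mem_erase hχ1o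
  rw [← Finset.add_sum_erase _ _ hχ₁,
    Finset.sum_eq_zero (s := R.erase χ₁) fun χ hχ => by rw [hz0 χ hχ, mul_zero]] at hsum
  set x : ℤ := (d χ₁ : ℤ) * c χ₁ with hx
  have hηD : η * (D : ℤ) = 1 - x := by rw [← hηeq]; linarith
  obtain ⟨k0, hk0⟩ := Finset.card_pos.mp (show 0 < K.card by omega)
  have hDk : d k0 = D := (hKv k0 hk0).1
  have hk0o : k0 ≠ o := fun e => h1K (e ▸ hk0)
  have hge2 : ∀ χ, χ ≠ o → 2 ≤ d χ := fun χ hχ => by
    obtain ⟨a, -, b⟩ := hd χ
    by_contra h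
    exact hχ (b (by omega))
  have hxabs : x.natAbs = d χ₁ := by rcases hc1' with h | h <;> simp [hx, h]
  have hDabs : (1 - x).natAbs = D := by rw [← hηD]; rcases hη with h | h <;> simp [h]
  refine ⟨x, hxabs ▸ hge2 χ₁ hne_o, ?_, hxabs ▸ (hd χ₁).2.1, hDabs ▸ hDk ▸ (hd k0).2.1,
    hDabs ▸ hDk ▸ hge2 k0 hk0o, ?_, ?_⟩
  · obtain ⟨q, hq'⟩ := (hcong χ₁).2 hχ1K
    rcases hc1' with h | h <;> rw [h] at hq'
    · exact ⟨q, by rw [hx, h, mul_one]; exact hq'⟩
    · exact ⟨-q, by rw [hx, h, mul_neg, mul_one, mul_neg]; linarith⟩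
  · have h1 : 1 + (d χ₁ ^ 2 + t * D ^ 2) ≤ ∑ χ, d χ ^ 2 := by
      rw [← Finset.add_sum_erase _ _ (mem_univ o), hd1, ← Finset.sum_sdiff hKsub,
        Finset.sum_congr rfl (fun k hk => by rw [(hKv k hk).1] : ∀ k ∈ K, d k ^ 2 = D ^ 2),
        Finset.sum_const, hK, smul_eq_mul, one_pow]
      gcongr
      exact Finset.single_le_sum (fun y _ => Nat.zero_le (d y ^ 2)) hχ₁
    rw [hsq] at h1
    have h2 : x ^ 2 = (d χ₁ : ℤ) ^ 2 := by rw [hx, mul_pow, hsq1, mul_one]
    have h3 : (1 - x) ^ 2 = (D : ℤ) ^ 2 := by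
      rw [← hηD, mul_pow]; rcases hη with h | h <;> simp [h]
    rw [h2, h3]
    exact_mod_cast (by omega : d χ₁ ^ 2 + t * D ^ 2 < Nat.card G)
  intro u hu2
  have hnc : ∀ i : ℕ, ¬ IsConj u (z ^ i) := by
    intro i h
    obtain ⟨g, hg⟩ := isConj_iff.mp h
    have h1 : orderOf (z ^ i) = 2 := by
      rw [← hg, ← hu2]
      exact orderOf_injective (MulAut.conj g).toMonoidHom (MulAut.conj g).injective u
    have h2 : orderOf (z ^ i) ∣ p := hz ▸ orderOf_pow_dvd i
    rw [h1] at h2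
    exact hp2 ((Nat.prime_dvd_prime_iff_eq Nat.prime_two hp.out).mp h2).symm
  obtain ⟨θ, hθ, hor⟩ := hu u hnc
  obtain ⟨a, ha, ha'⟩ := exists_int_value_involution hG hu2 χ₁ (d χ₁) (hdv χ₁)
  set A : ℤ := a * c χ₁ with hA
  have hsumθ : (η : ℂ) * θ = 1 - (A : ℂ) := by
    rw [split, ← Finset.add_sum_erase _ _ hχ₁,
      Finset.sum_eq_zero (s := R.erase χ₁) fun χ hχ => by rw [hz0 χ hχ, Int.cast_zero, mul_zero],
      Finset.sum_congr rfl (fun k hk => by rw [hθ k hk, (hKv k hk).2] :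
        ∀ k ∈ K, k.1 u * (c k : ℂ) = θ * (C : ℂ)),
      Finset.sum_const, hK, nsmul_eq_mul, hc1, ha] at hor
    simp only [H26.oneIrr_val, o] at hor
    rw [← hηeq]
    push_cast [hA] at hor ⊢
    linear_combination hor
  set P := {q : G × G // IsConj u q.1 ∧ IsConj u q.2 ∧ q.1 * q.2 = z}
  refine ⟨A, Nat.card P, ?_, ?_⟩
  · rw [hA, hx, abs_mul, abs_mul, Nat.abs_cast]
    have h1 : |c χ₁| = 1 := by rcases hc1' with h | h <;> simp [h]
    rw [h1, mul_one, mul_one]
    exact ha' hne_o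
  have hform := H38.class_coeff u u z
  set Cu := Nat.card (Subgroup.centralizer ({u} : Set G)) with hCu
  have hclass : (Nat.card {y : G // IsConj u y} : ℂ) * (Cu : ℂ) = (Nat.card G : ℂ) := by
    have := (Subgroup.centralizer ({u} : Set G)).index_mul_card
    rw [H25.index_centralizer_eq_card_class] at this
    exact_mod_cast this
  have hterm : ∑ χ : Cfsg.IrrCharacter G, χ.1 u * χ.1 u * conj (χ.1 z) / χ.1 1 =
      1 - (A : ℂ) ^ 2 / (x : ℂ) - (η : ℂ) * θ ^ 2 / (D : ℂ) := by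
    rw [split, ← Finset.add_sum_erase _ _ hχ₁, hdv o, hd1,
      Finset.sum_eq_zero (s := R.erase χ₁) (fun χ hχ => by
        rw [hvR χ (Finset.mem_sdiff.mp (mem_of_mem_erase hχ)).2, hz0 χ hχ]
        simp)]
    have hKsum : ∑ k ∈ K, k.1 u * k.1 u * conj (k.1 z) / k.1 1 =
        θ ^ 2 / (D : ℂ) * conj (∑ k ∈ K, k.1 z) := by
      rw [map_sum, Finset.mul_sum]
      refine Finset.sum_congr rfl fun k hk => ?_
      rw [hθ k hk, hdv k, (hKv k hk).1]
      ring
    rw [hKsum, hvK, hvR χ₁ hχ1K, ha, hdv χ₁]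
    simp only [o, H26.oneIrr_val, map_one, map_neg, map_add, map_mul, map_intCast, map_natCast,
      Nat.cast_one, div_one, mul_one, add_zero]
    rw [hA, hx, ← hηeq]
    push_cast
    have hd0 : (d χ₁ : ℂ) ≠ 0 := Nat.cast_ne_zero.mpr (hd χ₁).1.ne'
    rcases hc1' with h | h <;> rw [h] <;> push_cast <;> field_simp <;> ring
  rw [hterm] at hform
  have hD0 : (D : ℂ) ≠ 0 := Nat.cast_ne_zero.mpr (hDk ▸ (hd k0).1).ne'
  have hG0 : (Nat.card G : ℂ) ≠ 0 := Nat.cast_ne_zero.mpr Nat.card_pos.ne'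
  have hη2 : (η : ℂ) ^ 2 = 1 := by rcases hη with h | h <;> simp [h]
  have hηD' : (η : ℂ) * (D : ℂ) = 1 - (x : ℂ) := by exact_mod_cast hηD
  have hθD : (η : ℂ) * θ ^ 2 / (D : ℂ) = (1 - (A : ℂ)) ^ 2 / (1 - (x : ℂ)) := by
    rw [← hsumθ, ← hηD']
    have hη0 : (η : ℂ) ≠ 0 := by rcases hη with h | h <;> simp [h]
    field_simp
  rw [hθD] at hform
  have hx0 : (x : ℂ) ≠ 0 := Int.cast_ne_zero.mpr (by intro h; have := hge2 χ₁ hne_o; omega)
  have hx1 : (1 : ℂ) - (x : ℂ) ≠ 0 := by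
    rw [← hηD']
    exact mul_ne_zero (by rcases hη with h | h <;> simp [h]) hD0
  have hCu0 : (Cu : ℂ) ≠ 0 := Nat.cast_ne_zero.mpr Nat.card_pos.ne'
  have hcl : (Nat.card {y : G // IsConj u y} : ℂ) = (Nat.card G : ℂ) / (Cu : ℂ) := by
    rw [eq_div_iff hCu0, hclass]
  rw [hcl] at hform
  have goal' : (Nat.card G : ℂ) * ((x : ℂ) - A) ^ 2 =
      (Nat.card P : ℂ) * (Cu : ℂ) ^ 2 * ((x : ℂ) * ((x : ℂ) - 1)) := by
    rw [hform]
    field_simp
    ring
  exact_mod_cast goal'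

end Cfsg.Agent.H30
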