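import Cfsg.Agent.H30.DegreeEquation
import Cfsg.Agent.H25.CharValues

/-!
# The principal 11-block of a simple group of order 7920
-/

set_option autoImplicit false
set_option synthInstance.maxSize 8192
set_option maxHeartbeats 1600000

namespace Cfsg.Agent.H30.Order7920

open Finset
open scoped ComplexConjugate

variable {G : Type*} [Group G] [Fintype G] [IsSimpleGroup G]

/-- A non-trivial irreducible character of a simple group attains its degree only at `1`. -/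
theorem eq_one_of_value_eq_degree (χ : Cfsg.IrrCharacter G) (hχ : χ ≠ H26.oneIrr G) (d : ℕ)
    (hd : χ.1 1 = (d : ℂ)) (g : G) (hg : χ.1 g = (d : ℂ)) (hd1 : d = 1 → χ = H26.oneIrr G) :
    g = 1 := by
  classical
  obtain ⟨n, ρ, hρ, e⟩ := χ.2
  have hone : χ.1 1 = (Module.finrank ℂ (Fin n → ℂ) : ℂ) := by rw [← e, ρ.char_one]
  have hdn : d = Module.finrank ℂ (Fin n → ℂ) := by exact_mod_cast hd.symm.trans hone
  let f : G →* Module.End ℂ (Fin n → ℂ) := ρ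
  let fu : G →* (Module.End ℂ (Fin n → ℂ))ˣ := f.toHomUnits
  have hgk : g ∈ fu.ker := by
    rw [MonoidHom.mem_ker]
    apply Units.ext
    show ρ g = 1
    rw [← congrFun e g, hdn, H25.char_eq_degree_iff] at hg
    exact hg
  rcases IsSimpleGroup.eq_bot_or_eq_top_of_normal fu.ker inferInstance with h | h
  · rwa [h, Subgroup.mem_bot] at hgk
  · exfalso
    have hconst : ∀ x, χ.1 x = (d : ℂ) := by
      intro x
      have hx' : ρ x = 1 := congrArg Units.val (MonoidHom.mem_ker.mp (h ▸ Subgroup.mem_top x))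
      rw [← congrFun e x, hdn, H25.char_eq_degree_iff]
      exact hx'
    have h1 := H26.classInner_irr χ χ
    rw [if_pos rfl, Cfsg.classInner] at h1
    simp only [hconst, Complex.conj_natCast, Finset.sum_const, Finset.card_univ, nsmul_eq_mul,
      ← Nat.card_eq_fintype_card] at h1
    rw [← mul_assoc, inv_mul_cancel₀ (Nat.cast_ne_zero.mpr Nat.card_pos.ne'), one_mul] at h1
    have h2 : d * d = 1 := by exact_mod_cast h1
    exact hχ (hd1 (Nat.eq_one_of_mul_eq_one_right h2))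

/-- The characters of degree `n`. -/
noncomputable def ofDegree (d : Cfsg.IrrCharacter G → ℕ) (n : ℕ) :
    Finset (Cfsg.IrrCharacter G) := by
  classical exact univ.filter fun χ => d χ = n

/-- What the degree equation leaves for a simple group of order 7920. -/
structure BlockData (z : G) (d : Cfsg.IrrCharacter G → ℕ) (K : Finset (Cfsg.IrrCharacter G))
    (D : ℕ) : Prop where
  deg : ∀ χ, χ.1 1 = (d χ : ℂ)
  pos : ∀ χ, 0 < d χ
  dvd : ∀ χ, d χ ∣ 7920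
  sumSq : ∑ χ, d χ ^ 2 = 7920
  one : ∀ χ, d χ = 1 ↔ χ = H26.oneIrr G
  cardK : K.card = 2
  memK : ∀ χ, χ ∈ K ↔ d χ = D
  cases : ∀ χ, χ = H26.oneIrr G ∨ χ ∈ K ∨ d χ = 10 ∨ d χ = 12 ∨ d χ = 45 ∨ 11 ∣ d χ
  counts : ((ofDegree d 10).card = 2 ∧ (ofDegree d 12).card = 2 ∧ (ofDegree d 45).card = 0 ∧
      D = 5) ∨
    ((ofDegree d 10).card = 3 ∧ (ofDegree d 12).card = 0 ∧ (ofDegree d 45).card = 1 ∧ D = 16)
  val10 : ∀ χ, d χ = 10 → χ.1 z = -1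
  val12 : ∀ χ, d χ = 12 → χ.1 z = 1
  val45 : ∀ χ, d χ = 45 → χ.1 z = 1
  val0 : ∀ χ, 11 ∣ d χ → χ.1 z = 0
  valK : ∑ χ ∈ K, χ.1 z = -1
  rel : ∀ u : G, (∀ i : ℕ, ¬ IsConj u (z ^ i)) → ∃ θ : ℂ, (∀ k ∈ K, k.1 u = θ) ∧
    1 - ∑ χ ∈ ofDegree d 10, χ.1 u + ∑ χ ∈ ofDegree d 12, χ.1 u +
      ∑ χ ∈ ofDegree d 45, χ.1 u - θ = 0

theorem countArith : ∀ a : ℕ, a < 5 → ∀ b : ℕ, b < 5 → ∀ e : ℕ, e < 5 → a + b + e = 4 →
      ((1 : ℤ) - 10 * (a : ℕ) + 12 * (b : ℕ) + 45 * (e : ℕ)).natAbs ∣ 7920 →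
      1 + 2 * ((1 : ℤ) - 10 * (a : ℕ) + 12 * (b : ℕ) + 45 * (e : ℕ)).natAbs ^ 2 +
        (a * 10 ^ 2 + b * 12 ^ 2 + e * 45 ^ 2) ≤ 7920 →
      (a = 2 ∧ b = 2 ∧ e = 0) ∨ (a = 3 ∧ b = 0 ∧ e = 1) := by
  decide +kernel

/-- The block data exist. -/
theorem exists_blockData (hG : ¬ IsMulCommutative G) (hcard : Nat.card G = 7920) {z : G}
    [Fact (Nat.Prime 11)] (hz : orderOf z = 11)
    (hC : Subgroup.centralizer ({z} : Set G) = Subgroup.zpowers z)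
    (hE : (conjExps 11 z).card = 5) : ∃ d K D, BlockData z d K D := by
  classical
  obtain ⟨d, c, K, ε, C, D, hε, hK, h1K, hd1, hc1, hKv, hq, hsum, hcong, hd, hsq, hdeg,
    ⟨hval, hvalK⟩, hu⟩ := degree_equation hG hz hC 5 2 hE (by norm_num) le_rfl
  rw [hcard] at hsq
  simp only [hcard] at hd
  set o := H26.oneIrr G
  set R := (univ.erase o) \ K with hR
  have hKsub : K ⊆ univ.erase o := fun k hk => mem_erase.mpr ⟨fun e => h1K (e ▸ hk), mem_univ _⟩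
  have splitℤ : ∀ f : Cfsg.IrrCharacter G → ℤ,
      ∑ χ, f χ = f o + (∑ χ ∈ K, f χ + ∑ χ ∈ R, f χ) := fun f => by
    rw [← Finset.add_sum_erase _ _ (mem_univ o), hR, ← Finset.sum_sdiff hKsub]; ring
  have hq' : 1 + 2 * C ^ 2 + ∑ χ ∈ R, c χ ^ 2 + 2 * ε * C = 5 := by
    rw [splitℤ, hc1, Finset.sum_congr rfl (fun k hk => by rw [(hKv k hk).2] :
      ∀ k ∈ K, c k ^ 2 = C ^ 2), Finset.sum_const, hK] at hq
    norm_num at hq
    linarith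
  have hs' : -1 + 2 * (D : ℤ) * C + ∑ χ ∈ R, (d χ : ℤ) * c χ + ε * D = 0 := by
    rw [splitℤ, hc1, hd1, Finset.sum_congr rfl (fun k hk => by rw [(hKv k hk).1, (hKv k hk).2] :
      ∀ k ∈ K, (d k : ℤ) * c k = (D : ℤ) * C), Finset.sum_const, hK] at hsum
    norm_num at hsum
    linarith
  obtain ⟨k0, hk0⟩ := Finset.card_pos.mp (show 0 < K.card by omega)
  have hD : d k0 = D := (hKv k0 hk0).1
  have hne2 : ∀ χ, χ ≠ o → 2 ≤ d χ := fun χ hχ => by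
    obtain ⟨a, -, b⟩ := hd χ
    by_contra h
    exact hχ (b (by omega))
  have hD2 : 2 ≤ D := hD ▸ hne2 k0 fun e => h1K (e ▸ hk0)
  have hDdvd : D ∣ 7920 := hD ▸ (hd k0).2.1
  have hRnn : 0 ≤ ∑ χ ∈ R, c χ ^ 2 := Finset.sum_nonneg fun χ _ => sq_nonneg _
  obtain ⟨hη, hR4⟩ : (2 * C + ε = 1 ∨ 2 * C + ε = -1) ∧ ∑ χ ∈ R, c χ ^ 2 = 4 := by
    have hCb : -2 ≤ C ∧ C ≤ 2 := by
      rcases hε with rfl | rfl <;> constructor <;> nlinarith [sq_nonneg (C + 2), sq_nonneg (C - 2)]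
    have hzero : ∑ χ ∈ R, c χ ^ 2 = 0 → False := by
      intro h0
      have hall := (Finset.sum_eq_zero_iff_of_nonneg fun χ _ => sq_nonneg (c χ)).mp h0
      rw [Finset.sum_eq_zero (s := R) fun χ hχ => by
        rw [pow_eq_zero_iff two_ne_zero |>.mp (hall χ hχ), mul_zero]] at hs'
      have h1 : (D : ℤ) ∣ 1 := ⟨2 * C + ε, by linarith⟩
      have := Int.le_of_dvd one_pos h1
      omega
    obtain ⟨hl, hu'⟩ := hCb
    rcases hε with rfl | rfl <;> interval_cases C <;> norm_num at hq' ⊢ <;>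
      first | linarith | exact absurd (le_antisymm (by linarith) hRnn) hzero
  set η : ℤ := 2 * C + ε with hηdef
  have hsD : η * D = 1 - ∑ χ ∈ R, (d χ : ℤ) * c χ := by rw [hηdef]; linarith
  set R' := R.filter (fun χ => c χ ≠ 0) with hR'
  have hmemR' : ∀ χ, χ ∈ R' ↔ χ ≠ o ∧ χ ∉ K ∧ c χ ≠ 0 := fun χ => by
    simp [hR', hR, and_assoc]
  have hsumR' : ∀ f : Cfsg.IrrCharacter G → ℤ, (∀ χ, c χ = 0 → f χ = 0) →
      ∑ χ ∈ R', f χ = ∑ χ ∈ R, f χ := fun f hf => by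
    rw [hR', Finset.sum_filter_of_ne]
    exact fun χ _ h e => h (hf χ e)
  have hR4' : ∑ χ ∈ R', c χ ^ 2 = 4 := by
    rw [hsumR' _ fun χ e => by rw [e]; rfl, hR4]
  rw [← hsumR' _ fun χ e => by rw [e, mul_zero]] at hsD
  have hsqR : 1 + 2 * D ^ 2 + ∑ χ ∈ R', d χ ^ 2 ≤ 7920 := by
    have h1 : ∑ χ ∈ R', d χ ^ 2 ≤ ∑ χ ∈ R, d χ ^ 2 :=
      Finset.sum_le_sum_of_subset (Finset.filter_subset _ _)
    rw [← Finset.add_sum_erase _ _ (mem_univ o), hd1, ← Finset.sum_sdiff hKsub,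
      Finset.sum_congr rfl (fun k hk => by rw [(hKv k hk).1] : ∀ k ∈ K, d k ^ 2 = D ^ 2),
      Finset.sum_const, hK, smul_eq_mul, ← hR] at hsq
    omega
  have hmod : ∀ χ, χ ≠ o → χ ∉ K → (11 : ℤ) ∣ d χ + c χ := fun χ _ hχ => (hcong χ).2 hχ
  have hpm : ∀ χ ∈ R', c χ = 1 ∨ c χ = -1 := by
    intro χ hχ
    obtain ⟨hχo, hχK, hc0⟩ := (hmemR' χ).mp hχ
    have h4 : c χ ^ 2 ≤ 4 := hR4' ▸ Finset.single_le_sum (fun y _ => sq_nonneg (c y)) hχ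
    have hb : -2 ≤ c χ ∧ c χ ≤ 2 := abs_le.mp (abs_le_of_sq_le_sq (by linarith) (by norm_num))
    by_contra hc
    have hc2 : c χ = 2 ∨ c χ = -2 := by omega
    have hrest : R' = {χ} := by
      refine Finset.eq_singleton_iff_unique_mem.mpr ⟨hχ, fun x hx => ?_⟩
      by_contra hne
      have h5 := Finset.sum_le_sum_of_subset_of_nonneg (f := fun y => c y ^ 2)
        (show {χ, x} ⊆ R' from Finset.insert_subset hχ (Finset.singleton_subset_iff.mpr hx))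
        (fun y _ _ => sq_nonneg _)
      rw [Finset.sum_pair (Ne.symm hne), hR4'] at h5
      have h6 : 0 < c x ^ 2 := pow_two_pos_of_ne_zero ((hmemR' x).mp hx).2.2
      rcases hc2 with h | h <;> rw [h] at h5 <;> linarith
    rw [hrest, Finset.sum_singleton] at hsD hsqR
    have hDabs : D = (1 - (d χ : ℤ) * c χ).natAbs := by
      rw [← hsD]; rcases hη with h | h <;> rw [h] <;> simp
    have hdmem : d χ ∈ Nat.divisors 7920 :=
      Nat.mem_divisors.mpr ⟨(hd χ).2.1, by norm_num⟩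
    have hb88 : d χ ≤ 88 := by
      by_contra h
      have : 89 ^ 2 ≤ d χ ^ 2 := Nat.pow_le_pow_left (by omega) 2
      omega
    have h11 := hmod χ hχo hχK
    have key : ∀ a ∈ Nat.divisors 7920, a ≤ 88 → ∀ s ∈ [(2 : ℤ), -2], (11 : ℤ) ∣ (a : ℤ) + s →
        2 ≤ a → (1 - (a : ℤ) * s).natAbs ∣ 7920 →
        1 + 2 * (1 - (a : ℤ) * s).natAbs ^ 2 + a ^ 2 ≤ 7920 → a = 2 ∧ s = -2 := by
      decide +kernel
    obtain ⟨ha, hs⟩ := key _ hdmem hb88 (c χ) (by rcases hc2 with h | h <;> simp [h]) h11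
      (hne2 χ hχo) (hDabs ▸ hDdvd) (hDabs ▸ hsqR)
    have hzv := hval χ hχK
    rw [hs] at hzv
    have := eq_one_of_value_eq_degree χ hχo 2 (by rw [hdeg, ha]) z (by rw [hzv]; norm_num)
      (by omega)
    rw [this, orderOf_one] at hz
    norm_num at hz
  have hcardR' : R'.card = 4 := by
    rw [Finset.sum_congr rfl (fun χ hχ => by rcases hpm χ hχ with h | h <;> rw [h] <;> norm_num :
      ∀ χ ∈ R', c χ ^ 2 = 1), Finset.sum_const, nsmul_eq_mul, mul_one] at hR4'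
    exact_mod_cast hR4'
  have hdR : ∀ χ ∈ R', (d χ = 10 ∧ c χ = 1) ∨ (d χ = 12 ∧ c χ = -1) ∨
      (d χ = 45 ∧ c χ = -1) := by
    intro χ hχ
    obtain ⟨hχo, hχK, -⟩ := (hmemR' χ).mp hχ
    have hb88 : d χ ≤ 88 := by
      by_contra h
      have h1 : 89 ^ 2 ≤ d χ ^ 2 := Nat.pow_le_pow_left (by omega) 2
      have h2 := Finset.single_le_sum (f := fun y => d y ^ 2) (fun y _ => Nat.zero_le _) hχ
      omega
    have key : ∀ a ∈ Nat.divisors 7920, a ≤ 88 → 2 ≤ a →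
        ((11 : ℤ) ∣ (a : ℤ) + 1 → a = 10) ∧ ((11 : ℤ) ∣ (a : ℤ) + (-1) → a = 12 ∨ a = 45) := by
      decide +kernel
    have h11 := hmod χ hχo hχK
    obtain ⟨k1, k2⟩ := key _ (Nat.mem_divisors.mpr ⟨(hd χ).2.1, by norm_num⟩) hb88 (hne2 χ hχo)
    rcases hpm χ hχ with h | h <;> rw [h] at h11
    · exact Or.inl ⟨k1 h11, h⟩
    · rcases k2 h11 with h' | h'
      · exact Or.inr (Or.inl ⟨h', h⟩)
      · exact Or.inr (Or.inr ⟨h', h⟩)
  set F : ℕ → Finset (Cfsg.IrrCharacter G) := fun n => R'.filter fun χ => d χ = n with hF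
  have hsplitR : ∀ {M : Type} [AddCommMonoid M] (f : Cfsg.IrrCharacter G → M),
      ∑ χ ∈ R', f χ = ∑ χ ∈ F 10, f χ + ∑ χ ∈ F 12, f χ + ∑ χ ∈ F 45, f χ := by
    intro M _ f
    simp only [hF, Finset.sum_filter, ← Finset.sum_add_distrib]
    refine Finset.sum_congr rfl fun χ hχ => ?_
    rcases hdR χ hχ with ⟨e, -⟩ | ⟨e, -⟩ | ⟨e, -⟩ <;> simp [e]
  have hcF : ∀ n, ∀ χ ∈ F n, d χ = n ∧ χ ∈ R' := fun n χ hχ =>
    ⟨(Finset.mem_filter.mp hχ).2, (Finset.mem_filter.mp hχ).1⟩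
  have hc10 : ∀ χ ∈ F 10, (d χ : ℤ) * c χ = 10 := fun χ hχ => by
    obtain ⟨e, hm⟩ := hcF 10 χ hχ
    rcases hdR χ hm with ⟨e', h⟩ | ⟨e', h⟩ | ⟨e', h⟩ <;> rw [h, e] <;> omega
  have hc12 : ∀ χ ∈ F 12, (d χ : ℤ) * c χ = -12 := fun χ hχ => by
    obtain ⟨e, hm⟩ := hcF 12 χ hχ
    rcases hdR χ hm with ⟨e', h⟩ | ⟨e', h⟩ | ⟨e', h⟩ <;> rw [h, e] <;> omega
  have hc45 : ∀ χ ∈ F 45, (d χ : ℤ) * c χ = -45 := fun χ hχ => by
    obtain ⟨e, hm⟩ := hcF 45 χ hχ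
    rcases hdR χ hm with ⟨e', h⟩ | ⟨e', h⟩ | ⟨e', h⟩ <;> rw [h, e] <;> omega
  rw [hsplitR, Finset.sum_congr rfl hc10, Finset.sum_congr rfl hc12, Finset.sum_congr rfl hc45,
    Finset.sum_const, Finset.sum_const, Finset.sum_const] at hsD
  rw [hsplitR, Finset.sum_congr rfl (fun χ hχ => by rw [(hcF 10 χ hχ).1]),
    Finset.sum_congr rfl (fun χ hχ => by rw [(hcF 12 χ hχ).1] : ∀ χ ∈ F 12, d χ ^ 2 = 12 ^ 2),
    Finset.sum_congr rfl (fun χ hχ => by rw [(hcF 45 χ hχ).1] : ∀ χ ∈ F 45, d χ ^ 2 = 45 ^ 2),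
    Finset.sum_const, Finset.sum_const, Finset.sum_const] at hsqR
  rw [Finset.card_eq_sum_ones, hsplitR, ← Finset.card_eq_sum_ones, ← Finset.card_eq_sum_ones,
    ← Finset.card_eq_sum_ones] at hcardR'
  simp only [nsmul_eq_mul, smul_eq_mul] at hsD hsqR
  set a₁ := (F 10).card with ha₁
  set a₂ := (F 12).card with ha₂
  set a₃ := (F 45).card with ha₃
  have hDabs : D = (1 - 10 * (a₁ : ℤ) + 12 * a₂ + 45 * a₃).natAbs := by
    have : (1 : ℤ) - 10 * a₁ + 12 * a₂ + 45 * a₃ = η * D := by rw [hsD]; ring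
    rw [this]; rcases hη with h | h <;> rw [h] <;> simp
  have hopt := countArith a₁ (by omega) a₂ (by omega) a₃ (by omega) hcardR' (hDabs ▸ hDdvd)
    (hDabs ▸ hsqR)
  obtain ⟨hη1, hopt'⟩ : η = 1 ∧ ((a₁ = 2 ∧ a₂ = 2 ∧ a₃ = 0 ∧ D = 5) ∨
      (a₁ = 3 ∧ a₂ = 0 ∧ a₃ = 1 ∧ D = 16)) := by
    rcases hopt with ⟨e1, e2, e3⟩ | ⟨e1, e2, e3⟩ <;> rw [e1, e2, e3] at hsD hDabs <;>
      norm_num at hsD hDabs <;> subst hDabs <;> refine ⟨by push_cast at hsD; linarith, ?_⟩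
    · exact Or.inl ⟨e1, e2, e3, rfl⟩
    · exact Or.inr ⟨e1, e2, e3, rfl⟩
  have hDne : D ≠ 10 ∧ D ≠ 12 ∧ D ≠ 45 ∧ D ≠ 1 ∧ ¬ 11 ∣ D := by
    rcases hopt' with ⟨-, -, -, rfl⟩ | ⟨-, -, -, rfl⟩ <;> norm_num
  have hcases : ∀ χ, χ = o ∨ χ ∈ K ∨ (χ ∈ R' ∧ c χ ≠ 0) ∨ (χ ∉ K ∧ c χ = 0 ∧ 11 ∣ d χ) := by
    intro χ
    by_cases h1 : χ = o
    · exact Or.inl h1
    by_cases h2 : χ ∈ K
    · exact Or.inr (Or.inl h2)
    by_cases h3 : c χ = 0
    · have := hmod χ h1 h2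
      rw [h3, add_zero] at this
      exact Or.inr (Or.inr (Or.inr ⟨h2, h3, by exact_mod_cast this⟩))
    · exact Or.inr (Or.inr (Or.inl ⟨(hmemR' χ).mpr ⟨h1, h2, h3⟩, h3⟩))
  have hmemK : ∀ χ, χ ∈ K ↔ d χ = D := by
    intro χ
    refine ⟨fun h => (hKv χ h).1, fun h => ?_⟩
    rcases hcases χ with h' | h' | ⟨h', -⟩ | ⟨-, -, h'⟩
    · exact absurd (h ▸ h' ▸ hd1) hDne.2.2.2.1
    · exact h'
    · rcases hdR χ h' with ⟨e, -⟩ | ⟨e, -⟩ | ⟨e, -⟩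
      · exact absurd (h.symm.trans e) hDne.1
      · exact absurd (h.symm.trans e) hDne.2.1
      · exact absurd (h.symm.trans e) hDne.2.2.1
    · exact absurd (h ▸ h') hDne.2.2.2.2
  have hFeq : ∀ n, (n = 10 ∨ n = 12 ∨ n = 45) → ofDegree d n = F n := by
    intro n hn
    ext χ
    simp only [ofDegree, hF, mem_filter, mem_univ, true_and]
    refine ⟨fun h => ⟨?_, h⟩, fun h => h.2⟩
    rcases hcases χ with h' | h' | ⟨h', -⟩ | ⟨-, -, h'⟩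
    · rw [h', hd1] at h; omega
    · rw [(hKv χ h').1] at h; omega
    · exact h'
    · rw [h] at h'; omega
  have hR'K : ∀ χ ∈ R', χ ∉ K := fun χ hχ => ((hmemR' χ).mp hχ).2.1
  have hin : ∀ n, (n = 10 ∨ n = 12 ∨ n = 45) → ∀ χ, d χ = n → χ ∈ R' := fun n hn χ h =>
    (hcF n χ (hFeq n hn ▸ (by simp [ofDegree, h]))).2
  refine ⟨d, K, D, ⟨hdeg, fun χ => (hd χ).1, fun χ => (hd χ).2.1, hsq, fun χ =>
    ⟨(hd χ).2.2, fun e => e ▸ hd1⟩, hK, hmemK, ?_, ?_, ?_, ?_, ?_, ?_, ?_, ?_⟩⟩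
  · intro χ
    rcases hcases χ with h | h | ⟨h, -⟩ | ⟨-, -, h⟩
    · exact Or.inl h
    · exact Or.inr (Or.inl h)
    · rcases hdR χ h with ⟨e, -⟩ | ⟨e, -⟩ | ⟨e, -⟩ <;> simp [e]
    · simp [h]
  · rw [hFeq 10 (by simp), hFeq 12 (by simp), hFeq 45 (by simp)]
    exact hopt'
  · intro χ h
    have hm := hin 10 (by simp) χ h
    rcases hdR χ hm with ⟨e', hc⟩ | ⟨e', -⟩ | ⟨e', -⟩ <;> try omega
    rw [hval χ (hR'K χ hm), hc]; norm_num
  · intro χ h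
    have hm := hin 12 (by simp) χ h
    rcases hdR χ hm with ⟨e', -⟩ | ⟨e', hc⟩ | ⟨e', -⟩ <;> try omega
    rw [hval χ (hR'K χ hm), hc]; norm_num
  · intro χ h
    have hm := hin 45 (by simp) χ h
    rcases hdR χ hm with ⟨e', -⟩ | ⟨e', -⟩ | ⟨e', hc⟩ <;> try omega
    rw [hval χ (hR'K χ hm), hc]; norm_num
  · intro χ h
    rcases hcases χ with h' | h' | ⟨h', -⟩ | ⟨h', hc, -⟩
    · rw [h', hd1] at h; norm_num at h
    · rw [(hmemK χ).mp h'] at h; exact absurd h hDne.2.2.2.2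
    · rcases hdR χ h' with ⟨e, -⟩ | ⟨e, -⟩ | ⟨e, -⟩ <;> rw [e] at h <;> norm_num at h
    · rw [hval χ h', hc]; simp
  · rw [hvalK]
    have : ((2 : ℤ) * C + ε : ℤ) = 1 := hη1
    have h' : ((2 : ℂ) * C + ε) = 1 := by exact_mod_cast this
    push_cast; linear_combination -h'
  · intro u hu'
    obtain ⟨θ, hθ, hor⟩ := hu u hu'
    refine ⟨θ, hθ, ?_⟩
    have hsplit : ∑ χ, χ.1 u * (c χ : ℂ) = o.1 u * (c o : ℂ) +
        (∑ χ ∈ K, χ.1 u * (c χ : ℂ) + ∑ χ ∈ R', χ.1 u * (c χ : ℂ)) := by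
      rw [← Finset.add_sum_erase _ _ (mem_univ o), ← Finset.sum_sdiff hKsub, ← hR, hR',
        Finset.sum_filter_of_ne, add_comm (∑ χ ∈ R, _)]
      intro χ _ h e
      exact h (by rw [e]; simp)
    rw [hsplit, H26.oneIrr_val, hc1, Finset.sum_congr rfl (fun k hk => by
      rw [hθ k hk, (hKv k hk).2] : ∀ k ∈ K, k.1 u * (c k : ℂ) = θ * (C : ℂ)), Finset.sum_const,
      hK, hsplitR] at hor
    have e10 : ∀ χ ∈ F 10, χ.1 u * (c χ : ℂ) = χ.1 u := fun χ hχ => by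
      obtain ⟨e, hm⟩ := hcF 10 χ hχ
      rcases hdR χ hm with ⟨e', h⟩ | ⟨e', h⟩ | ⟨e', h⟩ <;> [skip; omega; omega]
      rw [h]; simp
    have e12 : ∀ χ ∈ F 12, χ.1 u * (c χ : ℂ) = -χ.1 u := fun χ hχ => by
      obtain ⟨e, hm⟩ := hcF 12 χ hχ
      rcases hdR χ hm with ⟨e', h⟩ | ⟨e', h⟩ | ⟨e', h⟩ <;> [omega; skip; omega]
      rw [h]; simp
    have e45 : ∀ χ ∈ F 45, χ.1 u * (c χ : ℂ) = -χ.1 u := fun χ hχ => by
      obtain ⟨e, hm⟩ := hcF 45 χ hχ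
      rcases hdR χ hm with ⟨e', h⟩ | ⟨e', h⟩ | ⟨e', h⟩ <;> [omega; omega; skip]
      rw [h]; simp
    rw [Finset.sum_congr rfl e10, Finset.sum_congr rfl e12, Finset.sum_congr rfl e45,
      Finset.sum_neg_distrib, Finset.sum_neg_distrib] at hor
    rw [hFeq 10 (by simp), hFeq 12 (by simp), hFeq 45 (by simp)]
    have h' : ((2 : ℂ) * C + ε) = 1 := by exact_mod_cast (hη1 : (2 : ℤ) * C + ε = 1)
    simp only [nsmul_eq_mul] at hor
    push_cast at hor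
    linear_combination -hor + θ * h'

end Cfsg.Agent.H30.Order7920
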