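import Cfsg.Agent.H30.Order7920Sylow
import Cfsg.Agent.H30.Order7920Data
import Cfsg.Agent.H30.FrobeniusValues
import Cfsg.Agent.H30.InvolutionEquation
import Cfsg.Agent.H26.CharFS

/-!
# The degrees of the irreducible characters of a simple group of order 7920
-/

set_option autoImplicit false
set_option synthInstance.maxSize 2048
set_option maxHeartbeats 4000000

namespace Cfsg.Agent.H30.Order7920

open Finset
open scoped ComplexConjugate

variable {G : Type*} [Group G] [Fintype G] [IsSimpleGroup G]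

instance instFactPrimeFive : Fact (Nat.Prime 5) := ⟨by norm_num⟩

instance instFactPrimeEleven : Fact (Nat.Prime 11) := ⟨by norm_num⟩

theorem cArith (c n e : ℕ) (he : e = 2 ∨ e = 4) (h : c * n * e = 1584) (hn : n % 5 = 1)
    (h11 : ¬ 11 ∣ c) (hc : ¬ 2 ∣ c) : c = 1 ∧ e = 4 := by
  have hcd : c ∈ Nat.divisors 1584 :=
    Nat.mem_divisors.mpr ⟨⟨n * e, by rw [← h, mul_assoc]⟩, by norm_num⟩
  have : ∀ a ∈ Nat.divisors 1584, ¬ 2 ∣ a → ¬ 11 ∣ a → a = 1 ∨ a = 3 ∨ a = 9 := by decide +kernel
  rcases this c hcd hc h11 with rfl | rfl | rfl <;> rcases he with rfl | rfl <;>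
    first | omega | exact ⟨rfl, rfl⟩

/-- The number of factorisations, cleared of denominators. -/
theorem count_formula (a b w : G) :
    (Nat.card {p : G × G // IsConj a p.1 ∧ IsConj b p.2 ∧ p.1 * p.2 = w} : ℂ) *
    ((Nat.card (Subgroup.centralizer ({a} : Set G)) : ℂ) *
      Nat.card (Subgroup.centralizer ({b} : Set G))) =
    (Nat.card G : ℂ) * ∑ χ : Cfsg.IrrCharacter G, χ.1 a * χ.1 b * conj (χ.1 w) / χ.1 1 := by
  classical
  have hc : ∀ g : G, (Nat.card {x : G // IsConj g x} : ℂ) *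
      Nat.card (Subgroup.centralizer ({g} : Set G)) = Nat.card G := by
    intro g
    have h := H26.card_class_mul_card_centralizer (G := G) g
    simp only [ConjClasses.mk_eq_mk_iff_isConj] at h
    rw [← h, Nat.card_eq_fintype_card, Fintype.card_subtype, Nat.cast_mul]
    congr 2
    exact congrArg Finset.card (Finset.filter_congr fun x _ => ⟨IsConj.symm, IsConj.symm⟩)
  rw [H38.class_coeff]
  have hG : (Nat.card G : ℂ) ≠ 0 := Nat.cast_ne_zero.mpr Nat.card_pos.ne'
  field_simp
  linear_combination ((Nat.card {x : G // IsConj b x} : ℂ) *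
    Nat.card (Subgroup.centralizer ({b} : Set G)) *
    (∑ χ : Cfsg.IrrCharacter G, χ.1 a * χ.1 b * conj (χ.1 w) / χ.1 1)) * hc a +
    ((Nat.card G : ℂ) *
    (∑ χ : Cfsg.IrrCharacter G, χ.1 a * χ.1 b * conj (χ.1 w) / χ.1 1)) * hc b

/-- The number of factorisations with its vanishing criterion. -/
theorem exists_count (a b w : G) : ∃ n : ℕ, (n : ℂ) *
    ((Nat.card (Subgroup.centralizer ({a} : Set G)) : ℂ) *
      Nat.card (Subgroup.centralizer ({b} : Set G))) =
    (Nat.card G : ℂ) * ∑ χ : Cfsg.IrrCharacter G, χ.1 a * χ.1 b * conj (χ.1 w) / χ.1 1 ∧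
    (n = 0 ↔ ∀ x y : G, IsConj a x → IsConj b y → x * y ≠ w) := by
  classical
  refine ⟨_, count_formula a b w, ?_⟩
  rw [Nat.card_eq_zero, or_iff_left (not_infinite_iff_finite.mpr inferInstance),
    isEmpty_subtype]
  exact ⟨fun h x y hx hy hxy => h (x, y) ⟨hx, hy, hxy⟩,
    fun h p hp => h p.1 p.2 hp.1 hp.2.1 hp.2.2⟩

/-- Sums over all irreducible characters, split along the block. -/
theorem sum_split {z : G} {d : Cfsg.IrrCharacter G → ℕ} {K : Finset (Cfsg.IrrCharacter G)} {D : ℕ}
    (B : BlockData z d K D) {M : Type*} [AddCommMonoid M] (f : Cfsg.IrrCharacter G → M) :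
    ∑ χ, f χ = f (H26.oneIrr G) + ∑ χ ∈ K, f χ + ∑ χ ∈ ofDegree d 10, f χ +
      ∑ χ ∈ ofDegree d 12, f χ + ∑ χ ∈ ofDegree d 45, f χ +
      ∑ χ ∈ univ.filter (fun χ => 11 ∣ d χ), f χ := by
  classical
  have hK : K = univ.filter (fun χ => d χ = D) := by ext χ; simp [B.memK]
  have hD : D = 5 ∨ D = 16 := by rcases B.counts with h | h <;> omega
  have h1 : f (H26.oneIrr G) = ∑ χ, if d χ = 1 then f χ else 0 := by
    simp only [B.one, Finset.sum_ite_eq', mem_univ, if_true]
  rw [hK, h1]
  simp only [ofDegree, Finset.sum_filter, ← Finset.sum_add_distrib]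
  refine Finset.sum_congr rfl fun χ _ => ?_
  rcases B.cases χ with h | h | h | h | h | h
  · rw [← B.one] at h; rcases hD with rfl | rfl <;> simp [h]
  · rw [B.memK] at h; rcases hD with rfl | rfl <;> simp [h]
  · rcases hD with rfl | rfl <;> simp [h]
  · rcases hD with rfl | rfl <;> simp [h]
  · rcases hD with rfl | rfl <;> simp [h]
  · obtain ⟨m, hm⟩ := h
    rcases hD with rfl | rfl <;>
      simp [hm, show 11 * m ≠ 1 by omega, show 11 * m ≠ 10 by omega, show 11 * m ≠ 12 by omega,
        show 11 * m ≠ 45 by omega, show 11 * m ≠ 5 by omega, show 11 * m ≠ 16 by omega]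

theorem not_isConj_pow {z u : G} {q : ℕ} (hz : orderOf z = 11) (hu : orderOf u = q)
    (hq : q.Prime) (h11 : q ≠ 11) (i : ℕ) : ¬ IsConj u (z ^ i) := by
  intro h
  obtain ⟨g, hg⟩ := isConj_iff.mp h
  have h1 : orderOf (z ^ i) = q := by
    rw [← hg, ← hu]
    exact orderOf_injective (MulAut.conj g).toMonoidHom (MulAut.conj g).injective u
  have h2 : orderOf (z ^ i) ∣ 11 := hz ▸ orderOf_pow_dvd i
  rw [h1] at h2
  exact h11 ((Nat.prime_dvd_prime_iff_eq hq (by norm_num)).mp h2)

/-- No element of order five centralises an element of order eleven. -/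
theorem not_eleven_dvd (hcard : Nat.card G = 7920) {z y : G}
    (hz : orderOf z = 11) (hC : Subgroup.centralizer ({z} : Set G) = Subgroup.zpowers z)
    (hy : orderOf y = 5) : ¬ 11 ∣ Nat.card (Subgroup.centralizer ({y} : Set G)) := by
  intro h
  obtain ⟨w, hw⟩ := exists_prime_orderOf_dvd_card' 11 h
  have hwo : orderOf (w : G) = 11 := by rw [Subgroup.orderOf_coe, hw]
  have hmult : 11 ^ (Nat.card G).factorization 11 = 11 := by
    have h1 := H30.card_sylow_subgroup (default : Sylow 11 G) (a := 1) (m := 720)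
      (by rw [hcard]; norm_num) (by norm_num)
    rw [Sylow.card_eq_multiplicity, pow_one] at h1
    exact h1
  let P : Sylow 11 G := Sylow.ofCard (Subgroup.zpowers z) (by rw [Nat.card_zpowers, hz, hmult])
  let Q : Sylow 11 G := Sylow.ofCard (Subgroup.zpowers (w : G))
    (by rw [Nat.card_zpowers, hwo, hmult])
  obtain ⟨g, hg⟩ := MulAction.exists_smul_eq G Q P
  have hwP : MulAut.conj g (w : G) ∈ Subgroup.zpowers z := by
    have h1 : MulAut.conj g (w : G) ∈ ((g • Q : Sylow 11 G) : Subgroup G) := by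
      rw [Sylow.coe_subgroup_smul]
      exact Subgroup.smul_mem_pointwise_smul _ _ _ (Subgroup.mem_zpowers _)
    rw [hg] at h1
    exact h1
  have hwo' : orderOf (MulAut.conj g (w : G)) = 11 := by
    rw [← hwo]; exact orderOf_injective (MulAut.conj g).toMonoidHom (MulAut.conj g).injective _
  have hgen : Subgroup.zpowers (MulAut.conj g (w : G)) = Subgroup.zpowers z :=
    Subgroup.eq_of_le_of_card_ge (Subgroup.zpowers_le.mpr hwP)
      (by rw [Nat.card_zpowers, Nat.card_zpowers, hwo', hz])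
  have hy' : MulAut.conj g y ∈ Subgroup.centralizer ({z} : Set G) := by
    have h1 := Subgroup.mem_centralizer_singleton_iff.mp w.2
    have h2 : MulAut.conj g y ∈ Subgroup.centralizer ({MulAut.conj g (w : G)} : Set G) := by
      rw [Subgroup.mem_centralizer_singleton_iff, ← map_mul, ← map_mul, h1]
    rwa [← Subgroup.centralizer_closure, ← Subgroup.zpowers_eq_closure, hgen,
      Subgroup.zpowers_eq_closure, Subgroup.centralizer_closure] at h2
  rw [hC] at hy'
  have h3 := orderOf_dvd_natCard (⟨_, hy'⟩ : Subgroup.zpowers z)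
  rw [Subgroup.orderOf_mk, Nat.card_zpowers, hz] at h3
  have h4 : orderOf (MulAut.conj g y) = 5 := by
    rw [← hy]; exact orderOf_injective (MulAut.conj g).toMonoidHom (MulAut.conj g).injective _
  rw [h4] at h3
  norm_num at h3

/-- An element `y` of order five with centraliser of order `5 c`: either `c` is even or `y` is
conjugate to all its powers and `C(y) = ⟨y⟩`. -/
theorem five_centralizer (hcard : Nat.card G = 7920) 
    {z y : G} (hz : orderOf z = 11)
    (hC : Subgroup.centralizer ({z} : Set G) = Subgroup.zpowers z) (hy : orderOf y = 5) :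
    ∃ c : ℕ, Nat.card (Subgroup.centralizer ({y} : Set G)) = 5 * c ∧
      (¬ 2 ∣ c → c = 1 ∧ ∀ a : ZMod 5, a ≠ 0 → IsConj y (y ^ a.val)) := by
  classical
  have hG := nonComm hcard
  have hfac : Nat.card G = 5 ^ 1 * 1584 := by rw [hcard]; norm_num
  have hmult : 5 ^ (Nat.card G).factorization 5 = 5 := by
    have h1 := H30.card_sylow_subgroup (default : Sylow 5 G) (a := 1) (m := 1584) hfac (by norm_num)
    rw [Sylow.card_eq_multiplicity, pow_one] at h1
    exact h1
  let P : Sylow 5 G := Sylow.ofCard (Subgroup.zpowers y) (by rw [Nat.card_zpowers, hy, hmult])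
  have hP : Nat.card (P : Subgroup G) = 5 := (Nat.card_zpowers y).trans hy
  obtain ⟨e, c, he, h1e, hN, hCc⟩ := H30.exists_automizer_of_prime_order hG 5 P hP
  have hceq : Subgroup.centralizer ({y} : Set G) =
      Subgroup.centralizer ((P : Subgroup G) : Set G) := by
    show _ = Subgroup.centralizer (Subgroup.zpowers y : Set G)
    rw [Subgroup.zpowers_eq_closure, Subgroup.centralizer_closure]
  refine ⟨c, by rw [hceq, hCc], fun hodd => ?_⟩
  have h11 : ¬ 11 ∣ c := fun h => not_eleven_dvd hcard hz hC hy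
    (by rw [hceq, hCc]; exact h.mul_left 5)
  have hmul := H30.card_sylow_mul_normalizer 5 P
  rw [hN, hcard] at hmul
  have he4 : e = 2 ∨ e = 4 := by
    have hle : e ≤ 4 := Nat.le_of_dvd (by norm_num) he
    interval_cases e <;> omega
  obtain ⟨rfl, rfl⟩ := cArith c (Nat.card (Sylow 5 G)) e he4
    (by rcases he4 with rfl | rfl <;> linarith) (card_sylow_modEq_one 5 G) h11 hodd
  refine ⟨rfl, ?_⟩
  have hCy : Subgroup.centralizer ({y} : Set G) = Subgroup.zpowers y := by
    refine (Subgroup.eq_of_le_of_card_ge (Subgroup.zpowers_le.mpr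
      (Subgroup.mem_centralizer_singleton_iff.mpr rfl)) ?_).symm
    rw [hceq, hCc, Nat.card_zpowers, hy]
  have hcc := H30.card_normalizer_zpowers (p := 5) hy hCy
  rw [show Subgroup.normalizer (Subgroup.zpowers y : Set G) =
    Subgroup.normalizer ((P : Subgroup G) : Set G) from rfl, hN] at hcc
  have hsub : conjExps 5 y = univ.erase 0 := by
    refine Finset.eq_of_subset_of_card_le (fun a ha => mem_erase.mpr ⟨?_, mem_univ _⟩) ?_
    · rintro rfl
      rw [conjExps, mem_filter, ZMod.val_zero, pow_zero, isConj_one_left] at ha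
      rw [ha.2, orderOf_one] at hy
      norm_num at hy
    · rw [card_erase_of_mem (mem_univ _), Finset.card_univ, ZMod.card]; omega
  intro a ha
  have : a ∈ conjExps 5 y := hsub ▸ mem_erase.mpr ⟨ha, mem_univ _⟩
  simpa [conjExps] using this

theorem three_dvd_of_sq_add_sq (a b : ℤ) (h : (3 : ℤ) ∣ a ^ 2 + b ^ 2) : 3 ∣ a ∧ 3 ∣ b := by
  have h' : ((a : ZMod 3)) ^ 2 + (b : ZMod 3) ^ 2 = 0 := by
    have := (ZMod.intCast_zmod_eq_zero_iff_dvd (a ^ 2 + b ^ 2) 3).mpr (by exact_mod_cast h)
    exact_mod_cast this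
  have key : ∀ x y : ZMod 3, x ^ 2 + y ^ 2 = 0 → x = 0 ∧ y = 0 := by decide
  obtain ⟨h1, h2⟩ := key _ _ h'
  exact ⟨by exact_mod_cast (ZMod.intCast_zmod_eq_zero_iff_dvd a 3).mp h1,
    by exact_mod_cast (ZMod.intCast_zmod_eq_zero_iff_dvd b 3).mp h2⟩

/-- Invariance of a sum of roots of unity under `ω ↦ ω ^ b` makes the coefficients invariant. -/
theorem coeff_invariant (f : ZMod 5 → ℕ) (a b : ZMod 5) (hab : a * b = 1)
    (h : ∑ j, (f j : ℂ) * ZMod.stdAddChar j = ∑ j, (f j : ℂ) * ZMod.stdAddChar (j * b))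
    (j : ZMod 5) : f j = f (j * a) := by
  have hbij : Function.Bijective fun j : ZMod 5 => j * a :=
    ⟨fun x y e => by
      have := congrArg (· * b) e
      simpa [mul_assoc, hab] using this,
    fun x => ⟨x * b, by simp [mul_assoc, mul_comm b a, hab]⟩⟩
  have h2 : ∑ j : ZMod 5, (f (j * a) : ℂ) * ZMod.stdAddChar j =
      ∑ j : ZMod 5, (f j : ℂ) * ZMod.stdAddChar (j * b) :=
    Fintype.sum_bijective _ hbij _ _ fun i => by rw [mul_assoc i a b, hab, mul_one]
  have h3 : ∑ j, (((f j : ℤ) - f (j * a) : ℤ) : ℂ) * ZMod.stdAddChar j = 0 := by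
    push_cast
    simp only [sub_mul, Finset.sum_sub_distrib, h, h2, sub_self]
  have := eq_of_sum_stdAddChar_eq_zero _ h3 j 0
  rw [zero_mul, sub_self] at this
  omega

/-- Degrees, block values and values at an element of order five. -/
theorem degree_data (hcard : Nat.card G = 7920) :
    ∃ (z y : G) (d : Cfsg.IrrCharacter G → ℕ) (K : Finset (Cfsg.IrrCharacter G)),
      orderOf z = 11 ∧ Subgroup.centralizer ({z} : Set G) = Subgroup.zpowers z ∧
      BlockData z d K 16 ∧ orderOf y = 5 ∧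
      Nat.card (Subgroup.centralizer ({y} : Set G)) = 5 ∧
      (∀ n : ℕ, (univ.filter fun χ => d χ = n).card =
        (if n = 1 ∨ n = 11 ∨ n = 44 ∨ n = 45 ∨ n = 55 then 1 else if n = 10 then 3
          else if n = 16 then 2 else 0)) ∧
      ∀ χ, (d χ = 10 ∨ d χ = 45 ∨ d χ = 55 → χ.1 y = 0) ∧
        (d χ = 16 ∨ d χ = 11 → χ.1 y = 1) ∧ (d χ = 44 → χ.1 y = -1) := by
  classical
  have hG := nonComm hcard
  obtain ⟨z, hz, hC, hE⟩ := exists_eleven hcard
  obtain ⟨d, K, D, B⟩ := exists_blockData hG hcard hz hC hE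
  set o := H26.oneIrr G with ho
  set N := Subgroup.normalizer (Subgroup.zpowers z : Set G) with hN
  have hNc : Nat.card N = 55 := by
    rw [hN, H30.card_normalizer_zpowers hz hC, hE]
  obtain ⟨y', hy'⟩ := exists_prime_orderOf_dvd_card' (G := N) 5 (by rw [hNc]; norm_num)
  set y : G := (y' : G) with hydef
  have hy : orderOf y = 5 := by rw [hydef, Subgroup.orderOf_coe, hy']
  have hcast : ∀ (f : ZMod 5 → ℕ) (j : ZMod 5), ((f j : ℤ) : ℂ) = (f j : ℂ) := fun _ _ => by simp
  -- `z` is not real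
  have hznr : ¬ IsConj z z⁻¹ := by
    intro h
    obtain ⟨g, hg⟩ := isConj_iff.mp h
    have hgN : g ∈ N := by
      refine Subgroup.mem_normalizer_iff.mpr fun x => ?_
      have hmap : (Subgroup.zpowers z).map (MulAut.conj g).toMonoidHom = Subgroup.zpowers z := by
        rw [MonoidHom.map_zpowers, ← Subgroup.zpowers_inv (g := z)]
        exact congrArg Subgroup.zpowers hg
      constructor
      · intro hx; rw [← hmap]; exact ⟨x, hx, rfl⟩
      · intro hx
        rw [← hmap] at hx
        obtain ⟨w, hw, hw'⟩ := hx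
        exact (MulAut.conj g).injective hw' ▸ hw
    have hg2 : g ^ 2 ∈ Subgroup.centralizer ({z} : Set G) := by
      rw [Subgroup.mem_centralizer_singleton_iff]
      have h2 : g * z⁻¹ * g⁻¹ = z := by
        conv_rhs => rw [← inv_inv z, ← hg]
        group
      calc g ^ 2 * z = g * (g * z * g⁻¹) * g⁻¹ * g ^ 2 := by simp [pow_two, mul_assoc]
        _ = g * z⁻¹ * g⁻¹ * g ^ 2 := by rw [hg]
        _ = z * g ^ 2 := by rw [h2]
    have hg55 : g ^ 55 = 1 := by
      have := pow_card_eq_one' (x := (⟨g, hgN⟩ : N))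
      rw [hNc] at this
      simpa using congrArg Subtype.val this
    have hgC : g ∈ Subgroup.centralizer ({z} : Set G) := by
      have h3 : g = (g ^ 2) ^ 28 := by
        rw [← pow_mul, show 2 * 28 = 55 + 1 by norm_num, pow_succ, hg55, one_mul]
      rw [h3]; exact Subgroup.pow_mem _ hg2 _
    rw [Subgroup.mem_centralizer_singleton_iff] at hgC
    have hzz : z = z⁻¹ := by rw [← hg, hgC, mul_assoc, mul_inv_cancel, mul_one]
    have h4 : z ^ 2 = 1 := by
      rw [pow_two]; nth_rewrite 2 [hzz]; exact mul_inv_cancel z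
    have := orderOf_dvd_of_pow_eq_one h4
    rw [hz] at this
    norm_num at this
  -- sums over the powers of `z`
  have hinvval : ∀ (χ : Cfsg.IrrCharacter G) (g : G), χ.1 g⁻¹ = conj (χ.1 g) := by
    intro χ g
    obtain ⟨n, ρ, -, e⟩ := χ.2
    rw [← congrFun e g⁻¹, ← congrFun e g]
    exact H25.char_inv ρ g
  have hzsum : ∀ χ : Cfsg.IrrCharacter G, ∑ k : ZMod 11, χ.1 (z ^ k.val) =
      (d χ : ℂ) + 5 * (χ.1 z + conj (χ.1 z)) := by
    intro χ
    set E := conjExps 11 z with hEdef
    have hneg : ∀ k : ZMod 11, z ^ (-k).val = (z ^ k.val)⁻¹ := by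
      intro k
      refine eq_inv_of_mul_eq_one_left ?_
      rw [← pow_add, ← pow_mod_orderOf, hz, ← ZMod.val_add, neg_add_cancel, ZMod.val_zero, pow_zero]
    have hmem : ∀ k, k ∈ E → IsConj z (z ^ k.val) := fun k hk => by
      simpa [hEdef, conjExps] using hk
    have hdisj : Disjoint E (E.image Neg.neg) := by
      rw [Finset.disjoint_left]
      intro k hk hk'
      obtain ⟨a, ha, hak⟩ := mem_image.mp hk'
      refine hznr ?_
      have h1 : IsConj z (z ^ a.val)⁻¹ := by
        rw [← hneg, hak]; exact hmem k hk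
      have h2 : IsConj z⁻¹ (z ^ a.val)⁻¹ := by
        obtain ⟨g, hg⟩ := isConj_iff.mp (hmem a ha)
        exact isConj_iff.mpr ⟨g, by rw [← hg]; group⟩
      exact h1.trans h2.symm
    have h0E : (0 : ZMod 11) ∉ E := fun h => by
      have := hmem 0 h
      rw [ZMod.val_zero, pow_zero, isConj_one_left] at this
      rw [this, orderOf_one] at hz
      norm_num at hz
    have huniv : E ∪ E.image Neg.neg = univ.erase 0 := by
      refine Finset.eq_of_subset_of_card_le (fun k hk => mem_erase.mpr ⟨?_, mem_univ _⟩) ?_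
      · rintro rfl
        rcases mem_union.mp hk with h | h
        · exact h0E h
        · obtain ⟨a, ha, hak⟩ := mem_image.mp h
          exact h0E (neg_eq_zero.mp hak ▸ ha)
      · rw [card_union_of_disjoint hdisj, card_image_of_injective _ neg_injective, hE,
          card_erase_of_mem (mem_univ _), Finset.card_univ, ZMod.card]
    rw [← Finset.add_sum_erase _ _ (mem_univ (0 : ZMod 11)), ZMod.val_zero, pow_zero, B.deg,
      ← huniv, Finset.sum_union hdisj, Finset.sum_image (fun a _ b _ h => neg_injective h),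
      Finset.sum_congr rfl (fun k hk => (H26.irr_eq_of_isConj χ (hmem k hk)).symm :
        ∀ k ∈ E, χ.1 (z ^ k.val) = χ.1 z),
      Finset.sum_congr rfl (fun k hk => by
        rw [hneg, hinvval, ← H26.irr_eq_of_isConj χ (hmem k hk)] :
        ∀ k ∈ E, χ.1 (z ^ (-k).val) = conj (χ.1 z)),
      Finset.sum_const, Finset.sum_const, hE, nsmul_eq_mul, nsmul_eq_mul]
    push_cast
    ring
  -- the two exceptional characters are complex conjugate
  have hDne : D = 5 ∨ D = 16 := by rcases B.counts with h | h <;> omega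
  have hconjK : ∀ k ∈ K, H26.conjIrr k ∈ K := by
    intro k hk
    rw [B.memK] at hk ⊢
    have h1 := B.deg (H26.conjIrr k)
    rw [H26.conjIrr_val, B.deg, Complex.conj_natCast, hk] at h1
    exact_mod_cast h1.symm
  obtain ⟨k₁, k₂, hk12, hKeq⟩ := card_eq_two.mp B.cardK
  have hreK : ∀ k ∈ K, k.1 z + conj (k.1 z) = -1 := by
    have hswap : H26.conjIrr k₁ = k₂ := by
      have h1 := hconjK k₁ (by simp [hKeq])
      have h2 := hconjK k₂ (by simp [hKeq])
      simp only [hKeq, mem_insert, mem_singleton] at h1 h2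
      refine h1.resolve_left fun hr1 => ?_
      have hr2 : H26.conjIrr k₂ = k₂ := h2.resolve_left fun e => hk12 (by
        rw [← hr1, ← e, H26.conjIrr_conjIrr])
      have hreal : ∀ χ : Cfsg.IrrCharacter G, conj (χ.1 z) = χ.1 z := by
        intro χ
        rcases B.cases χ with h | h | h | h | h | h
        · rw [h, H26.oneIrr_val, map_one]
        · simp only [hKeq, mem_insert, mem_singleton] at h
          rcases h with rfl | rfl
          · rw [← H26.conjIrr_val, hr1]
          · rw [← H26.conjIrr_val, hr2]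
        · rw [B.val10 χ h]; simp
        · rw [B.val12 χ h]; simp
        · rw [B.val45 χ h]; simp
        · rw [B.val0 χ h]; simp
      refine hznr ?_
      by_contra hnc
      have h3 := H26.column_orthogonality z z⁻¹
      have h4 : H26.classIndicator z⁻¹ z = 0 := if_neg hnc
      rw [h4, mul_zero] at h3
      have h5 := H26.column_orthogonality z z
      have h6 : H26.classIndicator z z = 1 := if_pos (IsConj.refl z)
      rw [h6, mul_one, hC, Nat.card_zpowers, hz] at h5
      rw [Finset.sum_congr rfl fun χ _ => by rw [hinvval, hreal, hreal]] at h3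
      rw [Finset.sum_congr rfl fun χ _ => by rw [hreal], h3] at h5
      norm_num at h5
    intro k hk
    have hsum := B.valK
    rw [hKeq, sum_pair hk12] at hsum
    simp only [hKeq, mem_insert, mem_singleton] at hk
    have e : conj (k₁.1 z) = k₂.1 z := by rw [← H26.conjIrr_val, hswap]
    rcases hk with rfl | rfl
    · rw [e, hsum]
    · rw [← e, Complex.conj_conj, e, add_comm, hsum]
  -- values at powers of `y`
  have hfrob : ∀ χ : Cfsg.IrrCharacter G, ∃ n : ZMod 5 → ℕ,
      (11 : ℂ) * ∑ j, (n j : ℂ) = (d χ : ℂ) + 5 * (χ.1 z + conj (χ.1 z)) ∧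
      ∀ i : ZMod 5, i ≠ 0 → χ.1 (y ^ i.val) = ∑ j, (n j : ℂ) * ZMod.stdAddChar (j * i) := by
    intro χ
    obtain ⟨n, h1, h2⟩ := exists_frobenius_values (q := 5) hz hC hE (by norm_num) hy y'.2 χ
    exact ⟨n, by rw [← hzsum]; exact_mod_cast h1, h2⟩
  choose n hn1 hn2 using hfrob
  have hny : ∀ χ : Cfsg.IrrCharacter G, χ.1 y = ∑ j, (n χ j : ℂ) * ZMod.stdAddChar j := by
    intro χ
    simpa [ZMod.val_one] using hn2 χ 1 one_ne_zero
  have hdim : ∀ χ, d χ = 10 → ∑ j, n χ j = 0 := fun χ h => by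
    have := hn1 χ
    rw [B.val10 χ h, h] at this
    norm_num at this
    exact_mod_cast this
  have hdim12 : ∀ χ, d χ = 12 → ∑ j, n χ j = 2 := fun χ h => by
    have := hn1 χ
    rw [B.val12 χ h, h] at this
    norm_num at this
    have h' : ((11 * ∑ j, n χ j : ℕ) : ℂ) = ((22 : ℕ) : ℂ) := by push_cast; linear_combination this
    have := Nat.cast_injective h'
    omega
  have hy10 : ∀ χ ∈ ofDegree d 10, χ.1 y = 0 := fun χ hχ => by
    have h0 := hdim χ (by simpa [ofDegree] using hχ)
    rw [hny]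
    exact Finset.sum_eq_zero fun j _ => by
      rw [Finset.sum_eq_zero_iff.mp h0 j (mem_univ j), Nat.cast_zero, zero_mul]
  obtain ⟨θy, hθy, hrely⟩ :=
    B.rel y (not_isConj_pow hz hy (by norm_num) (by norm_num))
  rw [Finset.sum_eq_zero hy10] at hrely
  have hdimK : ∀ k ∈ K, 11 * ∑ j, n k j + 5 = D := fun k hk => by
    have h := hn1 k
    rw [(B.memK k).mp hk, hreK k hk] at h
    have h' : ((11 * ∑ j, n k j + 5 : ℕ) : ℂ) = ((D : ℕ) : ℂ) := by
      push_cast; linear_combination h
    exact Nat.cast_injective h'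
  obtain ⟨c, hCy, hcodd⟩ := five_centralizer hcard hz hC hy
  -- the value of the coefficient sum
  have hS : ∀ a b : G, ∀ θa θb : ℂ, (∀ k ∈ K, k.1 a = θa) → (∀ k ∈ K, k.1 b = θb) →
      ∑ χ : Cfsg.IrrCharacter G, χ.1 a * χ.1 b * conj (χ.1 z) / χ.1 1 =
        1 - θa * θb / D - ∑ χ ∈ ofDegree d 10, χ.1 a * χ.1 b / 10 +
          ∑ χ ∈ ofDegree d 12, χ.1 a * χ.1 b / 12 + ∑ χ ∈ ofDegree d 45, χ.1 a * χ.1 b / 45 := by
    intro a b θa θb ha hb
    have eK : ∑ k ∈ K, k.1 a * k.1 b * conj (k.1 z) / k.1 1 = -(θa * θb / D) := by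
      have : ∀ k ∈ K, k.1 a * k.1 b * conj (k.1 z) / k.1 1 = θa * θb / D * conj (k.1 z) := by
        intro k hk; rw [ha k hk, hb k hk, B.deg, (B.memK k).mp hk]; ring
      rw [Finset.sum_congr rfl this, ← Finset.mul_sum, ← map_sum, B.valK]
      simp
    rw [sum_split B, eK]
    rw [Finset.sum_eq_zero (s := univ.filter fun χ => 11 ∣ d χ) fun χ hχ => by
      rw [B.val0 χ (mem_filter.mp hχ).2]; simp]
    rw [Finset.sum_congr rfl (s₁ := ofDegree d 10) (fun χ hχ => by
      have h : d χ = 10 := by simpa [ofDegree] using hχ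
      rw [B.deg, h, B.val10 χ h] : ∀ χ ∈ ofDegree d 10,
        χ.1 a * χ.1 b * conj (χ.1 z) / χ.1 1 = χ.1 a * χ.1 b * conj (-1 : ℂ) / ((10 : ℕ) : ℂ))]
    rw [Finset.sum_congr rfl (s₁ := ofDegree d 12) (fun χ hχ => by
      have h : d χ = 12 := by simpa [ofDegree] using hχ
      rw [B.deg, h, B.val12 χ h] : ∀ χ ∈ ofDegree d 12,
        χ.1 a * χ.1 b * conj (χ.1 z) / χ.1 1 = χ.1 a * χ.1 b * conj (1 : ℂ) / ((12 : ℕ) : ℂ))]
    rw [Finset.sum_congr rfl (s₁ := ofDegree d 45) (fun χ hχ => by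
      have h : d χ = 45 := by simpa [ofDegree] using hχ
      rw [B.deg, h, B.val45 χ h] : ∀ χ ∈ ofDegree d 45,
        χ.1 a * χ.1 b * conj (χ.1 z) / χ.1 1 = χ.1 a * χ.1 b * conj (1 : ℂ) / ((45 : ℕ) : ℂ))]
    simp only [H26.oneIrr_val, map_neg, map_one, mul_one, div_one, mul_neg, neg_div,
      Finset.sum_neg_distrib]
    push_cast
    ring
  rcases B.counts with ⟨h10, h12, h45, rfl⟩ | ⟨h10, h12, h45, rfl⟩
  · -- the degree five option is impossible
    exfalso
    have hθ0 : θy = 0 := by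
      obtain ⟨k, hk⟩ := Finset.card_pos.mp (show 0 < K.card by rw [B.cardK]; norm_num)
      have h0 : ∑ j, n k j = 0 := by have := hdimK k hk; omega
      rw [← hθy k hk, hny]
      exact Finset.sum_eq_zero fun j _ => by
        rw [Finset.sum_eq_zero_iff.mp h0 j (mem_univ j), Nat.cast_zero, zero_mul]
    obtain ⟨χ₁, χ₂, hne, hF⟩ := card_eq_two.mp h12
    have hχ₁ : d χ₁ = 12 := by
      have : χ₁ ∈ ofDegree d 12 := by simp [hF]
      simpa [ofDegree] using this
    have hχ₂ : d χ₂ = 12 := by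
      have : χ₂ ∈ ofDegree d 12 := by simp [hF]
      simpa [ofDegree] using this
    rw [hF, sum_pair hne, card_eq_zero.mp h45, hθ0] at hrely
    simp only [Finset.sum_empty, add_zero, sub_zero] at hrely
    have hv : 1 + (χ₁.1 y + χ₂.1 y) = 0 := by linear_combination hrely
    have hψ0 : ZMod.stdAddChar (0 : ZMod 5) = (1 : ℂ) := AddChar.map_zero_eq_one _
    have hcomb : ∀ j, (n χ₁ j : ℤ) + n χ₂ j + (if j = 0 then 1 else 0) = 1 := by
      have h0 : ∑ j, ((((n χ₁ j : ℤ) + n χ₂ j + (if j = 0 then 1 else 0)) : ℤ) : ℂ) *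
          ZMod.stdAddChar j = 0 := by
        rw [← hv, hny, hny]
        push_cast
        simp only [add_mul, Finset.sum_add_distrib, ite_mul, one_mul, zero_mul,
          Finset.sum_ite_eq', mem_univ, if_true, hψ0]
        ring
      have hall := fun i j => eq_of_sum_stdAddChar_eq_zero _ h0 i j
      intro j
      have hs : ∑ i : ZMod 5, ((n χ₁ i : ℤ) + n χ₂ i + (if i = 0 then 1 else 0)) = 5 := by
        rw [Finset.sum_add_distrib, Finset.sum_add_distrib, Finset.sum_ite_eq', if_pos (mem_univ _),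
          ← Nat.cast_sum, ← Nat.cast_sum, hdim12 χ₁ hχ₁, hdim12 χ₂ hχ₂]
        norm_num
      rw [Finset.sum_congr rfl fun i _ => hall i j, Finset.sum_const, Finset.card_univ,
        ZMod.card, nsmul_eq_mul] at hs
      push_cast at hs
      linarith
    have hnc : ∃ i j : ZMod 5, i ≠ 0 ∧ j ≠ 0 ∧ n χ₁ i ≠ n χ₁ j := by
      by_contra hall
      push Not at hall
      have h0 := hcomb 0
      rw [if_pos rfl] at h0
      have hs := hdim12 χ₁ hχ₁
      rw [← Finset.add_sum_erase _ _ (mem_univ (0 : ZMod 5)),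
        Finset.sum_congr rfl (fun i hi => hall i 1 (ne_of_mem_erase hi) one_ne_zero),
        Finset.sum_const, card_erase_of_mem (mem_univ _), Finset.card_univ, ZMod.card,
        smul_eq_mul] at hs
      omega
    obtain ⟨i₀, j₀, hi₀, hj₀, hij⟩ := hnc
    have hirr : ∀ A M : ℤ, (A : ℂ) * χ₁.1 y + (M : ℂ) = 0 → A = 0 := by
      intro A M h
      have h0 : ∑ j, ((A * n χ₁ j + (if j = 0 then M else 0) : ℤ) : ℂ) * ZMod.stdAddChar j = 0 := by
        rw [← h, hny, Finset.mul_sum]
        push_cast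
        simp only [add_mul, Finset.sum_add_distrib, ite_mul, zero_mul, Finset.sum_ite_eq',
          mem_univ, if_true, hψ0, mul_one, mul_assoc]
      have := eq_of_sum_stdAddChar_eq_zero _ h0 i₀ j₀
      rw [if_neg hi₀, if_neg hj₀, add_zero, add_zero] at this
      by_contra hA
      exact hij (by exact_mod_cast mul_left_cancel₀ hA this)
    -- `c` is even
    have hc2 : 2 ∣ c := by
      by_contra hodd
      obtain ⟨-, hall⟩ := hcodd hodd
      have hconst : ∀ j : ZMod 5, n χ₁ j = n χ₁ (j * 3) := by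
        refine coeff_invariant _ 3 2 (by decide) ?_
        rw [← hny, ← hn2 χ₁ 2 (by decide)]
        exact H26.irr_eq_of_isConj χ₁ (hall 2 (by decide))
      refine hij ?_
      have key : ∀ f : ZMod 5 → ℕ, (∀ j, f j = f (j * 3)) → ∀ i, i ≠ 0 → f i = f 1 := by
        intro f hf i hi
        have h3 : f 1 = f 3 := (hf 1).trans (congrArg f (by decide))
        have h4 : f 3 = f 4 := (hf 3).trans (congrArg f (by decide))
        have h2 : f 4 = f 2 := (hf 4).trans (congrArg f (by decide))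
        rcases (by decide : ∀ i : ZMod 5, i ≠ 0 → i = 1 ∨ i = 2 ∨ i = 3 ∨ i = 4) i hi with
          e | e | e | e <;> rw [e] <;> omega
      exact (key _ hconst i₀ hi₀).trans (key _ hconst j₀ hj₀).symm
    -- the involution
    obtain ⟨u, hu, hu16⟩ := H30.exists_central_involution (G := G) (a := 4) (m := 495)
      (by rw [hcard]; norm_num) (by norm_num) (by norm_num)
    obtain ⟨θu, hθu, -⟩ := B.rel u (not_isConj_pow hz hu Nat.prime_two (by norm_num))
    choose val hval hvalb using fun χ => exists_int_value_involution hG hu χ (d χ) (B.deg χ)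
    obtain ⟨k, hk⟩ := Finset.card_pos.mp (show 0 < K.card by rw [B.cardK]; norm_num)
    have hθu' : θu = (val k : ℂ) := by rw [← hθu k hk, hval]
    obtain ⟨n₀, hn₀, hn₀'⟩ := exists_count u u z
    have hn00 : n₀ = 0 := by
      refine hn₀'.mpr fun a b ha hb hab => hznr ?_
      have ha2 : a * a = 1 := by
        rw [← pow_two]
        obtain ⟨g, hg⟩ := isConj_iff.mp ha
        rw [← hg, conj_pow, ← hu, pow_orderOf_eq_one, mul_one, mul_inv_cancel]
      have hb2 : b * b = 1 := by
        rw [← pow_two]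
        obtain ⟨g, hg⟩ := isConj_iff.mp hb
        rw [← hg, conj_pow, ← hu, pow_orderOf_eq_one, mul_one, mul_inv_cancel]
      refine isConj_iff.mpr ⟨a, ?_⟩
      rw [← hab, mul_inv_rev, inv_eq_of_mul_eq_one_right ha2, inv_eq_of_mul_eq_one_right hb2,
        ← mul_assoc a a b, ha2, one_mul]
    rw [hn00, hS u u θu θu hθu hθu, hcard, Nat.cast_zero, zero_mul] at hn₀
    have heq : (1 : ℂ) - θu * θu / 5 - ∑ χ ∈ ofDegree d 10, χ.1 u * χ.1 u / 10 +
          ∑ χ ∈ ofDegree d 12, χ.1 u * χ.1 u / 12 + ∑ χ ∈ ofDegree d 45, χ.1 u * χ.1 u / 45 = 0 := by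
      have := hn₀.symm
      push_cast at this
      exact (mul_eq_zero.mp this).resolve_left (by norm_num)
    rw [card_eq_zero.mp h45, Finset.sum_empty, add_zero, hF, sum_pair hne, hθu',
      Finset.sum_congr rfl (fun χ _ => by rw [hval] : ∀ χ ∈ ofDegree d 10,
        χ.1 u * χ.1 u / 10 = (val χ : ℂ) * (val χ : ℂ) / 10), ← Finset.sum_div] at heq
    rw [hval χ₁, hval χ₂] at heq
    set A := ∑ χ ∈ ofDegree d 10, val χ * val χ with hA
    have hAc : ∑ χ ∈ ofDegree d 10, (val χ : ℂ) * (val χ : ℂ) = (A : ℂ) := by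
      rw [hA]; push_cast; rfl
    rw [hAc] at heq
    have hint : (60 : ℤ) - 12 * (val k * val k) - 6 * A +
        5 * (val χ₁ * val χ₁ + val χ₂ * val χ₂) = 0 := by
      have : (((60 : ℤ) - 12 * (val k * val k) - 6 * A +
        5 * (val χ₁ * val χ₁ + val χ₂ * val χ₂) : ℤ) : ℂ) = ((0 : ℤ) : ℂ) := by
        push_cast; linear_combination 60 * heq
      exact_mod_cast this
    obtain ⟨hb1, hb2⟩ := three_dvd_of_sq_add_sq (val χ₁) (val χ₂) (by
      rw [pow_two, pow_two]; omega)
    -- pairs (involution, element of order five)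
    obtain ⟨n₁, hn₁, -⟩ := exists_count u y z
    obtain ⟨j, hj⟩ := hu16
    rw [hS u y θu θy hθu hθy, hθ0, hCy, hcard, hj, Finset.sum_eq_zero (s := ofDegree d 10)
      (fun χ hχ => by rw [hy10 χ hχ]; simp), card_eq_zero.mp h45, Finset.sum_empty, hF,
      sum_pair hne, hval χ₁, hval χ₂] at hn₁
    push_cast at hn₁
    have hv2 : χ₂.1 y = -1 - χ₁.1 y := by linear_combination hv
    rw [hv2] at hn₁
    have hA0 : val χ₁ - val χ₂ = 0 := by
      have := hirr (7920 * (val χ₁ - val χ₂))
        (7920 * (12 - val χ₂) - 12 * n₁ * (16 * j) * (5 * c)) (by push_cast; linear_combination -12 * hn₁)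
      omega
    have hkey : (4 : ℤ) * n₁ * j * c = 33 * (12 - val χ₂) := by
      have h240 : (240 : ℤ) * (4 * n₁ * j * c) = 240 * (33 * (12 - val χ₂)) := by
        have : (((240 : ℤ) * (4 * n₁ * j * c) : ℤ) : ℂ) = ((240 * (33 * (12 - val χ₂)) : ℤ) : ℂ) := by
          push_cast
          have hA0' : (val χ₁ : ℂ) = val χ₂ := by exact_mod_cast sub_eq_zero.mp hA0
          rw [hA0'] at hn₁
          linear_combination 12 * hn₁
        exact_mod_cast this
      linarith
    obtain ⟨c', rfl⟩ := hc2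
    have hb := hvalb χ₂ (fun e => by rw [← B.one] at e; omega)
    rw [hχ₂] at hb
    obtain ⟨hl, hr⟩ := abs_lt.mp hb
    obtain ⟨t, ht⟩ := hb2
    have h8 : (8 : ℤ) ∣ 33 * (12 - val χ₂) := ⟨n₁ * j * c', by rw [← hkey]; push_cast; ring⟩
    rw [ht] at h8 hl hr
    push_cast at hl hr
    omega
  · -- the Mathieu option
    obtain ⟨χ₄, hF45⟩ := card_eq_one.mp h45
    rw [card_eq_zero.mp h12, Finset.sum_empty, hF45, Finset.sum_singleton] at hrely
    have hθ1 : θy = 1 := by
      obtain ⟨k, hk⟩ := Finset.card_pos.mp (show 0 < K.card by rw [B.cardK]; norm_num)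
      have h1 : ∑ j, n k j = 1 := by have := hdimK k hk; omega
      obtain ⟨j, -, hj⟩ := Finset.exists_ne_zero_of_sum_ne_zero (h1.trans_ne one_ne_zero)
      have hrest : ∀ i ≠ j, n k i = 0 := by
        intro i hi
        rw [← Finset.add_sum_erase _ _ (mem_univ j)] at h1
        have := Finset.single_le_sum (f := n k) (fun _ _ => Nat.zero_le _)
          (mem_erase.mpr ⟨hi, mem_univ i⟩)
        omega
      rw [Finset.sum_eq_single j (fun i _ hi => hrest i hi) (by simp)] at h1
      have hval : k.1 y = ZMod.stdAddChar j := by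
        rw [hny, Finset.sum_eq_single j (fun i _ hi => by rw [hrest i hi]; simp) (by simp), h1]
        simp
      have h2 := hθy _ (hconjK k hk)
      rw [H26.conjIrr_val, hθy k hk] at h2
      rw [hθy k hk] at hval
      rw [hval] at h2
      rw [← AddChar.map_neg_eq_conj] at h2
      have hj0 : j = 0 := by
        have := ZMod.injective_stdAddChar h2
        exact (by decide : ∀ i : ZMod 5, -i = i → i = 0) j this
      rw [hval, hj0, AddChar.map_zero_eq_one]
    have hv45 : χ₄.1 y = 0 := by rw [hθ1] at hrely; linear_combination hrely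
    obtain ⟨n₁, hn₁, -⟩ := exists_count y y z
    rw [hS y y θy θy hθy hθy, hθ1, hCy, hcard, Finset.sum_eq_zero (s := ofDegree d 10)
      (fun χ hχ => by rw [hy10 χ hχ]; simp), card_eq_zero.mp h12, Finset.sum_empty, hF45,
      Finset.sum_singleton, hv45] at hn₁
    have h297 : n₁ * (c * c) = 297 := by
      have h400 : ((400 * (n₁ * (c * c)) : ℕ) : ℂ) = ((400 * 297 : ℕ) : ℂ) := by
        push_cast at hn₁ ⊢
        linear_combination 16 * hn₁
      have := Nat.cast_injective h400
      omega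
    have hodd : ¬ 2 ∣ c := by
      rintro ⟨c', rfl⟩
      have : 2 ∣ 297 := ⟨2 * (n₁ * (c' * c')), by rw [← h297]; ring⟩
      omega
    obtain ⟨rfl, hall⟩ := hcodd hodd
    -- integer values at `y`
    have hint : ∀ χ, (∀ j : ZMod 5, j ≠ 0 → n χ j = n χ 1) ∧
        χ.1 y = (((n χ 0 : ℤ) - n χ 1 : ℤ) : ℂ) := by
      intro χ
      have hpow : ∀ a : ZMod 5, a ≠ 0 → ∀ j, n χ j = n χ (j * a) := by
        intro a ha j
        have ha' : a⁻¹ ≠ 0 := inv_ne_zero ha
        refine coeff_invariant _ a a⁻¹ (mul_inv_cancel₀ ha) ?_ j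
        rw [← hny, ← hn2 χ a⁻¹ ha']
        exact H26.irr_eq_of_isConj χ (hall a⁻¹ ha')
      have hc : ∀ j : ZMod 5, j ≠ 0 → n χ j = n χ 1 := fun j hj => by
        rw [hpow j hj 1, one_mul]
      refine ⟨hc, ?_⟩
      have hψ : ∑ j : ZMod 5, ZMod.stdAddChar j = (0 : ℂ) := by
        have := AddChar.sum_mulShift (1 : ZMod 5) (ZMod.isPrimitive_stdAddChar 5)
        simpa using this
      rw [hny, ← Finset.add_sum_erase _ _ (mem_univ (0 : ZMod 5)),
        Finset.sum_congr rfl (fun j hj => by rw [hc j (ne_of_mem_erase hj)] :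
          ∀ j ∈ univ.erase (0 : ZMod 5), (n χ j : ℂ) * ZMod.stdAddChar j =
            (n χ 1 : ℂ) * ZMod.stdAddChar j), ← Finset.mul_sum]
      rw [← Finset.add_sum_erase _ _ (mem_univ (0 : ZMod 5)), AddChar.map_zero_eq_one] at hψ
      rw [eq_neg_of_add_eq_zero_right hψ, AddChar.map_zero_eq_one]
      push_cast; ring
    set Z := univ.filter (fun χ => 11 ∣ d χ) with hZ
    set k : Cfsg.IrrCharacter G → ℕ := fun χ => n χ 0 + 4 * n χ 1 with hkdef
    set w : Cfsg.IrrCharacter G → ℤ := fun χ => (n χ 0 : ℤ) - n χ 1 with hwdef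
    have hdk : ∀ χ ∈ Z, d χ = 11 * k χ := by
      intro χ hχ
      have h := hn1 χ
      rw [B.val0 χ (mem_filter.mp hχ).2] at h
      have h1 : 11 * ∑ j, n χ j = d χ := by
        have h' : ((11 * ∑ j, n χ j : ℕ) : ℂ) = ((d χ : ℕ) : ℂ) := by
          push_cast; rw [h]; simp
        exact Nat.cast_injective h'
      rw [← h1, hkdef, ← Finset.add_sum_erase _ _ (mem_univ (0 : ZMod 5)),
        Finset.sum_congr rfl (fun j hj => (hint χ).1 j (ne_of_mem_erase hj)), Finset.sum_const,
        card_erase_of_mem (mem_univ _), Finset.card_univ, ZMod.card, smul_eq_mul]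
    -- squares of the degrees
    have hk42 : ∑ χ ∈ Z, k χ ^ 2 = 42 := by
      have h := B.sumSq
      rw [sum_split B, Finset.sum_congr rfl (fun χ hχ => by rw [(B.memK χ).mp hχ] :
          ∀ χ ∈ K, d χ ^ 2 = 16 ^ 2),
        Finset.sum_congr rfl (fun χ hχ => by rw [show d χ = 10 by simpa [ofDegree] using hχ] :
          ∀ χ ∈ ofDegree d 10, d χ ^ 2 = 10 ^ 2), card_eq_zero.mp h12, Finset.sum_empty,
        Finset.sum_congr rfl (fun χ hχ => by rw [show d χ = 45 by simpa [ofDegree] using hχ] :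
          ∀ χ ∈ ofDegree d 45, d χ ^ 2 = 45 ^ 2), Finset.sum_const, Finset.sum_const,
        Finset.sum_const, B.cardK, h10, h45, (B.one o).mpr rfl, ← hZ,
        Finset.sum_congr rfl (fun χ hχ => by rw [hdk χ hχ]; ring :
          ∀ χ ∈ Z, d χ ^ 2 = 121 * k χ ^ 2), ← Finset.mul_sum] at h
      simp only [smul_eq_mul] at h
      omega
    -- the column of `y`
    have hw2 : ∑ χ ∈ Z, w χ ^ 2 = 2 := by
      have h := H26.column_orthogonality y y
      have h6 : H26.classIndicator y y = 1 := if_pos (IsConj.refl y)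
      rw [h6, mul_one, hCy, sum_split B, Finset.sum_congr rfl (fun χ hχ => by rw [hθy χ hχ, hθ1] :
          ∀ χ ∈ K, χ.1 y * conj (χ.1 y) = 1 * conj (1 : ℂ)),
        Finset.sum_eq_zero (s := ofDegree d 10) (fun χ hχ => by rw [hy10 χ hχ, zero_mul]),
        card_eq_zero.mp h12, Finset.sum_empty, hF45, Finset.sum_singleton, hv45, zero_mul,
        Finset.sum_const, B.cardK, H26.oneIrr_val, ← hZ,
        Finset.sum_congr rfl (fun χ _ => by rw [(hint χ).2, map_intCast, pow_two, Int.cast_mul] :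
          ∀ χ ∈ Z, χ.1 y * conj (χ.1 y) = ((w χ ^ 2 : ℤ) : ℂ)), ← Int.cast_sum] at h
      simp only [map_one, mul_one, nsmul_eq_mul, Nat.cast_ofNat] at h
      have h' : (((∑ χ ∈ Z, w χ ^ 2) : ℤ) : ℂ) = ((2 : ℤ) : ℂ) := by
        push_cast at h ⊢; linear_combination h
      exact_mod_cast h'
    have hw1 : ∀ χ ∈ Z, w χ ≠ 0 → w χ ^ 2 = 1 := by
      intro χ hχ hne
      have h2 : w χ ^ 2 ≤ 2 := hw2 ▸ Finset.single_le_sum (fun x _ => sq_nonneg (w x)) hχ
      have hb : -1 ≤ w χ ∧ w χ ≤ 1 := by constructor <;> nlinarith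
      rcases (show w χ = 1 ∨ w χ = -1 by omega) with e | e <;> rw [e] <;> norm_num
    have hkw : ∀ χ, (5 : ℤ) ∣ (k χ : ℤ) - w χ := fun χ =>
      ⟨n χ 1, by simp only [hkdef, hwdef]; push_cast; ring⟩
    set Z₁ := Z.filter (fun χ => ¬ 5 ∣ k χ) with hZ₁
    have hw0 : ∀ χ ∈ Z, 5 ∣ k χ → w χ = 0 := by
      intro χ hχ h5
      by_contra hne
      have h1 := hw1 χ hχ hne
      have h2 : (5 : ℤ) ∣ w χ := by
        have := dvd_sub (Int.natCast_dvd_natCast.mpr h5) (hkw χ)
        simpa using this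
      obtain ⟨t, ht⟩ := h2
      rw [ht] at h1
      have : (5 : ℤ) ∣ 1 := ⟨5 * t * t, by rw [← h1]; ring⟩
      omega
    have hw1' : ∀ χ ∈ Z, ¬ 5 ∣ k χ → w χ ^ 2 = 1 := fun χ hχ h5 => hw1 χ hχ fun e => h5 (by
      have := hkw χ
      rw [e, sub_zero] at this
      exact_mod_cast this)
    have hZ₁c : Z₁.card = 2 := by
      have h : ∑ χ ∈ Z, w χ ^ 2 = ∑ χ ∈ Z, if ¬ 5 ∣ k χ then (1 : ℤ) else 0 := by
        refine Finset.sum_congr rfl fun χ hχ => ?_
        by_cases h5 : 5 ∣ k χ
        · rw [if_neg (not_not.mpr h5), hw0 χ hχ h5]; norm_num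
        · rw [if_pos h5, hw1' χ hχ h5]
      rw [hw2, Finset.sum_boole] at h
      exact_mod_cast h.symm
    have hkb : ∀ χ ∈ Z, k χ = 1 ∨ k χ = 4 ∨ k χ = 5 ∨ k χ = 6 := by
      intro χ hχ
      have h1 : k χ ^ 2 ≤ 42 := hk42 ▸ Finset.single_le_sum (f := fun x => k x ^ 2) (fun _ _ => Nat.zero_le _) hχ
      have h6 : k χ ≤ 6 := by nlinarith
      have hpos : 0 < k χ := by
        have := B.pos χ
        rw [hdk χ hχ] at this
        omega
      by_contra hnot
      have h23 : k χ = 2 ∨ k χ = 3 := by omega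
      have h2 := hw1' χ hχ (by omega)
      have h3 := hkw χ
      rcases sq_eq_one_iff.mp h2 with e | e <;> rw [e] at h3 <;> rcases h23 with e' | e' <;>
        rw [e'] at h3 <;> norm_num at h3
    set m : ℕ → ℕ := fun a => (Z.filter fun χ => k χ = a).card with hm
    have hsplit : ∀ f : ℕ → ℕ, ∑ χ ∈ Z, f (k χ) = f 1 * m 1 + f 4 * m 4 + f 5 * m 5 + f 6 * m 6 := by
      intro f
      simp only [hm, Finset.card_eq_sum_ones, Finset.mul_sum, mul_one, Finset.sum_filter,
        ← Finset.sum_add_distrib]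
      refine Finset.sum_congr rfl fun χ hχ => ?_
      rcases hkb χ hχ with e | e | e | e <;> simp [e]
    have e1 := hsplit (fun a => a ^ 2)
    have e2 := hsplit (fun a => if ¬ 5 ∣ a then 1 else 0)
    rw [hk42] at e1
    have e3 : ∑ χ ∈ Z, (if ¬ 5 ∣ k χ then 1 else 0) = Z₁.card := by
      rw [hZ₁, Finset.card_filter]
    rw [e3, hZ₁c] at e2
    norm_num at e1 e2
    have hm' : m 1 = 1 ∧ m 4 = 1 ∧ m 5 = 1 ∧ m 6 = 0 := by
      have hle : m 1 ≤ 2 ∧ m 4 ≤ 2 := by omega
      obtain ⟨h1, h4⟩ := hle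
      generalize m 1 = a at *
      generalize m 4 = b at *
      interval_cases a <;> interval_cases b <;> omega
    have hval : ∀ χ, (d χ = 10 ∨ d χ = 45 ∨ d χ = 55 → χ.1 y = 0) ∧
        (d χ = 16 ∨ d χ = 11 → χ.1 y = 1) ∧ (d χ = 44 → χ.1 y = -1) := by
      intro χ
      have hZv : 11 ∣ d χ → (d χ = 55 → χ.1 y = 0) ∧ (d χ = 11 → χ.1 y = 1) ∧
          (d χ = 44 → χ.1 y = -1) := by
        intro h11
        have hχ : χ ∈ Z := mem_filter.mpr ⟨mem_univ _, h11⟩
        have hd' := hdk χ hχ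
        have hy' : χ.1 y = ((w χ : ℤ) : ℂ) := (hint χ).2
        obtain ⟨q, hq⟩ := hkw χ
        refine ⟨fun h => ?_, fun h => ?_, fun h => ?_⟩ <;> rw [hy']
        · rw [hw0 χ hχ (by omega)]; simp
        · rcases sq_eq_one_iff.mp (hw1' χ hχ (by omega)) with e | e
          · rw [e]; simp
          · exfalso; rw [e] at hq; omega
        · rcases sq_eq_one_iff.mp (hw1' χ hχ (by omega)) with e | e
          · exfalso; rw [e] at hq; omega
          · rw [e]; simp
      refine ⟨?_, ?_, fun h => (hZv (by rw [h]; norm_num)).2.2 h⟩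
      · rintro (h | h | h)
        · exact hy10 χ (by simp [ofDegree, h])
        · have : χ ∈ ofDegree d 45 := by simp [ofDegree, h]
          rw [hF45, mem_singleton] at this
          rw [this, hv45]
        · exact (hZv (by rw [h]; norm_num)).1 h
      · rintro (h | h)
        · rw [hθy χ ((B.memK χ).mpr h), hθ1]
        · exact (hZv (by rw [h])).2.1 h
    refine ⟨z, y, d, K, hz, hC, B, hy, by rw [hCy], fun N' => ?_, hval⟩
    rw [Finset.card_eq_sum_ones, Finset.sum_filter, sum_split B, (B.one o).mpr rfl,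
      Finset.sum_congr rfl (fun χ hχ => by rw [(B.memK χ).mp hχ] :
        ∀ χ ∈ K, (if d χ = N' then 1 else 0) = if 16 = N' then 1 else 0),
      Finset.sum_congr rfl (fun χ hχ => by rw [show d χ = 10 by simpa [ofDegree] using hχ] :
        ∀ χ ∈ ofDegree d 10, (if d χ = N' then 1 else 0) = if 10 = N' then 1 else 0),
      card_eq_zero.mp h12, Finset.sum_empty,
      Finset.sum_congr rfl (fun χ hχ => by rw [show d χ = 45 by simpa [ofDegree] using hχ] :
        ∀ χ ∈ ofDegree d 45, (if d χ = N' then 1 else 0) = if 45 = N' then 1 else 0),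
      Finset.sum_const, Finset.sum_const, Finset.sum_const, B.cardK, h10, h45, ← hZ,
      Finset.sum_congr rfl (fun χ hχ => by rw [hdk χ hχ] :
        ∀ χ ∈ Z, (if d χ = N' then 1 else 0) = if 11 * k χ = N' then 1 else 0),
      hsplit (fun a => if 11 * a = N' then 1 else 0), hm'.1, hm'.2.1, hm'.2.2.1, hm'.2.2.2]
    by_cases e1 : N' = 1
    · subst e1; norm_num
    by_cases e10 : N' = 10
    · subst e10; norm_num
    by_cases e11 : N' = 11
    · subst e11; norm_num
    by_cases e16 : N' = 16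
    · subst e16; norm_num
    by_cases e44 : N' = 44
    · subst e44; norm_num
    by_cases e45 : N' = 45
    · subst e45; norm_num
    by_cases e55 : N' = 55
    · subst e55; norm_num
    simp [e1, e10, e11, e16, e44, e45, e55, Ne.symm e1, Ne.symm e10, Ne.symm e11, Ne.symm e16,
      Ne.symm e44, Ne.symm e45, Ne.symm e55]

/-- The degree pattern. -/
theorem degree_pattern (hcard : Nat.card G = 7920) :
    ∃ d : Cfsg.IrrCharacter G → ℕ, (∀ χ, χ.1 1 = (d χ : ℂ)) ∧
      ∀ n : ℕ, (univ.filter fun χ => d χ = n).card =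
        (if n = 1 ∨ n = 11 ∨ n = 44 ∨ n = 45 ∨ n = 55 then 1 else if n = 10 then 3
          else if n = 16 then 2 else 0) := by
  obtain ⟨z, y, d, K, -, -, B, -, -, hcount, -⟩ := degree_data hcard
  exact ⟨d, B.deg, hcount⟩

end Cfsg.Agent.H30.Order7920
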