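import Cfsg.Agent.H30.GLTwoThree
import Cfsg.Agent.H30.Order7920Main
import Cfsg.Agent.H38.TIInd
import Cfsg.Agent.H28.ZStar

/-!
# Groups with an involution centralizer GL(2,3)
-/

set_option autoImplicit false
set_option synthInstance.maxSize 4096
set_option maxHeartbeats 1000000
set_option maxRecDepth 4000

namespace Cfsg.Agent.H30.GLTwoThree

open scoped ComplexConjugate

section Data

theorem central_eq : ∀ a : M, (∀ b : M, a * b = b * a) → a = 1 ∨ a = τ := by decide +kernel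

theorem tau_central : ∀ b : M, τ * b = b * τ := by decide +kernel

theorem tau_ne : τ ≠ 1 ∧ τ * τ = 1 := by decide +kernel

theorem involution_cls : ∀ a : M, (a * a = 1 ∧ a ≠ 1) ↔ (cls a = 1 ∨ cls a = 5) := by decide +kernel

theorem cls_eq_one : ∀ a : M, cls a = 1 → a = τ := by decide +kernel

theorem cls_eq_zero : ∀ a : M, cls a = 0 ↔ a = 1 := by decide +kernel

theorem pow_eq_tau : ∀ a : M, cls a ≠ 0 → cls a ≠ 3 → cls a ≠ 5 →
    a ^ 1 = τ ∨ a ^ 2 = τ ∨ a ^ 3 = τ ∨ a ^ 4 = τ := by decide +kernel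

theorem commute_eM : ∀ a : M, a * a = 1 → a ≠ 1 → a * eM = eM * a → a = τ := by decide +kernel

theorem orderOf_eM : eM ^ 8 = 1 ∧ eM ^ 4 ≠ 1 := by decide +kernel

/-- How many factorisations into two involutions. -/
def pairTable : Fin 8 → ℕ := ![0, 12, 4, 0, 6, 0, 0, 0]

theorem pair_count : ∀ g : M, cls g ≠ 0 → cls g ≠ 3 → cls g ≠ 5 →
    (Finset.univ.filter fun x : M => (x * x = 1 ∧ x ≠ 1) ∧
      ((x * g) * (x * g) = 1 ∧ x * g ≠ 1)).card = pairTable (cls g) := by decide +kernel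

end Data

section Abstract

variable {ι : Type*} [Fintype ι] [DecidableEq ι]

/-- Coefficients of a norm three vector containing the principal character. -/
theorem dot_three (o a b : ι) (hao : a ≠ o) (hbo : b ≠ o) (hab : a ≠ b) (f : ι → ℤ) :
    ∑ i, ((if i = o then 1 else 0) - (if i = a then 1 else 0) + (if i = b then 1 else 0)) * f i =
      f o - f a + f b := by
  simp only [add_mul, sub_mul, ite_mul, one_mul, zero_mul, Finset.sum_add_distrib,
    Finset.sum_sub_distrib, Finset.sum_ite_eq', Finset.mem_univ, if_true]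

theorem eq_zero_of_norm {s : Finset ι} {f : ι → ℤ} {n : ℤ} (hf : ∑ i, f i * f i = n)
    (hs : n ≤ ∑ i ∈ s, f i * f i) : ∀ i, i ∉ s → f i = 0 := by
  intro i hi
  have h1 : ∑ j ∈ Finset.univ \ s, f j * f j = 0 := by
    have h2 := Finset.sum_sdiff (f := fun j => f j * f j) (Finset.subset_univ s)
    have h3 : 0 ≤ ∑ j ∈ Finset.univ \ s, f j * f j :=
      Finset.sum_nonneg fun j _ => mul_self_nonneg _
    linarith
  exact mul_self_eq_zero.mp
    ((Finset.sum_eq_zero_iff_of_nonneg fun j _ => mul_self_nonneg (f j)).mp h1 i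
      (Finset.mem_sdiff.mpr ⟨Finset.mem_univ i, hi⟩))

theorem splitArith : ∀ α β r q p : ℤ, α + β = 1 → r + q = -1 → p + q = -1 →
    α * α + β * β + r * r + q * q + p * p ≤ 3 →
    ((α = 1 ∧ β = 0) ∨ (α = 0 ∧ β = 1)) ∧ ((q = -1 ∧ r = 0 ∧ p = 0) ∨ (q = 0 ∧ r = -1 ∧ p = -1)) := by
  intro α β r q p h1 h2 h3 h4
  obtain rfl : β = 1 - α := by omega
  obtain rfl : r = -1 - q := by omega
  obtain rfl : p = -1 - q := by omega
  have e1 : (2 * α - 1) * (2 * α - 1) ≤ 2 * 2 := by nlinarith [mul_self_nonneg (3 * q + 2)]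
  have e2 : (3 * q + 2) * (3 * q + 2) ≤ 6 := by nlinarith [mul_self_nonneg (2 * α - 1)]
  have a1 : -2 ≤ 2 * α - 1 ∧ 2 * α - 1 ≤ 2 := by constructor <;> nlinarith
  have a2 : -2 ≤ 3 * q + 2 ∧ 3 * q + 2 ≤ 2 := by constructor <;> nlinarith
  omega

theorem sArith : ∀ α β r q p : ℤ, α + β = 0 → r + q = -1 → p + q = 0 →
    α * α + β * β + r * r + q * q + p * p ≤ 2 →
    (α = 0 ∧ β = 0) ∧ ((q = 0 ∧ r = -1 ∧ p = 0) ∨ (q = -1 ∧ r = 0 ∧ p = 1)) := by
  intro α β r q p h1 h2 h3 h4
  obtain rfl : β = -α := by omega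
  obtain rfl : r = -1 - q := by omega
  obtain rfl : p = -q := by omega
  have e1 : (3 * q + 1) * (3 * q + 1) ≤ 2 * 2 := by nlinarith [mul_self_nonneg α]
  have a2 : -2 ≤ 3 * q + 1 ∧ 3 * q + 1 ≤ 2 := by constructor <;> nlinarith
  rcases (show q = 0 ∨ q = -1 by omega) with rfl | rfl
  · have e3 : α * α = 0 := by nlinarith [mul_self_nonneg α]
    have := mul_self_eq_zero.mp e3
    omega
  · have e3 : α * α = 0 := by nlinarith [mul_self_nonneg α]
    have := mul_self_eq_zero.mp e3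
    omega

/-- The shapes of the coefficient vectors. -/
theorem solve (o : ι) (m2 m3 mS mW mV v : ι → ℤ) (A B R U P W : ι)
    (hA : A ≠ o) (hB : B ≠ o) (hAB : A ≠ B) (hR : R ≠ o) (hU : U ≠ o) (hRU : R ≠ U)
    (hP : P ≠ o) (hW : W ≠ o) (hPW : P ≠ W)
    (e2 : ∀ i, m2 i = (if i = o then 1 else 0) - (if i = A then 1 else 0) + (if i = B then 1 else 0))
    (eW : ∀ i, mW i = (if i = o then 1 else 0) - (if i = R then 1 else 0) + (if i = U then 1 else 0))
    (eV : ∀ i, mV i = (if i = o then 1 else 0) - (if i = P then 1 else 0) + (if i = W then 1 else 0))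
    (h3o : m3 o = 0) (hSo : mS o = 0)
    (d2W : ∑ i, m2 i * mW i = 1) (d2V : ∑ i, m2 i * mV i = 1) (dWV : ∑ i, mW i * mV i = 2)
    (d23 : ∑ i, m2 i * m3 i = 1) (dW3 : ∑ i, mW i * m3 i = -1) (dV3 : ∑ i, mV i * m3 i = -1)
    (d2S : ∑ i, m2 i * mS i = 0) (dWS : ∑ i, mW i * mS i = -1) (dVS : ∑ i, mV i * mS i = 0)
    (d33 : ∑ i, m3 i * m3 i = 3) (dSS : ∑ i, mS i * mS i = 2) (d3S : ∑ i, m3 i * mS i = 0)
    (hv : ∀ i, v i = 3 * m2 i + m3 i + 2 * mS i - 2 * mV i) :
    v o = 1 ∧ ((v A * v A = 16 ∧ v B * v B = 9) ∨ (v A * v A = 9 ∧ v B * v B = 16)) ∧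
      ((v R * v R = 9 ∧ v U * v U = 4) ∨ (v R * v R = 4 ∧ v U * v U = 9)) := by
  have dot2 : ∀ f : ι → ℤ, ∑ i, m2 i * f i = f o - f A + f B := fun f => by
    simp only [e2]; exact dot_three o A B hA hB hAB f
  have dotW : ∀ f : ι → ℤ, ∑ i, mW i * f i = f o - f R + f U := fun f => by
    simp only [eW]; exact dot_three o R U hR hU hRU f
  have dotV : ∀ f : ι → ℤ, ∑ i, mV i * f i = f o - f P + f W := fun f => by
    simp only [eV]; exact dot_three o P W hP hW hPW f
  rw [dot2] at d2W d2V d23 d2S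
  rw [dotW] at dWV dW3 dWS
  rw [dotV] at dV3 dVS
  -- `A`, `B` occur in neither of the two other vectors
  have key : ∀ (X Y : ι) (f : ι → ℤ), X ≠ o → Y ≠ o → X ≠ Y →
      (∀ i, f i = (if i = o then 1 else 0) - (if i = X then 1 else 0) + (if i = Y then 1 else 0)) →
      f o - f A + f B = 1 → A ≠ X ∧ A ≠ Y ∧ B ≠ X ∧ B ≠ Y := by
    intro X Y f hX hY hXY hf hd
    rw [hf, hf, hf, if_pos rfl, if_neg (Ne.symm hX), if_neg (Ne.symm hY), if_neg hA, if_neg hB] at hd
    refine ⟨?_, ?_, ?_, ?_⟩ <;> intro e <;> subst e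
    · rw [if_pos rfl, if_neg hXY, if_neg (Ne.symm hAB)] at hd
      split_ifs at hd <;> omega
    · rw [if_neg (Ne.symm hXY), if_pos rfl, if_neg (Ne.symm hAB)] at hd
      split_ifs at hd <;> omega
    · rw [if_pos rfl, if_neg hAB, if_neg hXY] at hd
      split_ifs at hd <;> omega
    · rw [if_neg (Ne.symm hXY), if_pos rfl, if_neg hAB] at hd
      split_ifs at hd <;> omega
  obtain ⟨nAR, nAU, nBR, nBU⟩ := key R U mW hR hU hRU eW d2W
  obtain ⟨nAP, nAW, nBP, nBW⟩ := key P W mV hP hW hPW eV d2V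
  have hcase : (R = P ∧ U ≠ W ∧ R ≠ W ∧ U ≠ P) ∨ (U = W ∧ R ≠ P ∧ U ≠ P ∧ R ≠ W) := by
    rw [eV, eV, eV, if_pos rfl, if_neg (Ne.symm hP), if_neg (Ne.symm hW), if_neg hR, if_neg hU]
      at dWV
    by_cases h1 : R = P
    · left
      subst h1
      rw [if_pos rfl, if_neg hPW, if_neg (Ne.symm hRU)] at dWV
      refine ⟨rfl, fun h => ?_, hPW, Ne.symm hRU⟩
      rw [if_pos h] at dWV
      omega
    · right
      rw [if_neg h1] at dWV
      by_cases h2 : U = W
      · subst h2
        exact ⟨rfl, h1, Ne.symm hPW, hRU⟩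
      · rw [if_neg h2] at dWV
        split_ifs at dWV <;> omega
  rw [h3o] at d23 dW3 dV3
  rw [hSo] at d2S dWS dVS
  have hvo : v o = 1 := by
    rw [hv, e2, eV, h3o, hSo]
    simp [Ne.symm hA, Ne.symm hB, Ne.symm hP, Ne.symm hW]
  refine ⟨hvo, ?_⟩
  have z2 : ∀ i, i ≠ o → i ≠ A → i ≠ B → m2 i = 0 := fun i a b c => by simp [e2, a, b, c]
  have zV : ∀ i, i ≠ o → i ≠ P → i ≠ W → mV i = 0 := fun i a b c => by simp [eV, a, b, c]
  have fin : ∀ (Z X Y : ι) (σ : ℤ), σ * σ = 1 → ([A, B, X, Z, Y] : List ι).Nodup →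
      (-σ) * m3 X + σ * m3 Z = -1 → (-σ) * m3 Y + σ * m3 Z = -1 →
      (-σ) * mS X + σ * mS Z = -1 → (-σ) * mS Y + σ * mS Z = 0 →
      X ≠ o → Z ≠ o → mV X = 0 → mV Z = σ →
      ((v A * v A = 16 ∧ v B * v B = 9) ∨ (v A * v A = 9 ∧ v B * v B = 16)) ∧
        v X * v X = 4 ∧ v Z * v Z = 9 := by
    intro Z X Y σ hσ hnd c1 c2 c3 c4 hXo hZo hVX hVZ
    simp only [List.nodup_cons, List.mem_cons, List.not_mem_nil, or_false, not_or,
      List.nodup_nil, and_true] at hnd
    obtain ⟨⟨-, nX, nZ, nY⟩, ⟨mX, mZ, mY⟩, ⟨lZ, lY⟩, kY, -⟩ := hnd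
    have hsum : ∀ f : ι → ℤ, ∑ i ∈ ({A, B, X, Z, Y} : Finset ι), f i =
        f A + f B + f X + f Z + f Y := fun f => by
      rw [Finset.sum_insert (by simp [hAB, nX, nZ, nY]), Finset.sum_insert (by simp [mX, mZ, mY]),
        Finset.sum_insert (by simp [lZ, lY]), Finset.sum_pair kY]
      ring
    have hle : ∀ f : ι → ℤ, f A * f A + f B * f B + (σ * f X) * (σ * f X) +
        (σ * f Z) * (σ * f Z) + (σ * f Y) * (σ * f Y) ≤ ∑ i, f i * f i := fun f => by
      have h := Finset.sum_le_sum_of_subset_of_nonneg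
        (Finset.subset_univ ({A, B, X, Z, Y} : Finset ι)) (fun i _ _ => mul_self_nonneg (f i))
      rw [hsum] at h
      have e : ∀ a : ℤ, (σ * a) * (σ * a) = a * a := fun a => by linear_combination a * a * hσ
      rw [e, e, e]
      exact h
    have b3 := hle m3
    rw [d33] at b3
    have bS := hle mS
    rw [dSS] at bS
    obtain ⟨hα, hq⟩ := splitArith (-m3 A) (m3 B) (-σ * m3 X) (σ * m3 Z) (-σ * m3 Y)
      (by linarith) c1 c2 (by linarith)
    obtain ⟨hα', hq'⟩ := sArith (-mS A) (mS B) (-σ * mS X) (σ * mS Z) (-σ * mS Y)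
      (by linarith) c3 c4 (by linarith)
    have hpart : ∀ f g : ι → ℤ, (∀ i, i ∉ ({A, B, X, Z, Y} : Finset ι) → f i * g i = 0) →
        ∑ i, f i * g i = f A * g A + f B * g B + (σ * f X) * (σ * g X) + (σ * f Z) * (σ * g Z) +
          (σ * f Y) * (σ * g Y) := fun f g h => by
      rw [← Finset.sum_subset (Finset.subset_univ _) (fun i _ hi => h i hi), hsum]
      linear_combination (-(f X * g X) - f Z * g Z - f Y * g Y) * hσ
    -- the sign pattern
    have hq0 : σ * mS Z = 0 ∧ σ * mS X = 1 := by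
      rcases hq' with ⟨a, b, -⟩ | ⟨a, b, c⟩
      · exact ⟨a, by linarith⟩
      · exfalso
        have hz := eq_zero_of_norm dSS (s := {A, B, X, Z, Y}) (by
          have e : ∀ w : ℤ, w * w = (σ * w) * (σ * w) := fun w => by linear_combination -(w * w) * hσ
          rw [hsum, e (mS X), e (mS Z), e (mS Y), a, show σ * mS X = 0 by linarith,
            show σ * mS Y = -1 by linarith, show mS A = 0 by linarith [hα'.1],
            hα'.2]
          norm_num)
        have h := hpart m3 mS fun i hi => by rw [hz i hi, mul_zero]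
        rw [d3S, a, show σ * mS X = 0 by linarith, show σ * mS Y = -1 by linarith,
          show mS A = 0 by linarith [hα'.1], hα'.2] at h
        rcases hq with ⟨x1, x2, x3⟩ | ⟨x1, x2, x3⟩ <;> linarith
    have hq3 : σ * m3 Z = -1 ∧ σ * m3 X = 0 := by
      rcases hq with ⟨a, b, -⟩ | ⟨a, b, c⟩
      · exact ⟨a, by linarith⟩
      · exfalso
        have hz := eq_zero_of_norm d33 (s := {A, B, X, Z, Y}) (by
          have e : ∀ w : ℤ, w * w = (σ * w) * (σ * w) := fun w => by linear_combination -(w * w) * hσ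
          rw [hsum, e (m3 X), e (m3 Z), e (m3 Y), a, show σ * m3 X = 1 by linarith,
            show σ * m3 Y = 1 by linarith]
          rcases hα with ⟨x, x'⟩ | ⟨x, x'⟩
          · rw [show m3 A = -1 by linarith, x']; norm_num
          · rw [show m3 A = 0 by linarith, x']; norm_num)
        have h := hpart m3 mS fun i hi => by rw [hz i hi, zero_mul]
        rcases hq' with ⟨q1, q2, q3⟩ | ⟨q1, -, -⟩
        · rw [d3S, a, show σ * m3 X = 1 by linarith, show σ * m3 Y = 1 by linarith, q1,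
            show σ * mS X = 1 by linarith, show σ * mS Y = 0 by linarith,
            show mS A = 0 by linarith [hα'.1], hα'.2] at h
          norm_num at h
        · rw [hq0.1] at q1
          norm_num at q1
    refine ⟨?_, ?_, ?_⟩
    · have hA2 : m2 A = -1 := by simp [e2, hA, hAB]
      have hB2 : m2 B = 1 := by simp [e2, hB, Ne.symm hAB]
      have hAV : mV A = 0 := zV A hA nAP nAW
      have hBV : mV B = 0 := zV B hB nBP nBW
      rw [hv A, hv B, hA2, hB2, hAV, hBV, show mS A = 0 by linarith [hα'.1], hα'.2]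
      rcases hα with ⟨x, x'⟩ | ⟨x, x'⟩
      · rw [show m3 A = -1 by linarith, x']; norm_num
      · rw [show m3 A = 0 by linarith, x']; norm_num
    · have h : σ * v X = 2 := by
        rw [hv X, z2 X hXo (Ne.symm nX) (Ne.symm mX), hVX]
        linear_combination hq3.2 + 2 * hq0.2
      linear_combination (σ * v X + 2) * h - v X * v X * hσ
    · have h : σ * v Z = -3 := by
        rw [hv Z, z2 Z hZo (Ne.symm nZ) (Ne.symm mZ), hVZ]
        linear_combination hq3.1 + 2 * hq0.1 - 2 * hσ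
      linear_combination (σ * v Z - 3) * h - v Z * v Z * hσ
  rcases hcase with ⟨e, nUW, nRW, nUP⟩ | ⟨e, nRP, nUP, nRW⟩
  · -- the common constituent has coefficient `-1`
    subst e
    have h := fin R U W (-1) (by norm_num) (by
        simp [hAB, nAR, nAU, nAW, nBR, nBU, nBW, Ne.symm hRU, nUW, nRW])
      (by linarith) (by linarith) (by linarith) (by linarith) hU hR (zV U hU nUP nUW)
      (by simp [eV, hR, hPW])
    exact ⟨h.1, Or.inl ⟨h.2.2, h.2.1⟩⟩
  · -- the common constituent has coefficient `1`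
    subst e
    have h := fin U R P 1 (by norm_num) (by
        simp [hAB, nAR, nAU, nAP, nBR, nBU, nBP, hRU, nRP, nUP])
      (by linarith) (by linarith) (by linarith) (by linarith) hR hU (zV R hR nRP nRW)
      (by simp [eV, hU, Ne.symm hPW])
    exact ⟨h.1, Or.inr ⟨h.2.1, h.2.2⟩⟩

end Abstract

/-- The two Diophantine equations leave two orders. -/
theorem orderArith (G a u : ℤ) (hG : ∃ m : ℤ, G = 48 * m ∧ ¬ 2 ∣ m ∧ 0 < m)
    (ha : G * (a + 4) ^ 2 = 9216 * (a * (a + 1))) (ha0 : a ≠ 0) (ha1 : a ≠ -1)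
    (hu : G * (u - 2) ^ 2 = 4608 * (u * (u + 1))) (hu0 : u ≠ 0) (hu1 : u ≠ -1) :
    G = 5616 ∨ G = 7920 := by
  obtain ⟨m, rfl, hm2, hm0⟩ := hG
  obtain ⟨s, rfl⟩ : ∃ s, a = s - 4 := ⟨a + 4, by ring⟩
  have hs : m * (s * s) = 192 * (s * s - 7 * s + 12) := by
    have h : 48 * (m * (s * s)) = 48 * (192 * (s * s - 7 * s + 12)) := by linear_combination ha
    linarith
  have key : (m - 192) * (s * s) = 192 * (12 - 7 * s) := by linear_combination hs
  have hs0 : s ≠ 0 := fun h => by rw [h] at key; norm_num at key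
  have hm192 : m - 192 ≠ 0 := fun h => hm2 ⟨96, by linarith⟩
  have hodd : ¬ 2 ∣ m - 192 := fun h => hm2 (by omega)
  -- a crude bound on `s`
  have hb : -1400 < s ∧ s < 1400 := by
    have h1 : (1 : ℤ) ≤ |m - 192| := Int.one_le_abs hm192
    have h2 : |m - 192| * (s * s) = |192 * (12 - 7 * s)| := by
      rw [← key, abs_mul, abs_of_nonneg (mul_self_nonneg s)]
    have h3 : s * s ≤ |192 * (12 - 7 * s)| := by
      rw [← h2]; exact le_mul_of_one_le_left (mul_self_nonneg s) h1
    rcases abs_choice (192 * (12 - 7 * s)) with e | e <;> rw [e] at h3 <;>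
      constructor <;> nlinarith
  have hdvd : s ∣ 2304 := ⟨(m - 192) * s + 1344, by linear_combination -key⟩
  have hmem : s.natAbs ∈ Nat.divisors 2304 :=
    Nat.mem_divisors.mpr ⟨by simpa using Int.natAbs_dvd_natAbs.mpr hdvd, by norm_num⟩
  have hlist : ∀ n ∈ Nat.divisors 2304, ∀ ε ∈ [(1 : ℤ), -1],
      (192 * (12 - 7 * (ε * n))) % ((ε * n) * (ε * n)) = 0 →
      ((192 * (12 - 7 * (ε * n))) / ((ε * n) * (ε * n))) % 2 = 1 →
      0 < (192 * (12 - 7 * (ε * n))) / ((ε * n) * (ε * n)) + 192 →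
      ε * n = -48 ∨ ε * n = -16 ∨ ε * n = 16 ∨ ε * n = 48 ∨ ε * n = 4 ∨ ε * n = 3 := by
    decide +kernel
  obtain ⟨ε, hε, hse⟩ : ∃ ε ∈ [(1 : ℤ), -1], s = ε * s.natAbs := by
    rcases Int.natAbs_eq s with h | h
    · exact ⟨1, by simp, by rw [one_mul]; exact h⟩
    · exact ⟨-1, by simp, by rw [neg_one_mul]; exact h⟩
  have hss : s * s ≠ 0 := mul_ne_zero hs0 hs0
  have hdiv : (192 * (12 - 7 * s)) / (s * s) = m - 192 := by
    rw [← key, Int.mul_ediv_cancel _ hss]
  have hc := hlist _ hmem ε hε (by rw [← hse, ← key, Int.mul_emod_left])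
    (by rw [← hse, hdiv]; omega) (by rw [← hse, hdiv]; omega)
  rw [← hse] at hc


  rcases hc with rfl | rfl | rfl | rfl | rfl | rfl
  · exfalso
    obtain rfl : m = 221 := by omega
    have hlo : 0 ≤ u := by nlinarith
    have hhi : u ≤ 10 := by nlinarith
    interval_cases u <;> omega
  · exfalso
    obtain rfl : m = 285 := by omega
    have hlo : 0 ≤ u := by nlinarith
    have hhi : u ≤ 10 := by nlinarith
    interval_cases u <;> omega
  · exact Or.inl (by omega)
  · exact Or.inr (by omega)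
  · norm_num at ha0
  · norm_num at ha1

section Group

variable {G : Type*} [Group G] [Fintype G] {t : G}

/-- Transport to the centralizer. -/
noncomputable def onH (e : Subgroup.centralizer ({t} : Set G) ≃* M) (T : Fin 8 → ℂ) :
    Subgroup.centralizer ({t} : Set G) → ℂ := fun h => ofTable T (e h)

variable (e : Subgroup.centralizer ({t} : Set G) ≃* M) (ht : orderOf t = 2)

omit [Fintype G] in
include ht in
theorem map_t : e ⟨t, Subgroup.mem_centralizer_singleton_iff.mpr rfl⟩ = τ := by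
  set t' : Subgroup.centralizer ({t} : Set G) := ⟨t, Subgroup.mem_centralizer_singleton_iff.mpr rfl⟩
  refine (central_eq (e t') fun b => ?_).resolve_left fun h => ?_
  · obtain ⟨c, rfl⟩ := e.surjective b
    rw [← map_mul, ← map_mul]
    exact congrArg e (Subtype.ext (Subgroup.mem_centralizer_singleton_iff.mp c.2).symm)
  · have h' : t = 1 := congrArg Subtype.val (e.injective (h.trans (map_one e).symm))
    rw [h', orderOf_one] at ht
    omega

/-- The number of factorisations, cleared of denominators (without simplicity). -/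
theorem count_formula (a b w : G) :
    (Nat.card {p : G × G // IsConj a p.1 ∧ IsConj b p.2 ∧ p.1 * p.2 = w} : ℂ) *
    ((Nat.card (Subgroup.centralizer ({a} : Set G)) : ℂ) *
      Nat.card (Subgroup.centralizer ({b} : Set G))) =
    (Nat.card G : ℂ) * ∑ χ : Cfsg.IrrCharacter G, χ.1 a * χ.1 b * conj (χ.1 w) / χ.1 1 := by
  classical
  have hc : ∀ g : G, (Nat.card {x : G // IsConj g x} : ℂ) *
      Nat.card (Subgroup.centralizer ({g} : Set G)) = Nat.card G := by
    intro g
    have h := H26.card_class_mul_card_centralizer (G := G) g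
    simp only [ConjClasses.mk_eq_mk_iff_isConj] at h
    rw [← h, Nat.card_eq_fintype_card, Fintype.card_subtype, Nat.cast_mul]
    congr 2
    exact congrArg Finset.card (Finset.filter_congr fun x _ => ⟨IsConj.symm, IsConj.symm⟩)
  rw [H38.class_coeff]
  have hG : (Nat.card G : ℂ) ≠ 0 := Nat.cast_ne_zero.mpr Nat.card_pos.ne'
  field_simp
  linear_combination ((Nat.card {x : G // IsConj b x} : ℂ) *
    Nat.card (Subgroup.centralizer ({b} : Set G)) *
    (∑ χ : Cfsg.IrrCharacter G, χ.1 a * χ.1 b * conj (χ.1 w) / χ.1 1)) * hc a +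
    ((Nat.card G : ℂ) *
    (∑ χ : Cfsg.IrrCharacter G, χ.1 a * χ.1 b * conj (χ.1 w) / χ.1 1)) * hc b

omit [Fintype G] in
theorem orderOf_map (h : Subgroup.centralizer ({t} : Set G)) :
    orderOf (e h) = orderOf (h : G) := by
  rw [Subgroup.orderOf_coe]
  exact orderOf_injective e.toMonoidHom e.injective h

omit [Fintype G] in
theorem two_iff (h : Subgroup.centralizer ({t} : Set G)) :
    orderOf (h : G) = 2 ↔ (e h * e h = 1 ∧ e h ≠ 1) := by
  have : Fact (Nat.Prime 2) := ⟨Nat.prime_two⟩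
  rw [← orderOf_map e]
  constructor
  · intro h2
    have h3 := pow_orderOf_eq_one (e h)
    rw [h2, pow_two] at h3
    refine ⟨h3, fun h1 => ?_⟩
    rw [h1, orderOf_one] at h2
    omega
  · rintro ⟨h1, h2⟩
    exact orderOf_eq_prime (by rw [pow_two, h1]) h2

omit [Fintype G] in
include e ht in
/-- If the involution is not isolated, all involutions of its centralizer are conjugate. -/
theorem fusion_of_not_isolated (hiso : ¬ H28.IsIsolatedInvolution t) :
    ∀ a ∈ Subgroup.centralizer ({t} : Set G), orderOf a = 2 → IsConj t a := by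
  obtain ⟨g, hg, hne⟩ : ∃ g : G, Commute t (g * t * g⁻¹) ∧ g * t * g⁻¹ ≠ t := by
    by_contra h
    simp only [not_exists, not_and, not_not] at h
    exact hiso ⟨ht, h⟩
  set t' : Subgroup.centralizer ({t} : Set G) :=
    ⟨g * t * g⁻¹, Subgroup.mem_centralizer_singleton_iff.mpr hg.eq.symm⟩ with ht'def
  have ht' : orderOf (t' : G) = 2 :=
    (orderOf_injective (MulAut.conj g).toMonoidHom (MulAut.conj g).injective t).trans ht
  have hc' : cls (e t') = 5 := by
    refine ((involution_cls _).mp ((two_iff e t').mp ht')).resolve_left fun h => hne ?_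
    have h1 := (cls_eq_one _ h).trans (map_t e ht).symm
    exact congrArg Subtype.val (e.injective h1)
  intro a ha ha2
  set a' : Subgroup.centralizer ({t} : Set G) := ⟨a, ha⟩
  rcases (involution_cls _).mp ((two_iff e a').mp ha2) with h | h
  · have h1 := congrArg Subtype.val (e.injective ((cls_eq_one _ h).trans (map_t e ht).symm))
    show IsConj t a
    rw [show a = t from h1]
  · obtain ⟨x, hx⟩ := exists_conj (e t')
    obtain ⟨y, hy⟩ := exists_conj (e a')
    rw [hc'] at hx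
    rw [h] at hy
    obtain ⟨c, hc⟩ := e.surjective (y * x⁻¹)
    have h1 : c * t' * c⁻¹ = a' := e.injective (by
      rw [map_mul, map_mul, map_inv, hc, ← hx, ← hy]; group)
    refine (isConj_iff.mpr ⟨g, rfl⟩ : IsConj t (t' : G)).trans (isConj_iff.mpr ⟨c, ?_⟩)
    exact congrArg Subtype.val h1

include e ht in
/-- The Sylow 2-subgroups have order sixteen. -/
theorem exists_odd_cofactor : ∃ m : ℕ, Nat.card G = 48 * m ∧ ¬ 2 ∣ m := by
  have : Fact (Nat.Prime 2) := ⟨Nat.prime_two⟩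
  set H := Subgroup.centralizer ({t} : Set G) with hH
  have hcard : Nat.card H = 48 := by
    rw [Nat.card_congr e.toEquiv, Nat.card_eq_fintype_card, card_M]
  obtain ⟨m, hm⟩ : 48 ∣ Nat.card G := hcard ▸ Subgroup.card_subgroup_dvd_card H
  refine ⟨m, hm, fun h2 => ?_⟩
  obtain ⟨e8, he8⟩ := e.surjective eM
  have he8o : orderOf (e8 : G) = 8 := by
    rw [← orderOf_map e, he8]
    exact orderOf_eq_prime_pow (p := 2) (n := 2) orderOf_eM.2 orderOf_eM.1
  obtain ⟨T, hT⟩ := (IsPGroup.of_card (p := 2) (n := 3) (G := Subgroup.zpowers e8)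
    (by rw [Nat.card_zpowers, ← Subgroup.orderOf_coe, he8o]; norm_num)).exists_le_sylow
  have hT16 : Nat.card (T : Subgroup H) = 2 ^ 4 :=
    H30.card_sylow_subgroup T (a := 4) (m := 3) (by rw [hcard]; norm_num) (by norm_num)
  set T' : Subgroup G := (T : Subgroup H).map H.subtype with hT'
  have hT'16 : Nat.card T' = 2 ^ 4 := by
    rw [hT', ← Nat.card_congr ((T : Subgroup H).equivMapOfInjective _ H.subtype_injective).toEquiv,
      hT16]
  obtain ⟨P, hP⟩ := (IsPGroup.of_card (p := 2) (n := 4) hT'16).exists_le_sylow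
  have htP : t ∈ (P : Subgroup G) := by
    refine hP ⟨⟨t, Subgroup.mem_centralizer_singleton_iff.mpr rfl⟩, ?_, rfl⟩
    have h4 : (⟨t, Subgroup.mem_centralizer_singleton_iff.mpr rfl⟩ : H) = e8 ^ 4 := e.injective (by
      rw [map_t e ht, map_pow, he8]; decide +kernel)
    rw [h4]
    exact pow_mem (hT (Subgroup.mem_zpowers e8)) 4
  have hPne : Nontrivial (P : Subgroup G) :=
    ⟨⟨⟨t, htP⟩, 1, fun h => by
      have h' : t = 1 := congrArg Subtype.val h
      rw [h', orderOf_one] at ht; omega⟩⟩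
  have hnt := P.isPGroup'.center_nontrivial
  obtain ⟨w, hw⟩ := exists_prime_orderOf_dvd_card' (G := Subgroup.center (P : Subgroup G)) 2 (by
    obtain ⟨k, hk⟩ := IsPGroup.iff_card.mp (P.isPGroup'.to_subgroup (Subgroup.center _))
    rcases k with _ | k
    · rw [pow_zero] at hk
      have := Finite.one_lt_card (α := Subgroup.center (P : Subgroup G))
      omega
    · rw [hk]; exact dvd_pow_self 2 (by omega))
  set w' : G := ((w : (P : Subgroup G)) : G) with hw'
  have hwc : ∀ p ∈ (P : Subgroup G), p * w' = w' * p := fun p hp =>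
    congrArg Subtype.val ((Subgroup.mem_center_iff.mp w.2) ⟨p, hp⟩)
  have hwH : w' ∈ H := Subgroup.mem_centralizer_singleton_iff.mpr (hwc t htP).symm
  have hw2 : orderOf w' = 2 := by rw [hw', Subgroup.orderOf_coe, Subgroup.orderOf_coe, hw]
  have hwt : w' = t := by
    obtain ⟨h1, h2'⟩ := (two_iff e ⟨w', hwH⟩).mp hw2
    have h3 := commute_eM (e ⟨w', hwH⟩) h1 h2' (by
      rw [← he8, ← map_mul, ← map_mul]
      exact congrArg e (Subtype.ext (hwc (e8 : G) (hP ⟨e8, hT (Subgroup.mem_zpowers e8), rfl⟩)).symm))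
    exact congrArg Subtype.val (e.injective (h3.trans (map_t e ht).symm))
  have hPH : (P : Subgroup G) ≤ H := fun p hp =>
    Subgroup.mem_centralizer_singleton_iff.mpr (hwt ▸ hwc p hp)
  have h32 : 2 ^ 5 ∣ Nat.card (P : Subgroup G) := P.pow_dvd_card_of_pow_dvd_card (by
    obtain ⟨k, rfl⟩ := h2; rw [hm]; exact ⟨3 * k, by ring⟩)
  have h48 := h32.trans (Subgroup.card_dvd_of_le hPH)
  rw [hcard] at h48
  norm_num at h48

omit [Fintype G] in
theorem gen_onH {T : Fin 8 → ℂ} (h : Cfsg.IsGeneralizedCharacter M (ofTable T)) :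
    Cfsg.IsGeneralizedCharacter (Subgroup.centralizer ({t} : Set G)) (onH e T) := by
  obtain ⟨a, b, ha, hb, hab⟩ := h
  refine ⟨fun h => a (e h), fun h => b (e h), H26.isCharacter_comp ha e.toMonoidHom,
    H26.isCharacter_comp hb e.toMonoidHom, ?_⟩
  funext x
  simp only [onH, hab]
  rfl

omit [Fintype G] in
theorem gen_indFun [Fintype G] {K : Subgroup G} {θ : K → ℂ} (h : Cfsg.IsGeneralizedCharacter K θ) :
    Cfsg.IsGeneralizedCharacter G (Cfsg.indFun K θ) := by
  obtain ⟨a, b, ha, hb, rfl⟩ := h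
  exact ⟨_, _, H25.isCharacter_indFun K ha, H25.isCharacter_indFun K hb, H25.indFun_sub K a b⟩

theorem classInner_onH [Fintype (Subgroup.centralizer ({t} : Set G))] (T U : Fin 8 → ℂ) :
    Cfsg.classInner (onH e T) (onH e U) = Cfsg.classInner (ofTable T) (ofTable U) := by
  rw [Cfsg.classInner, Cfsg.classInner, Nat.card_congr e.toEquiv]
  congr 1
  exact Equiv.sum_comp e.toEquiv fun g => ofTable T g * conj (ofTable U g)

/-- The support set. -/
def special (t : G) : Set G := {g | t ∈ Subgroup.zpowers g}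

include ht in
theorem special_ti : ∀ g : G, ∀ x ∈ special t, g * x * g⁻¹ ∈ special t →
    g ∈ Subgroup.centralizer ({t} : Set G) := by
  classical
  intro g x hx hgx
  set y := g * x * g⁻¹ with hy
  have hgt : g * t * g⁻¹ ∈ Subgroup.zpowers y := by
    obtain ⟨k, hk⟩ := Subgroup.mem_zpowers_iff.mp hx
    exact Subgroup.mem_zpowers_iff.mpr ⟨k, by rw [hy, conj_zpow, hk]⟩
  have hsq : ∀ a : G, orderOf a = 2 → a * a = 1 ∧ a ≠ 1 := fun a ha => by
    refine ⟨by rw [← pow_two, ← ha, pow_orderOf_eq_one], fun h => ?_⟩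
    rw [h, orderOf_one] at ha
    omega
  obtain ⟨t1, t2⟩ := hsq t ht
  obtain ⟨g1, g2⟩ := hsq (g * t * g⁻¹)
    ((orderOf_injective (MulAut.conj g).toMonoidHom (MulAut.conj g).injective t).trans ht)
  have heq : g * t * g⁻¹ = t := by
    by_contra hne
    let a : Subgroup.zpowers y := ⟨t, hgx⟩
    let b : Subgroup.zpowers y := ⟨g * t * g⁻¹, hgt⟩
    have hle := IsCyclic.card_pow_eq_one_le (α := Subgroup.zpowers y) (n := 2) (by norm_num)
    have hsub : ({1, a, b} : Finset (Subgroup.zpowers y)) ⊆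
        Finset.univ.filter fun v => v ^ 2 = 1 := by
      intro v hv
      simp only [Finset.mem_insert, Finset.mem_singleton] at hv
      rw [Finset.mem_filter]
      refine ⟨Finset.mem_univ v, ?_⟩
      rcases hv with rfl | rfl | rfl
      · exact one_pow 2
      · exact Subtype.ext (by simpa [pow_two, a] using t1)
      · exact Subtype.ext (by simpa [pow_two, b] using g1)
    have h3 : ({1, a, b} : Finset (Subgroup.zpowers y)).card = 3 :=
      Finset.card_eq_three.mpr ⟨1, a, b, fun h => t2 (congrArg Subtype.val h).symm,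
        fun h => g2 (congrArg Subtype.val h).symm, fun h => hne (congrArg Subtype.val h).symm, rfl⟩
    have := (Finset.card_le_card hsub).trans hle
    omega
  exact Subgroup.mem_centralizer_singleton_iff.mpr (mul_inv_eq_iff_eq_mul.mp heq)

include ht in
theorem onH_supported {T : Fin 8 → ℂ} (hT : Vanishes T)
    (y : Subgroup.centralizer ({t} : Set G)) (hy : (y : G) ∉ special t) : onH e T y = 0 := by
  by_cases h0 : cls (e y) = 0
  · simp [onH, ofTable, h0, hT.1]
  by_cases h3 : cls (e y) = 3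
  · simp [onH, ofTable, h3, hT.2.1]
  by_cases h5 : cls (e y) = 5
  · simp [onH, ofTable, h5, hT.2.2]
  exfalso
  apply hy
  have key : ∀ k : ℕ, e y ^ k = τ → t ∈ Subgroup.zpowers (y : G) := fun k hk => by
    have h1 : y ^ k = ⟨t, Subgroup.mem_centralizer_singleton_iff.mpr rfl⟩ :=
      e.injective (by rw [map_pow, hk, map_t e ht])
    have h2 : (y : G) ^ k = t := congrArg Subtype.val h1
    exact Subgroup.mem_zpowers_iff.mpr ⟨k, (zpow_natCast _ _).trans h2⟩
  rcases pow_eq_tau _ h0 h3 h5 with h | h | h | h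
  exacts [key 1 h, key 2 h, key 3 h, key 4 h]

include e ht in
/-- Order of a group with an involution centralizer `GL(2,3)` and fused involutions. -/
theorem card_eq_of_fusion
    (hfus : ∀ a ∈ Subgroup.centralizer ({t} : Set G), orderOf a = 2 → IsConj t a) :
    Nat.card G = 5616 ∨ Nat.card G = 7920 := by
  classical
  obtain ⟨L⟩ := exists_lattice
  obtain ⟨mG, hmG, hodd⟩ := exists_odd_cofactor e ht
  set H := Subgroup.centralizer ({t} : Set G) with hHdef
  have hH48 : Nat.card H = 48 := by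
    rw [Nat.card_congr e.toEquiv, Nat.card_eq_fintype_card, card_M]
  set X := special t with hXdef
  have hTI := special_ti (t := t) ht
  -- induction is an isometry
  have hinner : ∀ {T U : Fin 8 → ℂ}, Vanishes T → Vanishes U →
      Cfsg.classInner (Cfsg.indFun H (onH e T)) (Cfsg.indFun H (onH e U)) =
        Cfsg.classInner (ofTable T) (ofTable U) := fun {T U} hT hU => by
    have hcl : Cfsg.IsClassFunction H (onH e U) := fun g x => by
      simp only [onH, map_mul, map_inv]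
      exact isClassFunction_ofTable U (e g) (e x)
    rw [H38.classInner_indFun_ti H X hTI _ _ hcl (onH_supported e ht hT) (onH_supported e ht hU),
      classInner_onH]
  have hone : ∀ (T : Fin 8 → ℂ),
      Cfsg.classInner (Cfsg.indFun H (onH e T)) (fun _ => 1) =
        Cfsg.classInner (ofTable T) (ofTable fun _ => 1) := fun T => by
    rw [H25.classInner_indFun_left H _ (fun _ => (1 : ℂ)) (fun _ _ => rfl),
      ← classInner_onH e T (fun _ => 1)]
    rfl
  have hdeg0 : ∀ {T : Fin 8 → ℂ}, Vanishes T → Cfsg.indFun H (onH e T) 1 = 0 := fun {T} hT => by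
    rw [H25.indFun_one]
    have h1 : cls (1 : M) = 0 := by decide +kernel
    simp [onH, ofTable, h1, hT.1]
  have v2 : Vanishes T2 := ⟨rfl, rfl, rfl⟩
  have v3 : Vanishes T3 := ⟨rfl, rfl, rfl⟩
  have vS : Vanishes (TS L.s) := ⟨rfl, rfl, rfl⟩
  have vW : Vanishes (TW L.s) := ⟨rfl, rfl, rfl⟩
  have vV : Vanishes (TW (-L.s)) := ⟨rfl, rfl, rfl⟩
  obtain ⟨m2, hm2⟩ := H57.gen_exists_coef (gen_indFun (gen_onH e L.gen2))
  obtain ⟨m3, hm3⟩ := H57.gen_exists_coef (gen_indFun (gen_onH e L.gen3))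
  obtain ⟨mS, hmS⟩ := H57.gen_exists_coef (gen_indFun (gen_onH e L.genS))
  obtain ⟨mW, hmW⟩ := H57.gen_exists_coef (gen_indFun (gen_onH e L.genW))
  obtain ⟨mV, hmV⟩ := H57.gen_exists_coef (gen_indFun (gen_onH e L.genW'))
  have hdot : ∀ {T U : Fin 8 → ℂ} {c d : Cfsg.IrrCharacter G → ℤ}, Vanishes T → Vanishes U →
      Cfsg.indFun H (onH e T) = ∑ χ : Cfsg.IrrCharacter G, c χ • (χ : G → ℂ) →
      Cfsg.indFun H (onH e U) = ∑ χ : Cfsg.IrrCharacter G, d χ • (χ : G → ℂ) →
      ∀ k : ℤ, Cfsg.classInner (ofTable T) (ofTable U) = (k : ℂ) → ∑ χ, c χ * d χ = k := by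
    intro T U c d hT hU hc hd k hk
    rw [← hinner hT hU, hc, hd, H26.classInner_sum_right] at hk
    simp only [H57.classInner_zsmul_right, H57.inner_coef, ← Int.cast_mul, ← Int.cast_sum] at hk
    have hk' : ∑ χ, d χ * c χ = k := by exact_mod_cast hk
    rw [← hk']
    exact Finset.sum_congr rfl fun χ _ => mul_comm _ _
  set o := H26.oneIrr G with ho
  have hco : ∀ {T : Fin 8 → ℂ} {c : Cfsg.IrrCharacter G → ℤ},
      Cfsg.indFun H (onH e T) = ∑ χ : Cfsg.IrrCharacter G, c χ • (χ : G → ℂ) →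
      ∀ k : ℤ, Cfsg.classInner (ofTable T) (ofTable fun _ => 1) = (k : ℂ) → c o = k := by
    intro T c hc k hk
    have h := H57.inner_coef c o
    rw [← hc, show (o : G → ℂ) = fun _ => 1 from rfl, hone T, hk] at h
    exact_mod_cast h.symm
  have hs := L.conj_s
  have hsq := L.sq_s
  have hsq2 : L.s ^ 2 = -2 := by rw [pow_two]; exact hsq
  have table : ∀ T U : Fin 8 → ℂ, ∀ k : ℂ,
      (48 : ℂ)⁻¹ * (T 0 * conj (U 0) + T 1 * conj (U 1) + 6 * (T 2 * conj (U 2)) +
        8 * (T 3 * conj (U 3)) + 8 * (T 4 * conj (U 4)) + 12 * (T 5 * conj (U 5)) +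
        6 * (T 6 * conj (U 6)) + 6 * (T 7 * conj (U 7))) = k →
      Cfsg.classInner (ofTable T) (ofTable U) = k := fun T U k h => by
    rw [classInner_ofTable]; exact h
  have d2W := hdot v2 vW hm2 hmW 1 (table _ _ _ (by simp [T2, TW, hs, map_ofNat]; ring))
  have d2V := hdot v2 vV hm2 hmV 1 (table _ _ _ (by simp [T2, TW, hs, map_ofNat]; ring))
  have dWV := hdot vW vV hmW hmV 2 (table _ _ _ (by
    simp [TW, hs, map_ofNat]; (ring_nf; rw [hsq2]; norm_num)))
  have d23 := hdot v2 v3 hm2 hm3 1 (table _ _ _ (by simp [T2, T3, map_ofNat]; norm_num))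
  have dW3 := hdot vW v3 hmW hm3 (-1) (table _ _ _ (by simp [TW, T3, map_ofNat]; ring))
  have dV3 := hdot vV v3 hmV hm3 (-1) (table _ _ _ (by simp [TW, T3, map_ofNat]; ring))
  have d2S := hdot v2 vS hm2 hmS 0 (table _ _ _ (by simp [T2, TS, hs, map_ofNat]; ring))
  have dWS := hdot vW vS hmW hmS (-1) (table _ _ _ (by
    simp [TW, TS, hs, map_ofNat]; (ring_nf; rw [hsq2]; norm_num)))
  have dVS := hdot vV vS hmV hmS 0 (table _ _ _ (by
    simp [TW, TS, hs, map_ofNat]; (ring_nf; rw [hsq2]; norm_num)))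
  have d33 := hdot v3 v3 hm3 hm3 3 (table _ _ _ (by simp [T3, map_ofNat]; norm_num))
  have dSS := hdot vS vS hmS hmS 2 (table _ _ _ (by
    simp [TS, hs, map_ofNat]; (ring_nf; rw [hsq2]; norm_num)))
  have d3S := hdot v3 vS hm3 hmS 0 (table _ _ _ (by simp [T3, TS, hs, map_ofNat]; ring))
  have o3 := hco hm3 0 (table _ _ _ (by simp [T3]; norm_num))
  have oS := hco hmS 0 (table _ _ _ (by simp [TS]; ring))
  have pair : ∀ {T : Fin 8 → ℂ} {c : Cfsg.IrrCharacter G → ℤ}, Vanishes T →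
      Cfsg.IsGeneralizedCharacter G (Cfsg.indFun H (onH e T)) →
      Cfsg.indFun H (onH e T) = ∑ χ : Cfsg.IrrCharacter G, c χ • (χ : G → ℂ) →
      Cfsg.classInner (ofTable T) (ofTable fun _ => 1) = 1 →
      Cfsg.classInner (ofTable T) (ofTable T) = 3 →
      ∃ A B : Cfsg.IrrCharacter G, A ≠ o ∧ B ≠ o ∧ A ≠ B ∧ A.1 1 = B.1 1 + 1 ∧
        ∀ χ, c χ = (if χ = o then 1 else 0) - (if χ = A then 1 else 0) + (if χ = B then 1 else 0) := by
    intro T c hT hgen hc h1 h3
    obtain ⟨A, B, hA, hB, hAB, hd, heq⟩ :=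
      H38.exists_pair_of_norm_three hgen (hdeg0 hT) ((hone T).trans h1) ((hinner hT hT).trans h3)
    refine ⟨A, B, hA, hB, hAB, hd, fun χ => ?_⟩
    have h := H57.inner_coef c χ
    rw [← hc, heq, show (fun g => 1 - A.1 g + B.1 g) = (o.1 - A.1 + B.1) from rfl,
      H26.classInner_add_left, H26.classInner_sub_left, H26.classInner_irr, H26.classInner_irr,
      H26.classInner_irr] at h
    have h' : (((if χ = o then 1 else 0) - (if χ = A then 1 else 0) +
        (if χ = B then 1 else 0) : ℤ) : ℂ) = (c χ : ℂ) := by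
      rw [← h]
      push_cast
      simp only [eq_comm (a := χ)]
    exact_mod_cast h'.symm
  obtain ⟨A, B, hA, hB, hAB, hdA, e2⟩ := pair v2 (gen_indFun (gen_onH e L.gen2)) hm2
    (table _ _ _ (by simp [T2]; norm_num)) (table _ _ _ (by simp [T2, map_ofNat]; norm_num))
  obtain ⟨R, U, hR, hU, hRU, hdR, eW⟩ := pair vW (gen_indFun (gen_onH e L.genW)) hmW
    (table _ _ _ (by simp [TW]; ring)) (table _ _ _ (by
      simp [TW, hs, map_ofNat]; (ring_nf; rw [hsq2]; norm_num)))
  obtain ⟨P, W, hP, hW, hPW, -, eV⟩ := pair vV (gen_indFun (gen_onH e L.genW')) hmV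
    (table _ _ _ (by simp [TW]; ring)) (table _ _ _ (by
      simp [TW, hs, map_ofNat]; (ring_nf; rw [hsq2]; norm_num)))
  -- values at the involution
  set v : Cfsg.IrrCharacter G → ℤ := fun χ => 3 * m2 χ + m3 χ + 2 * mS χ - 2 * mV χ with hv
  have hval : ∀ χ : Cfsg.IrrCharacter G, χ.1 t = (v χ : ℂ) := by
    intro χ
    have hc : ∀ {T : Fin 8 → ℂ} {c : Cfsg.IrrCharacter G → ℤ},
        Cfsg.indFun H (onH e T) = ∑ χ : Cfsg.IrrCharacter G, c χ • (χ : G → ℂ) →
        (c χ : ℂ) = (48 : ℂ)⁻¹ * ∑ y : H, onH e T y * conj (χ.1 y) := by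
      intro T c hc
      rw [← H57.inner_coef c χ, ← hc,
        H25.classInner_indFun_left H _ _ (H26.irr_isClassFunction χ), Cfsg.classInner, hH48]
      norm_num
    have hf : ∀ y : H, 3 * onH e T2 y + onH e T3 y + 2 * onH e (TS L.s) y -
        2 * onH e (TW (-L.s)) y =
        if y = ⟨t, Subgroup.mem_centralizer_singleton_iff.mpr rfl⟩ then 48 else 0 := by
      intro y
      have key : ∀ c : Fin 8, 3 * T2 c + T3 c + 2 * TS L.s c - 2 * TW (-L.s) c =
          if c = 1 then 48 else 0 := by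
        intro c
        fin_cases c <;> simp [T2, T3, TS, TW] <;> ring
      refine (key (cls (e y))).trans ?_
      by_cases hy : y = ⟨t, Subgroup.mem_centralizer_singleton_iff.mpr rfl⟩
      · rw [if_pos hy, if_pos]
        rw [hy, map_t e ht]; decide +kernel
      · rw [if_neg hy, if_neg fun h => hy (e.injective ((cls_eq_one _ h).trans (map_t e ht).symm))]
    have h : (v χ : ℂ) = (48 : ℂ)⁻¹ * ∑ y : H, (3 * onH e T2 y + onH e T3 y +
        2 * onH e (TS L.s) y - 2 * onH e (TW (-L.s)) y) * conj (χ.1 y) := by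
      rw [hv]
      push_cast
      rw [hc hm2, hc hm3, hc hmS, hc hmV]
      simp only [add_mul, sub_mul, Finset.sum_add_distrib, Finset.sum_sub_distrib, mul_assoc,
        ← Finset.mul_sum]
      ring
    simp only [hf, ite_mul, zero_mul, Finset.sum_ite_eq', Finset.mem_univ, if_true] at h
    rw [← mul_assoc, inv_mul_cancel₀ (by norm_num), one_mul] at h
    have h' := congrArg conj h
    rw [map_intCast, Complex.conj_conj] at h'
    exact h'.symm
  obtain ⟨hvo, hvAB, hvRU⟩ := solve o m2 m3 mS mW mV v A B R U P W hA hB hAB hR hU hRU hP hW hPW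
    e2 eW eV o3 oS d2W d2V dWV d23 dW3 dV3 d2S dWS dVS d33 dSS d3S (fun χ => rfl)
  -- counting
  let n : G → ℕ := fun g => Nat.card {p : G × G // IsConj t p.1 ∧ IsConj t p.2 ∧ p.1 * p.2 = g}
  have hct : Nat.card (Subgroup.centralizer ({t} : Set G)) = 48 := hH48
  have hn : ∀ y : H, cls (e y) ≠ 0 → cls (e y) ≠ 3 → cls (e y) ≠ 5 →
      n y = pairTable (cls (e y)) := by
    intro y h0 h3 h5
    rw [← pair_count (e y) h0 h3 h5]
    have hyt : ∀ a b : G, a * a = 1 → b * b = 1 → a * b = (y : G) → a ∈ H := by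
      intro a b ha hb hab
      -- `a` inverts `y`, hence fixes `t`
      have ht' : ∀ k : ℤ, a * (y : G) ^ k * a⁻¹ = (y : G) ^ (-k) := by
        intro k
        rw [← conj_zpow, zpow_neg, ← inv_zpow]
        congr 1
        rw [← hab, mul_inv_rev, inv_eq_of_mul_eq_one_right ha, inv_eq_of_mul_eq_one_right hb,
          ← mul_assoc, ha, one_mul]
      have htX : t ∈ Subgroup.zpowers (y : G) := by
        have key : ∀ k : ℕ, e y ^ k = τ → t ∈ Subgroup.zpowers (y : G) := fun k hk => by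
          have h1 : y ^ k = ⟨t, Subgroup.mem_centralizer_singleton_iff.mpr rfl⟩ :=
            e.injective (by rw [map_pow, hk, map_t e ht])
          exact Subgroup.mem_zpowers_iff.mpr
            ⟨k, (zpow_natCast _ _).trans (congrArg Subtype.val h1 : (y : G) ^ k = t)⟩
        rcases pow_eq_tau _ h0 h3 h5 with h | h | h | h
        exacts [key 1 h, key 2 h, key 3 h, key 4 h]
      obtain ⟨k, hk⟩ := Subgroup.mem_zpowers_iff.mp htX
      have h1 := ht' k
      rw [zpow_neg, hk, inv_eq_of_mul_eq_one_right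
        (show t * t = 1 by rw [← pow_two, ← ht, pow_orderOf_eq_one])] at h1
      exact Subgroup.mem_centralizer_singleton_iff.mpr (mul_inv_eq_iff_eq_mul.mp h1)
    have hsq : ∀ a : G, IsConj t a → a * a = 1 ∧ a ≠ 1 := fun a ha => by
      have ho : orderOf a = 2 := by
        obtain ⟨g, rfl⟩ := isConj_iff.mp ha
        exact (orderOf_injective (MulAut.conj g).toMonoidHom (MulAut.conj g).injective t).trans ht
      refine ⟨by rw [← pow_two, ← ho, pow_orderOf_eq_one], fun h => ?_⟩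
      rw [h, orderOf_one] at ho
      omega
    have hord : ∀ a : G, a * a = 1 → a ≠ 1 → orderOf a = 2 := fun a h1 h2 =>
      orderOf_eq_prime (p := 2) (hp := ⟨Nat.prime_two⟩) (by rw [pow_two, h1]) h2
    rw [show (Finset.univ.filter fun x : M => (x * x = 1 ∧ x ≠ 1) ∧
      ((x * e y) * (x * e y) = 1 ∧ x * e y ≠ 1)).card = Nat.card {x : M // (x * x = 1 ∧ x ≠ 1) ∧
        ((x * e y) * (x * e y) = 1 ∧ x * e y ≠ 1)} by
        rw [Nat.card_eq_fintype_card, Fintype.card_subtype]]
    refine Nat.card_congr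
      { toFun := fun p => ⟨e ⟨p.1.1, hyt p.1.1 p.1.2 (hsq _ p.2.1).1 (hsq _ p.2.2.1).1 p.2.2.2⟩,
          ?_⟩
        invFun := fun x => ⟨(((e.symm x.1 : H) : G), ((e.symm x.1 * y : H) : G)), ?_⟩
        left_inv := fun p => ?_
        right_inv := fun x => ?_ }
    · obtain ⟨⟨a, b⟩, ha, hb, hab⟩ := p
      have haH := hyt a b (hsq _ ha).1 (hsq _ hb).1 hab
      obtain ⟨g1, g2⟩ := hsq _ ha
      obtain ⟨g3, g4⟩ := hsq _ hb
      have hb' : a * (y : G) = b := by rw [← hab, ← mul_assoc, g1, one_mul]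
      refine ⟨⟨?_, fun h => g2 ?_⟩, ?_, fun h => g4 ?_⟩
      · rw [← map_mul, ← map_one e]; exact congrArg e (Subtype.ext g1)
      · exact congrArg Subtype.val (e.injective (h.trans (map_one e).symm))
      · rw [← map_mul, ← map_mul, ← map_one e]
        exact congrArg e (Subtype.ext (by show a * (y : G) * (a * (y : G)) = 1; rw [hb', g3]))
      · rw [← hb']
        rw [← map_mul] at h
        exact congrArg Subtype.val (e.injective (h.trans (map_one e).symm))
    · obtain ⟨x, ⟨x1, x2⟩, x3, x4⟩ := x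
      have key : ∀ h : H, e h * e h = 1 → e h ≠ 1 → IsConj t (h : G) := fun h h1 h2 => by
        refine hfus _ h.2 (hord _ ?_ fun h' => h2 ?_)
        · exact congrArg Subtype.val (e.injective (by rw [map_mul, h1, map_one]) : h * h = 1)
        · rw [show h = 1 from Subtype.ext h', map_one]
      refine ⟨key (e.symm x) (by simpa using x1) (by simpa using x2),
        key (e.symm x * y) (by simpa using x3) (by simpa using x4), ?_⟩
      show ((e.symm x : H) : G) * ((e.symm x * y : H) : G) = y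
      rw [← Subgroup.coe_mul, ← mul_assoc,
        show e.symm x * e.symm x = 1 by rw [← map_mul, x1, map_one], one_mul]
    · obtain ⟨⟨a, b⟩, ha, hb, hab⟩ := p
      apply Subtype.ext
      simp only [MulEquiv.symm_apply_apply, Subgroup.coe_mul, Prod.mk.injEq, true_and]
      rw [← hab, ← mul_assoc, (hsq _ ha).1, one_mul]
    · apply Subtype.ext
      simp
  have hcount : ∀ {T : Fin 8 → ℂ} {c : Cfsg.IrrCharacter G → ℤ}, Vanishes T →
      Cfsg.indFun H (onH e T) = ∑ χ : Cfsg.IrrCharacter G, c χ • (χ : G → ℂ) →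
      48 * (∑ g : M, T (cls g) * (pairTable (cls g) : ℂ)) =
        (Nat.card G : ℂ) * ∑ χ, (c χ : ℂ) * ((v χ : ℂ) * (v χ : ℂ)) / χ.1 1 := by
    intro T c hT hc
    have hG : (Nat.card G : ℂ) ≠ 0 := Nat.cast_ne_zero.2 Nat.card_pos.ne'
    have hcf : ∀ g : G, (n g : ℂ) * (48 * 48) =
        (Nat.card G : ℂ) * ∑ χ : Cfsg.IrrCharacter G, (v χ : ℂ) * (v χ : ℂ) * conj (χ.1 g) / χ.1 1 := by
      intro g
      have h := count_formula t t g
      rw [hct] at h
      simp only [hval] at h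
      push_cast at h
      exact h
    have hnf : Cfsg.IsClassFunction G fun g => (n g : ℂ) := by
      intro g x
      have h1 := hcf (x * g * x⁻¹)
      simp only [H26.irr_conj] at h1
      rw [← hcf g] at h1
      exact mul_right_cancel₀ (by norm_num) h1
    have hfr := H25.classInner_indFun_left H (onH e T) (fun g => (n g : ℂ)) hnf
    have hM : ∑ y : H, onH e T y * conj ((n y : ℕ) : ℂ) =
        ∑ g : M, T (cls g) * (pairTable (cls g) : ℂ) := by
      rw [← Equiv.sum_comp e.toEquiv fun g => T (cls g) * (pairTable (cls g) : ℂ)]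
      refine Finset.sum_congr rfl fun y _ => ?_
      show T (cls (e y)) * conj ((n y : ℕ) : ℂ) = T (cls (e y)) * (pairTable (cls (e y)) : ℂ)
      rw [map_natCast]
      by_cases h0 : cls (e y) = 0
      · rw [h0, hT.1, zero_mul, zero_mul]
      by_cases h3 : cls (e y) = 3
      · rw [h3, hT.2.1, zero_mul, zero_mul]
      by_cases h5 : cls (e y) = 5
      · rw [h5, hT.2.2, zero_mul, zero_mul]
      rw [hn y h0 h3 h5]
    unfold Cfsg.classInner at hfr
    rw [hM, hH48] at hfr
    have hexp : ∑ g : G, Cfsg.indFun H (onH e T) g * conj ((n g : ℕ) : ℂ) * (48 * 48) =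
        (Nat.card G : ℂ) * ((Nat.card G : ℂ) *
          ∑ χ, (c χ : ℂ) * ((v χ : ℂ) * (v χ : ℂ)) / χ.1 1) := by
      calc _ = ∑ g : G, Cfsg.indFun H (onH e T) g * ((Nat.card G : ℂ) *
            ∑ χ : Cfsg.IrrCharacter G, (v χ : ℂ) * (v χ : ℂ) * conj (χ.1 g) / χ.1 1) :=
            Finset.sum_congr rfl fun g _ => by rw [map_natCast, mul_assoc, hcf]
        _ = (Nat.card G : ℂ) * ∑ χ : Cfsg.IrrCharacter G, (v χ : ℂ) * (v χ : ℂ) / χ.1 1 *
            ∑ g : G, Cfsg.indFun H (onH e T) g * conj (χ.1 g) := by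
            simp only [Finset.mul_sum]
            rw [Finset.sum_comm]
            exact Finset.sum_congr rfl fun χ _ => Finset.sum_congr rfl fun g _ => by ring
        _ = _ := by
            congr 1
            rw [Finset.mul_sum]
            refine Finset.sum_congr rfl fun χ _ => ?_
            have h := H57.inner_coef c χ
            rw [← hc, Cfsg.classInner] at h
            rw [← h]
            field_simp
    rw [← Finset.sum_mul] at hexp
    field_simp at hfr
    push_cast at hfr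
    apply mul_left_cancel₀ hG
    linear_combination hexp - 48 * hfr
  have ev : ∀ T : Fin 8 → ℂ, (∑ g : M, T (cls g) * (pairTable (cls g) : ℂ)) =
      12 * T 1 + 24 * T 2 + 48 * T 4 := fun T => by
    rw [sum_ofTable fun c => T c * (pairTable c : ℂ)]
    simp [pairTable]
    ring
  have hsum : ∀ (X Y : Cfsg.IrrCharacter G) (c : Cfsg.IrrCharacter G → ℤ), X ≠ o → Y ≠ o → X ≠ Y →
      (∀ χ, c χ = (if χ = o then 1 else 0) - (if χ = X then 1 else 0) + (if χ = Y then 1 else 0)) →
      ∑ χ, (c χ : ℂ) * ((v χ : ℂ) * (v χ : ℂ)) / χ.1 1 =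
        1 - ((v X * v X : ℤ) : ℂ) / X.1 1 + ((v Y * v Y : ℤ) : ℂ) / Y.1 1 := by
    intro X Y c hX hY hXY hc
    simp only [hc, Int.cast_sub, Int.cast_add, Int.cast_ite, Int.cast_one, Int.cast_zero, add_mul,
      sub_mul, ite_mul, one_mul, zero_mul, add_div, sub_div, ite_div, zero_div,
      Finset.sum_add_distrib, Finset.sum_sub_distrib, Finset.sum_ite_eq', Finset.mem_univ, if_true]
    rw [hvo, show o.1 1 = 1 from rfl]
    push_cast
    ring
  obtain ⟨b, hb0, hb⟩ := H57.irr_degree B.2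
  obtain ⟨r, hr0, hr⟩ := H57.irr_degree U.2
  have eq2 := hcount v2 hm2
  rw [ev, hsum A B m2 hA hB hAB e2, hdA, hb] at eq2
  have eqW := hcount vW hmW
  rw [ev, hsum R U mW hR hU hRU eW, hdR, hr] at eqW
  have hb1 : (b : ℂ) + 1 ≠ 0 := by exact_mod_cast (show b + 1 ≠ 0 by omega)
  have hr1 : (r : ℂ) + 1 ≠ 0 := by exact_mod_cast (show r + 1 ≠ 0 by omega)
  have hbn : (b : ℂ) ≠ 0 := by exact_mod_cast (show b ≠ 0 by omega)
  have hrn : (r : ℂ) ≠ 0 := by exact_mod_cast (show r ≠ 0 by omega)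
  simp [T2, TW, ← Nat.card_eq_fintype_card] at eq2 eqW
  field_simp at eq2 eqW
  obtain ⟨a, ha0, ha1, ha⟩ : ∃ a : ℤ, a ≠ 0 ∧ a ≠ -1 ∧
      (Nat.card G : ℤ) * (a + 4) ^ 2 = 9216 * (a * (a + 1)) := by
    rcases hvAB with ⟨x1, x2⟩ | ⟨x1, x2⟩
    · refine ⟨-(b + 1 : ℕ), by omega, by omega, ?_⟩
      have x1' : (v A : ℂ) * (v A : ℂ) = 16 := by exact_mod_cast x1
      have x2' : (v B : ℂ) * (v B : ℂ) = 9 := by exact_mod_cast x2
      have h : ((Nat.card G : ℤ) : ℂ) * ((-(b + 1 : ℕ) : ℤ) + 4 : ℂ) ^ 2 =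
          9216 * (((-(b + 1 : ℕ) : ℤ) : ℂ) * (((-(b + 1 : ℕ) : ℤ) : ℂ) + 1)) := by
        push_cast
        linear_combination -eq2 + (Nat.card G : ℂ) * b * x1' - (Nat.card G : ℂ) * (b + 1) * x2'
      exact_mod_cast h
    · refine ⟨b, by omega, by omega, ?_⟩
      have x1' : (v A : ℂ) * (v A : ℂ) = 9 := by exact_mod_cast x1
      have x2' : (v B : ℂ) * (v B : ℂ) = 16 := by exact_mod_cast x2
      have h : ((Nat.card G : ℤ) : ℂ) * (((b : ℤ) : ℂ) + 4) ^ 2 =
          9216 * (((b : ℤ) : ℂ) * (((b : ℤ) : ℂ) + 1)) := by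
        push_cast
        linear_combination -eq2 + (Nat.card G : ℂ) * b * x1' - (Nat.card G : ℂ) * (b + 1) * x2'
      exact_mod_cast h
  obtain ⟨u, hu0, hu1, hu⟩ : ∃ u : ℤ, u ≠ 0 ∧ u ≠ -1 ∧
      (Nat.card G : ℤ) * (u - 2) ^ 2 = 4608 * (u * (u + 1)) := by
    rcases hvRU with ⟨x1, x2⟩ | ⟨x1, x2⟩
    · refine ⟨r, by omega, by omega, ?_⟩
      have x1' : (v R : ℂ) * (v R : ℂ) = 9 := by exact_mod_cast x1
      have x2' : (v U : ℂ) * (v U : ℂ) = 4 := by exact_mod_cast x2
      have h : ((Nat.card G : ℤ) : ℂ) * (((r : ℤ) : ℂ) - 2) ^ 2 =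
          4608 * (((r : ℤ) : ℂ) * (((r : ℤ) : ℂ) + 1)) := by
        push_cast
        linear_combination -eqW + (Nat.card G : ℂ) * r * x1' - (Nat.card G : ℂ) * (r + 1) * x2'
      exact_mod_cast h
    · refine ⟨-(r + 1 : ℕ), by omega, by omega, ?_⟩
      have x1' : (v R : ℂ) * (v R : ℂ) = 4 := by exact_mod_cast x1
      have x2' : (v U : ℂ) * (v U : ℂ) = 9 := by exact_mod_cast x2
      have h : ((Nat.card G : ℤ) : ℂ) * (((-(r + 1 : ℕ) : ℤ) : ℂ) - 2) ^ 2 =
          4608 * (((-(r + 1 : ℕ) : ℤ) : ℂ) * (((-(r + 1 : ℕ) : ℤ) : ℂ) + 1)) := by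
        push_cast
        linear_combination -eqW + (Nat.card G : ℂ) * r * x1' - (Nat.card G : ℂ) * (r + 1) * x2'
      exact_mod_cast h
  have hpos : 0 < mG := by
    have := Nat.card_pos (α := G)
    omega
  rcases orderArith (Nat.card G : ℤ) a u ⟨mG, by exact_mod_cast hmG, by exact_mod_cast hodd,
    by exact_mod_cast hpos⟩ ha ha0 ha1 hu hu0 hu1 with h | h
  · exact Or.inl (by exact_mod_cast h)
  · exact Or.inr (by exact_mod_cast h)

end Group

end Cfsg.Agent.H30.GLTwoThree
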