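import Mathlib

/-!
# Finite computations in GL(2,3)
-/

set_option autoImplicit false
set_option synthInstance.maxSize 4096
set_option maxHeartbeats 1000000

namespace Cfsg.Agent.H30.GLTwoThree

/-- The group. -/
abbrev M : Type := GL (Fin 2) (ZMod 3)

/-- An element of order eight. -/
def eM : M := ⟨!![1, 1; 1, 0], !![0, 1; 1, -1], by decide, by decide⟩

/-- The central involution. -/
def τ : M := ⟨-1, -1, by decide, by decide⟩

/-- An element of order three. -/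
def xM : M := ⟨!![1, 1; 0, 1], !![1, -1; 0, 1], by decide, by decide⟩

/-- An outer involution. -/
def rM : M := ⟨!![1, 0; 0, -1], !![1, 0; 0, -1], by decide, by decide⟩

/-- The determinant as an element of `ZMod 3`. -/
def dt (g : M) : ZMod 3 :=
  (g : Matrix (Fin 2) (Fin 2) (ZMod 3)) 0 0 * (g : Matrix (Fin 2) (Fin 2) (ZMod 3)) 1 1 -
    (g : Matrix (Fin 2) (Fin 2) (ZMod 3)) 0 1 * (g : Matrix (Fin 2) (Fin 2) (ZMod 3)) 1 0

/-- The trace. -/
def tr (g : M) : ZMod 3 :=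
  (g : Matrix (Fin 2) (Fin 2) (ZMod 3)) 0 0 + (g : Matrix (Fin 2) (Fin 2) (ZMod 3)) 1 1

/-- The class of an element. -/
def cls (g : M) : Fin 8 :=
  if g = 1 then 0 else if g = τ then 1
  else if dt g = 1 then (if tr g = 0 then 2 else if tr g = 2 then 3 else 4)
  else (if tr g = 0 then 5 else if tr g = 1 then 6 else 7)

/-- All elements, listed. -/
def elems : List M := [
  ⟨!![0, 1; 1, 0], !![0, 1; 1, 0], by decide, by decide⟩,
  ⟨!![0, 1; 1, 1], !![2, 1; 1, 0], by decide, by decide⟩,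
  ⟨!![0, 1; 1, 2], !![1, 1; 1, 0], by decide, by decide⟩,
  ⟨!![0, 1; 2, 0], !![0, 2; 1, 0], by decide, by decide⟩,
  ⟨!![0, 1; 2, 1], !![1, 2; 1, 0], by decide, by decide⟩,
  ⟨!![0, 1; 2, 2], !![2, 2; 1, 0], by decide, by decide⟩,
  ⟨!![0, 2; 1, 0], !![0, 1; 2, 0], by decide, by decide⟩,
  ⟨!![0, 2; 1, 1], !![1, 1; 2, 0], by decide, by decide⟩,
  ⟨!![0, 2; 1, 2], !![2, 1; 2, 0], by decide, by decide⟩,
  ⟨!![0, 2; 2, 0], !![0, 2; 2, 0], by decide, by decide⟩,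
  ⟨!![0, 2; 2, 1], !![2, 2; 2, 0], by decide, by decide⟩,
  ⟨!![0, 2; 2, 2], !![1, 2; 2, 0], by decide, by decide⟩,
  ⟨!![1, 0; 0, 1], !![1, 0; 0, 1], by decide, by decide⟩,
  ⟨!![1, 0; 0, 2], !![1, 0; 0, 2], by decide, by decide⟩,
  ⟨!![1, 0; 1, 1], !![1, 0; 2, 1], by decide, by decide⟩,
  ⟨!![1, 0; 1, 2], !![1, 0; 1, 2], by decide, by decide⟩,
  ⟨!![1, 0; 2, 1], !![1, 0; 1, 1], by decide, by decide⟩,
  ⟨!![1, 0; 2, 2], !![1, 0; 2, 2], by decide, by decide⟩,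
  ⟨!![1, 1; 0, 1], !![1, 2; 0, 1], by decide, by decide⟩,
  ⟨!![1, 1; 0, 2], !![1, 1; 0, 2], by decide, by decide⟩,
  ⟨!![1, 1; 1, 0], !![0, 1; 1, 2], by decide, by decide⟩,
  ⟨!![1, 1; 1, 2], !![2, 2; 2, 1], by decide, by decide⟩,
  ⟨!![1, 1; 2, 0], !![0, 2; 1, 1], by decide, by decide⟩,
  ⟨!![1, 1; 2, 1], !![2, 1; 2, 2], by decide, by decide⟩,
  ⟨!![1, 2; 0, 1], !![1, 1; 0, 1], by decide, by decide⟩,
  ⟨!![1, 2; 0, 2], !![1, 2; 0, 2], by decide, by decide⟩,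
  ⟨!![1, 2; 1, 0], !![0, 1; 2, 1], by decide, by decide⟩,
  ⟨!![1, 2; 1, 1], !![2, 2; 1, 2], by decide, by decide⟩,
  ⟨!![1, 2; 2, 0], !![0, 2; 2, 2], by decide, by decide⟩,
  ⟨!![1, 2; 2, 2], !![2, 1; 1, 1], by decide, by decide⟩,
  ⟨!![2, 0; 0, 1], !![2, 0; 0, 1], by decide, by decide⟩,
  ⟨!![2, 0; 0, 2], !![2, 0; 0, 2], by decide, by decide⟩,
  ⟨!![2, 0; 1, 1], !![2, 0; 1, 1], by decide, by decide⟩,
  ⟨!![2, 0; 1, 2], !![2, 0; 2, 2], by decide, by decide⟩,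
  ⟨!![2, 0; 2, 1], !![2, 0; 2, 1], by decide, by decide⟩,
  ⟨!![2, 0; 2, 2], !![2, 0; 1, 2], by decide, by decide⟩,
  ⟨!![2, 1; 0, 1], !![2, 1; 0, 1], by decide, by decide⟩,
  ⟨!![2, 1; 0, 2], !![2, 2; 0, 2], by decide, by decide⟩,
  ⟨!![2, 1; 1, 0], !![0, 1; 1, 1], by decide, by decide⟩,
  ⟨!![2, 1; 1, 1], !![1, 2; 2, 2], by decide, by decide⟩,
  ⟨!![2, 1; 2, 0], !![0, 2; 1, 2], by decide, by decide⟩,
  ⟨!![2, 1; 2, 2], !![1, 1; 2, 1], by decide, by decide⟩,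
  ⟨!![2, 2; 0, 1], !![2, 2; 0, 1], by decide, by decide⟩,
  ⟨!![2, 2; 0, 2], !![2, 1; 0, 2], by decide, by decide⟩,
  ⟨!![2, 2; 1, 0], !![0, 1; 2, 2], by decide, by decide⟩,
  ⟨!![2, 2; 1, 2], !![1, 2; 1, 1], by decide, by decide⟩,
  ⟨!![2, 2; 2, 0], !![0, 2; 2, 1], by decide, by decide⟩,
  ⟨!![2, 2; 2, 1], !![1, 1; 1, 2], by decide, by decide⟩]

theorem elems_nodup : elems.Nodup := by decide +kernel

theorem mem_elems : ∀ g : M, g ∈ elems := by decide +kernel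

/-- A fast enumeration. -/
instance (priority := high) fintypeM : Fintype M :=
  ⟨⟨(elems : Multiset M), elems_nodup⟩, mem_elems⟩

/-- Class representatives. -/
def rep : Fin 8 → M := ![1, τ, eM ^ 2, xM, τ * xM, rM, eM, eM ^ 5]

theorem cls_rep : ∀ c : Fin 8, cls (rep c) = c := by decide +kernel

theorem exists_conj : ∀ g : M, ∃ x : M, x * rep (cls g) * x⁻¹ = g := by decide +kernel

theorem cls_conj : ∀ g x : M, cls (x * g * x⁻¹) = cls g := by decide +kernel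

theorem class_card : ∀ c : Fin 8,
    (Finset.univ.filter fun g : M => cls g = c).card = ![1, 1, 6, 8, 8, 12, 6, 6] c := by
  decide +kernel

theorem card_M : Fintype.card M = 48 := by decide +kernel

/-- Upper triangular matrices. -/
def borel : Subgroup M where
  carrier := {g | (g : Matrix (Fin 2) (Fin 2) (ZMod 3)) 1 0 = 0}
  one_mem' := by decide +kernel
  mul_mem' {a b} ha hb := (by decide +kernel :
    ∀ a b : M, (a : Matrix (Fin 2) (Fin 2) (ZMod 3)) 1 0 = 0 →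
      (b : Matrix (Fin 2) (Fin 2) (ZMod 3)) 1 0 = 0 →
      ((a * b : M) : Matrix (Fin 2) (Fin 2) (ZMod 3)) 1 0 = 0) a b ha hb
  inv_mem' {a} ha := (by decide +kernel :
    ∀ a : M, (a : Matrix (Fin 2) (Fin 2) (ZMod 3)) 1 0 = 0 →
      ((a⁻¹ : M) : Matrix (Fin 2) (Fin 2) (ZMod 3)) 1 0 = 0) a ha

/-- The stabiliser of the first basis vector. -/
def fixVec : Subgroup M where
  carrier := {g | (g : Matrix (Fin 2) (Fin 2) (ZMod 3)) 1 0 = 0 ∧
    (g : Matrix (Fin 2) (Fin 2) (ZMod 3)) 0 0 = 1}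
  one_mem' := by decide +kernel
  mul_mem' {a b} ha hb := (by decide +kernel :
    ∀ a b : M, ((a : Matrix (Fin 2) (Fin 2) (ZMod 3)) 1 0 = 0 ∧
        (a : Matrix (Fin 2) (Fin 2) (ZMod 3)) 0 0 = 1) →
      ((b : Matrix (Fin 2) (Fin 2) (ZMod 3)) 1 0 = 0 ∧
        (b : Matrix (Fin 2) (Fin 2) (ZMod 3)) 0 0 = 1) →
      (((a * b : M) : Matrix (Fin 2) (Fin 2) (ZMod 3)) 1 0 = 0 ∧
        ((a * b : M) : Matrix (Fin 2) (Fin 2) (ZMod 3)) 0 0 = 1)) a b ha hb
  inv_mem' {a} ha := (by decide +kernel :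
    ∀ a : M, ((a : Matrix (Fin 2) (Fin 2) (ZMod 3)) 1 0 = 0 ∧
        (a : Matrix (Fin 2) (Fin 2) (ZMod 3)) 0 0 = 1) →
      (((a⁻¹ : M) : Matrix (Fin 2) (Fin 2) (ZMod 3)) 1 0 = 0 ∧
        ((a⁻¹ : M) : Matrix (Fin 2) (Fin 2) (ZMod 3)) 0 0 = 1)) a ha

/-- The normalizer of the cyclic subgroup of order eight. -/
def semidihedral : Subgroup M where
  carrier := {g | g * eM * g⁻¹ = eM ∨ g * eM * g⁻¹ = eM ^ 3}
  one_mem' := by decide +kernel
  mul_mem' {a b} ha hb := (by decide +kernel :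
    ∀ a b : M, (a * eM * a⁻¹ = eM ∨ a * eM * a⁻¹ = eM ^ 3) →
      (b * eM * b⁻¹ = eM ∨ b * eM * b⁻¹ = eM ^ 3) →
      (a * b * eM * (a * b)⁻¹ = eM ∨ a * b * eM * (a * b)⁻¹ = eM ^ 3)) a b ha hb
  inv_mem' {a} ha := (by decide +kernel :
    ∀ a : M, (a * eM * a⁻¹ = eM ∨ a * eM * a⁻¹ = eM ^ 3) →
      (a⁻¹ * eM * a⁻¹⁻¹ = eM ∨ a⁻¹ * eM * a⁻¹⁻¹ = eM ^ 3)) a ha

/-- The cyclic subgroup of order eight. -/
def cyclicEight : Subgroup M where
  carrier := {g | g * eM = eM * g}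
  one_mem' := by decide +kernel
  mul_mem' {a b} ha hb := by
    show a * b * eM = eM * (a * b)
    rw [mul_assoc, hb, ← mul_assoc, ha, mul_assoc]
  inv_mem' {a} ha := by
    show a⁻¹ * eM = eM * a⁻¹
    rw [inv_mul_eq_iff_eq_mul, ← mul_assoc, ha, mul_assoc, mul_inv_cancel, mul_one]

instance decBorel (g : M) : Decidable (g ∈ borel) :=
  inferInstanceAs (Decidable ((g : Matrix (Fin 2) (Fin 2) (ZMod 3)) 1 0 = 0))

instance decFixVec (g : M) : Decidable (g ∈ fixVec) :=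
  inferInstanceAs (Decidable ((g : Matrix (Fin 2) (Fin 2) (ZMod 3)) 1 0 = 0 ∧
    (g : Matrix (Fin 2) (Fin 2) (ZMod 3)) 0 0 = 1))

instance decSemidihedral (g : M) : Decidable (g ∈ semidihedral) :=
  inferInstanceAs (Decidable (g * eM * g⁻¹ = eM ∨ g * eM * g⁻¹ = eM ^ 3))

instance decCyclicEight (g : M) : Decidable (g ∈ cyclicEight) :=
  inferInstanceAs (Decidable (g * eM = eM * g))

/-- The determinant as a sign. -/
def sgn (g : M) : ℤ := if dt g = 1 then 1 else -1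

theorem sgn_mul : ∀ g h : M, sgn (g * h) = sgn g * sgn h := by decide +kernel

/-- The exponent of an element of the cyclic subgroup. -/
def idx (g : M) : ℕ :=
  if g = 1 then 0 else if g = eM then 1 else if g = eM ^ 2 then 2 else if g = eM ^ 3 then 3
  else if g = τ then 4 else if g = eM ^ 5 then 5 else if g = eM ^ 6 then 6 else 7

theorem idx_mul : ∀ g h : M, g ∈ cyclicEight → h ∈ cyclicEight →
    idx (g * h) = (idx g + idx h) % 8 := by
  decide +kernel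

/-- How often conjugates of the representatives hit each power. -/
theorem idx_count : ∀ c : Fin 8, ∀ j : Fin 8,
    (Finset.univ.filter fun x : M => x⁻¹ * rep c * x ∈ cyclicEight ∧
      idx (x⁻¹ * rep c * x) = (j : ℕ)).card =
    (if c = 0 then (if j = 0 then 48 else 0) else if c = 1 then (if j = 4 then 48 else 0)
      else if c = 2 then (if j = 2 ∨ j = 6 then 8 else 0)
      else if c = 6 then (if j = 1 ∨ j = 3 then 8 else 0)
      else if c = 7 then (if j = 5 ∨ j = 7 then 8 else 0) else 0) := by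
  decide +kernel

theorem card_cyclicEight : (Finset.univ.filter fun g : M => g ∈ cyclicEight).card = 8 := by
  decide +kernel

theorem permBorel_count : ∀ c : Fin 8,
    (∑ x : M, if x⁻¹ * rep c * x ∈ borel then (1 : ℤ) else 0) =
      ((12 : ℕ) : ℤ) * ![4, 4, 0, 1, 1, 2, 0, 0] c := by decide +kernel

theorem borelSgn_count : ∀ c : Fin 8,
    (∑ x : M, if x⁻¹ * rep c * x ∈ borel then sgn (x⁻¹ * rep c * x) else 0) =
      ((12 : ℕ) : ℤ) * ![4, 4, 0, 1, 1, -2, 0, 0] c := by decide +kernel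

theorem permVec_count : ∀ c : Fin 8,
    (∑ x : M, if x⁻¹ * rep c * x ∈ fixVec then (1 : ℤ) else 0) =
      ((6 : ℕ) : ℤ) * ![8, 0, 0, 2, 0, 2, 0, 0] c := by decide +kernel

theorem permThree_count : ∀ c : Fin 8,
    (∑ x : M, if x⁻¹ * rep c * x ∈ semidihedral then (1 : ℤ) else 0) =
      ((16 : ℕ) : ℤ) * ![3, 3, 3, 0, 0, 1, 1, 1] c := by decide +kernel

theorem card_borel : (Finset.univ.filter fun g : M => g ∈ borel).card = 12 := by decide +kernel

theorem card_fixVec : (Finset.univ.filter fun g : M => g ∈ fixVec).card = 6 := by decide +kernel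

theorem card_semidihedral : (Finset.univ.filter fun g : M => g ∈ semidihedral).card = 16 := by
  decide +kernel

theorem sgn_table : ∀ g : M,
    (![1, 1, 1, 1, 1, -1, -1, -1] : Fin 8 → ℤ) (cls g) = sgn g := by decide +kernel

end Cfsg.Agent.H30.GLTwoThree
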