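import Cfsg.Agent.H30.GLTwoThreeCentralizer
import Cfsg.Agent.H19.Cores
import Cfsg.Agent.H50.PResidualBasics

/-!
# An involution with centralizer GL(2,3) in a group without quotients of order two
-/

set_option autoImplicit false
set_option synthInstance.maxSize 4096
set_option maxHeartbeats 1000000

open scoped Pointwise

namespace Cfsg.Agent.H30.GLTwoThree

theorem exists_sgn_neg : ∃ a : M, sgn a = -1 := ⟨rep 5, by decide +kernel⟩

/-- An involution and its product with an element inverted by it of odd order are conjugate. -/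
theorem conj_of_inverted {G : Type*} [Group G] {t n : G} (htt : t * t = 1)
    (hinv : t * n * (t * n) = 1) {k : ℕ} (hk : n ^ (2 * k + 1) = 1) :
    (n ^ (k + 1))⁻¹ * t * n ^ (k + 1) = t * n := by
  have h1 : t * n * t⁻¹ = n⁻¹ := by
    rw [inv_eq_of_mul_eq_one_right htt]
    exact eq_inv_of_mul_eq_one_left (by rw [← hinv]; group)
  have h2 : t * n ^ (k + 1) * t⁻¹ = (n ^ (k + 1))⁻¹ := by rw [← conj_pow, h1, inv_pow]
  have hn : n ^ (k + 1) * n ^ (k + 1) = n := by
    rw [← pow_add, show k + 1 + (k + 1) = 2 * k + 1 + 1 by omega, pow_succ, hk, one_mul]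
  rw [← h2]
  calc t * n ^ (k + 1) * t⁻¹ * t * n ^ (k + 1) = t * (n ^ (k + 1) * n ^ (k + 1)) := by group
    _ = t * n := by rw [hn]

variable {G : Type*} [Group G] [Finite G] {t : G}
  (e : Subgroup.centralizer ({t} : Set G) ≃* M) (ht : orderOf t = 2)

include e ht in
/-- An involution with centralizer `GL(2,3)` is not isolated when there is no quotient of order two. -/
theorem not_isolated_of_pResidual_eq_top (hO : Cfsg.pResidual 2 G = ⊤) :
    ¬ H28.IsIsolatedInvolution t := by
  intro hiso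
  set N := Cfsg.pPrimeCore 2 G with hN
  have hNn : N.Normal := H19.pPrimeCore_normal 2 G
  have hodd : ∀ n ∈ N, ∃ k : ℕ, n ^ (2 * k + 1) = 1 := by
    intro n hn
    have h := (H19.pPrimeCore_coprime (G := G) 2).coprime_dvd_left (Subgroup.orderOf_dvd_natCard N hn)
    obtain ⟨k, hk⟩ := Nat.coprime_two_right.mp h
    exact ⟨k, by rw [← hk, pow_orderOf_eq_one]⟩
  have htt : t * t = 1 := by rw [← pow_two, ← ht, pow_orderOf_eq_one]
  -- every element is a product of one in the core and one in the centralizer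
  have hprod : ∀ g : G, ∃ n ∈ N, ∃ c ∈ Subgroup.centralizer ({t} : Set G), g = n * c := by
    intro g
    set u := g * t * g⁻¹ with hu
    have huu : u * u = 1 := by
      rw [hu, show g * t * g⁻¹ * (g * t * g⁻¹) = g * (t * t) * g⁻¹ by group, htt]; group
    have hn : t * u ∈ N := by
      have h := H28.zStar hiso g
      rw [hu, show t * (g * t * g⁻¹) = t * g * t⁻¹ * g⁻¹ by rw [inv_eq_of_mul_eq_one_right htt]; group]
      exact h
    obtain ⟨k, hk⟩ := hodd _ hn
    have hc := conj_of_inverted htt (n := t * u) (by rw [← mul_assoc t t u, htt, one_mul, huu]) hk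
    rw [← mul_assoc t t u, htt, one_mul] at hc
    set s := (t * u) ^ (k + 1) with hs
    refine ⟨s⁻¹, inv_mem (pow_mem hn _), s * g, ?_, by group⟩
    refine Subgroup.mem_centralizer_singleton_iff.mpr (mul_inv_eq_iff_eq_mul.mp ?_)
    calc s * g * t * (s * g)⁻¹ = s * u * s⁻¹ := by rw [hu]; group
      _ = t := by rw [← hc]; group
  set D : Subgroup G := (sgnHom.comp e.toMonoidHom).ker.map (Subgroup.centralizer ({t} : Set G)).subtype
    with hD
  have hmem : ∀ c : Subgroup.centralizer ({t} : Set G), sgnHom (e c) = 1 → (c : G) ∈ D :=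
    fun c hc => ⟨c, hc, rfl⟩
  have hDsgn : ∀ c : Subgroup.centralizer ({t} : Set G), (c : G) ∈ D → sgnHom (e c) = 1 := by
    rintro c ⟨d, hd, hdc⟩
    rw [← Subtype.ext hdc]
    exact hd
  have hpm : ∀ a : M, sgnHom a * sgnHom a = 1 := by
    intro a
    show (if dt a = 1 then (1 : ℂˣ) else -1) * (if dt a = 1 then (1 : ℂˣ) else -1) = 1
    split_ifs <;> simp
  have hoddS : ∀ (c : Subgroup.centralizer ({t} : Set G)) (k : ℕ), c ^ (2 * k + 1) = 1 →
      sgnHom (e c) = 1 := by
    intro c k hk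
    have h := congrArg (fun x => sgnHom (e x)) hk
    simp only [pow_succ, pow_mul, pow_zero, one_mul, map_mul, map_pow, map_one] at h
    rwa [hpm, one_pow, one_mul] at h
  have htop : N ⊔ D = ⊤ := by
    rw [eq_top_iff, ← hO, Cfsg.pResidual, Subgroup.closure_le]
    intro g hg
    obtain ⟨n, hn, c, hc, rfl⟩ := hprod g
    rw [SetLike.mem_coe, ← SetLike.mem_coe, Subgroup.normal_mul]
    refine Set.mul_mem_mul hn ?_
    obtain ⟨k, hk⟩ := Nat.coprime_two_right.mp hg
    have hck : c ^ (2 * k + 1) ∈ N := by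
      rw [← QuotientGroup.eq_one_iff, QuotientGroup.mk_pow]
      have h1 : (QuotientGroup.mk (n * c) : G ⧸ N) = QuotientGroup.mk c := by
        rw [QuotientGroup.mk_mul, (QuotientGroup.eq_one_iff n).mpr hn, one_mul]
      rw [← h1, ← QuotientGroup.mk_pow, ← hk, pow_orderOf_eq_one, QuotientGroup.mk_one]
    obtain ⟨l, hl⟩ := hodd _ hck
    refine hmem ⟨c, hc⟩ (hoddS _ (2 * k * l + k + l) (Subtype.ext ?_))
    rw [SubmonoidClass.coe_pow]
    show c ^ (2 * (2 * k * l + k + l) + 1) = 1
    rw [show 2 * (2 * k * l + k + l) + 1 = (2 * k + 1) * (2 * l + 1) by ring, pow_mul, hl]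
  obtain ⟨a, ha⟩ := exists_sgn_neg
  have hmem' : ((e.symm a : Subgroup.centralizer ({t} : Set G)) : G) ∈ N ⊔ D := htop ▸ Subgroup.mem_top _
  rw [← SetLike.mem_coe, Subgroup.normal_mul] at hmem'
  obtain ⟨n, hn, d, hd, hnd⟩ := hmem'
  obtain ⟨d', hd', rfl⟩ := hd
  obtain ⟨k, hk⟩ := hodd n hn
  have h1 : sgnHom (e (e.symm a * d'⁻¹)) = 1 := by
    refine hoddS _ k (Subtype.ext ?_)
    rw [SubmonoidClass.coe_pow, Subgroup.coe_mul, ← hnd, Subgroup.coe_inv]
    show (n * (d' : G) * (d' : G)⁻¹) ^ (2 * k + 1) = 1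
    rw [mul_inv_cancel_right, hk]
  have hd1 : sgnHom (e d') = 1 := hd'
  rw [map_mul, map_mul, map_inv, map_inv, hd1, inv_one, mul_one, e.apply_symm_apply] at h1
  have h2 := sgnHom_val a
  rw [h1, ha] at h2
  norm_num at h2

include e ht in
/-- The possible orders. -/
theorem card_of_pResidual_eq_top (hO : Cfsg.pResidual 2 G = ⊤) :
    Nat.card G = 5616 ∨ Nat.card G = 7920 := by
  have := Fintype.ofFinite G
  exact card_eq_of_fusion e ht
    (fusion_of_not_isolated e ht (not_isolated_of_pResidual_eq_top e ht hO))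

include e in
/-- A simple group of this kind equals its 2-residual. -/
theorem pResidual_eq_top_of_simple [IsSimpleGroup G] : Cfsg.pResidual 2 G = ⊤ := by
  have : Fact (Nat.Prime 2) := ⟨Nat.prime_two⟩
  refine ((H50.pResidual_normal 2 G).eq_bot_or_eq_top).resolve_left fun h => ?_
  have h3 := dvd_trans (show 3 ∣ Nat.card (Subgroup.centralizer ({t} : Set G)) by
    rw [Nat.card_congr e.toEquiv, Nat.card_eq_fintype_card, card_M]; norm_num)
    (Subgroup.card_subgroup_dvd_card _)
  obtain ⟨x, hx⟩ := exists_prime_orderOf_dvd_card' (G := G) 3 (hp := ⟨Nat.prime_three⟩) h3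
  have hmem : x ∈ Cfsg.pResidual 2 G := Subgroup.subset_closure (by
    show Nat.Coprime (orderOf x) 2
    rw [hx]; norm_num)
  rw [h, Subgroup.mem_bot] at hmem
  rw [hmem, orderOf_one] at hx
  omega

end Cfsg.Agent.H30.GLTwoThree
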