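import Cfsg.Agent.H30.GLTwoThreeFusion
import Cfsg.Agent.H30.Basics

/-!
# The local structure at three of a group of order 5616 with involution centralizer GL(2,3)
-/

set_option autoImplicit false
set_option synthInstance.maxSize 4096
set_option maxHeartbeats 1000000
set_option maxRecDepth 4000

namespace Cfsg.Agent.H30.GLTwoThree

theorem cube_cls : ∀ a : M, a ^ 3 = 1 → a ≠ 1 → cls a = 3 := by decide +kernel

theorem cls_three_cube : ∀ a : M, cls a = 3 → a ^ 3 = 1 ∧ a ≠ 1 := by decide +kernel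

theorem cls_rep_three : cls (rep 3) = 3 := by decide +kernel

theorem comm_three : ∀ a : M, cls a = 3 →
    (Finset.univ.filter fun b : M => b * a = a * b).card = 6 := by decide +kernel

theorem comm_three_cube : ∀ a b : M, cls a = 3 → b * a = a * b → b ^ 3 = 1 →
    b = 1 ∨ b = a ∨ b = a ^ 2 := by decide +kernel

theorem exists_inverter : ∃ v : M, v * v = 1 ∧ v ≠ 1 ∧ v * rep 3 * v = rep 3 ^ 2 := by
  decide +kernel

section Tools

variable {G : Type*} [Group G]

theorem conj_centralizer_card (g a : G) :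
    Nat.card (Subgroup.centralizer ({g * a * g⁻¹} : Set G)) =
      Nat.card (Subgroup.centralizer ({a} : Set G)) := by
  refine (Nat.card_congr
    { toFun := fun x : Subgroup.centralizer ({a} : Set G) => (⟨g * x * g⁻¹, by
        rw [Subgroup.mem_centralizer_singleton_iff]
        calc g * (x : G) * g⁻¹ * (g * a * g⁻¹) = g * ((x : G) * a) * g⁻¹ := by group
          _ = g * (a * x) * g⁻¹ := by rw [Subgroup.mem_centralizer_singleton_iff.mp x.2]
          _ = _ := by group⟩ : Subgroup.centralizer ({g * a * g⁻¹} : Set G))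
      invFun := fun x => ⟨g⁻¹ * x * g, by
        rw [Subgroup.mem_centralizer_singleton_iff]
        calc g⁻¹ * (x : G) * g * a = g⁻¹ * ((x : G) * (g * a * g⁻¹)) * g := by group
          _ = g⁻¹ * (g * a * g⁻¹ * x) * g := by rw [Subgroup.mem_centralizer_singleton_iff.mp x.2]
          _ = _ := by group⟩
      left_inv := fun x => Subtype.ext (show g⁻¹ * (g * (x : G) * g⁻¹) * g = x by group)
      right_inv := fun x => Subtype.ext (show g * (g⁻¹ * (x : G) * g) * g⁻¹ = x by group) }).symm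

theorem isConj_centralizer_card {a b : G} (h : IsConj a b) :
    Nat.card (Subgroup.centralizer ({b} : Set G)) = Nat.card (Subgroup.centralizer ({a} : Set G)) := by
  obtain ⟨g, rfl⟩ := isConj_iff.mp h
  exact conj_centralizer_card g a

/-- The subgroup of index two of a group of order twice a power of three. -/
theorem index_two_core [Finite G] {C : Subgroup G} {k : ℕ} (hC : Nat.card C = 2 * 3 ^ k) :
    ∃ O : Subgroup G, O ≤ C ∧ Nat.card O = 3 ^ k ∧ (∀ x ∈ C, ∀ n : ℕ, x ^ 3 ^ n = 1 → x ∈ O) ∧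
      ∀ g : G, (∀ x ∈ C, g * x * g⁻¹ ∈ C) → ∀ x ∈ O, g * x * g⁻¹ ∈ O := by
  have : Fact (Nat.Prime 3) := ⟨Nat.prime_three⟩
  let P : Sylow 3 C := default
  have hP : Nat.card (P : Subgroup C) = 3 ^ k :=
    H30.card_sylow_subgroup P (a := k) (m := 2) (by rw [hC]; ring) (by norm_num)
  have hidx : (P : Subgroup C).index = 2 := by
    have h := (P : Subgroup C).card_mul_index
    rw [hP, hC, mul_comm 2] at h
    exact mul_left_cancel₀ (pow_ne_zero k (by norm_num)) h
  have := Subgroup.normal_of_index_eq_two hidx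
  have key : ∀ x ∈ C, ∀ n : ℕ, x ^ 3 ^ n = 1 → x ∈ (P : Subgroup C).map C.subtype := by
    intro x hx n hn
    refine ⟨⟨x, hx⟩, ?_, rfl⟩
    show (⟨x, hx⟩ : C) ∈ (P : Subgroup C)
    rw [← QuotientGroup.eq_one_iff, ← orderOf_eq_one_iff]
    refine Nat.eq_one_of_dvd_coprimes (a := 3 ^ n) (b := 2) (Nat.Coprime.pow_left n (by norm_num)) ?_ ?_
    · refine orderOf_dvd_of_pow_eq_one ?_
      rw [← QuotientGroup.mk_pow]
      exact congrArg QuotientGroup.mk (Subtype.ext hn : (⟨x, hx⟩ : C) ^ 3 ^ n = 1)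
    · exact hidx ▸ orderOf_dvd_natCard _
  refine ⟨(P : Subgroup C).map C.subtype, Subgroup.map_subtype_le _, ?_, key, fun g hg x hx => ?_⟩
  · rw [← Nat.card_congr ((P : Subgroup C).equivMapOfInjective _ C.subtype_injective).toEquiv, hP]
  · obtain ⟨y, hy, rfl⟩ := hx
    refine key _ (hg _ y.2) k ?_
    rw [conj_pow]
    have h : y ^ 3 ^ k = 1 := by
      have h1 : (⟨y, hy⟩ : (P : Subgroup C)) ^ 3 ^ k = 1 := by rw [← hP]; exact pow_card_eq_one'
      exact congrArg Subtype.val h1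
    rw [show (C.subtype y) ^ 3 ^ k = 1 by rw [← map_pow, h, map_one]]
    group

/-- A subgroup of order nine as the products of two independent elements. -/
theorem pair_nine [Finite G] {O : Subgroup G} (hO : Nat.card O = 9) {a b : G} (ha : a ∈ O)
    (hb : b ∈ O) (ha3 : a ^ 3 = 1) (hab : Commute a b) (hb3 : b ^ 3 = 1) (ha1 : a ≠ 1)
    (hb' : b ∉ Subgroup.zpowers a) : ∀ x ∈ O, ∃ i j : Fin 3, x = a ^ (i : ℕ) * b ^ (j : ℕ) := by
  let f : Fin 3 × Fin 3 → O := fun q => ⟨a ^ (q.1 : ℕ) * b ^ (q.2 : ℕ),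
    mul_mem (pow_mem ha _) (pow_mem hb _)⟩
  have hf : Function.Injective f := by
    rintro ⟨i, j⟩ ⟨i', j'⟩ h
    have h' : a ^ (i : ℕ) * b ^ (j : ℕ) = a ^ (i' : ℕ) * b ^ (j' : ℕ) := congrArg Subtype.val h
    have hoa : orderOf a = 3 := orderOf_eq_prime (hp := ⟨Nat.prime_three⟩) ha3 ha1
    have h3 : b ^ ((j : ℕ) + 2 * (j' : ℕ)) ∈ Subgroup.zpowers a := by
      have e : b ^ ((j : ℕ) + 2 * (j' : ℕ)) = (a ^ (i : ℕ))⁻¹ * a ^ (i' : ℕ) := by
        rw [pow_add, ← mul_one ((a ^ (i : ℕ))⁻¹ * a ^ (i' : ℕ)), ← one_pow (j' : ℕ), ← hb3, ← pow_mul]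
        calc b ^ (j : ℕ) * b ^ (2 * (j' : ℕ))
            = (a ^ (i : ℕ))⁻¹ * (a ^ (i : ℕ) * b ^ (j : ℕ)) * b ^ (2 * (j' : ℕ)) := by group
          _ = (a ^ (i : ℕ))⁻¹ * (a ^ (i' : ℕ) * b ^ (j' : ℕ)) * b ^ (2 * (j' : ℕ)) := by rw [h']
          _ = (a ^ (i : ℕ))⁻¹ * a ^ (i' : ℕ) * (b ^ (j' : ℕ) * b ^ (2 * (j' : ℕ))) := by group
          _ = _ := by rw [← pow_add, show (j' : ℕ) + 2 * (j' : ℕ) = 3 * j' by ring]
      rw [e]
      exact mul_mem (inv_mem (Subgroup.npow_mem_zpowers _ _)) (Subgroup.npow_mem_zpowers _ _)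
    have hj : j = j' := by
      by_contra hne
      apply hb'
      set m := (j : ℕ) + 2 * (j' : ℕ) with hm
      have hd : m % 3 = 1 ∨ m % 3 = 2 := by
        have := j.isLt
        have := j'.isLt
        have := Fin.val_ne_of_ne hne
        omega
      have h4 := pow_mem h3 m
      rw [← pow_mul, pow_eq_pow_mod (m * m) hb3, Nat.mul_mod] at h4
      rcases hd with e | e <;> simpa [e] using h4
    subst hj
    have h5 := mul_right_cancel h'
    rw [pow_inj_mod, hoa, Nat.mod_eq_of_lt i.isLt, Nat.mod_eq_of_lt i'.isLt] at h5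
    exact Prod.ext (Fin.ext h5) rfl
  have hsurj := (hf.bijective_of_nat_card_le (by rw [hO, Nat.card_prod, Nat.card_fin])).2
  intro x hx
  obtain ⟨⟨i, j⟩, h⟩ := hsurj ⟨x, hx⟩
  exact ⟨i, j, (congrArg Subtype.val h).symm⟩

/-- Commutators in a group of order `27` lie in a given central subgroup of order three. -/
theorem commutator_mem_central [Finite G] {P : Subgroup G} (hP : Nat.card P = 27) {w : G}
    (hw : w ∈ P) (hwo : orderOf w = 3) (hwc : ∀ p ∈ P, p * w = w * p) :
    ∀ a ∈ P, ∀ b ∈ P, a * b * a⁻¹ * b⁻¹ ∈ Subgroup.zpowers w := by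
  intro a ha b hb
  have : Fact (Nat.Prime 3) := ⟨Nat.prime_three⟩
  let W : Subgroup P := Subgroup.zpowers ⟨w, hw⟩
  have hWc : W ≤ Subgroup.center P := by
    rw [Subgroup.zpowers_le, Subgroup.mem_center_iff]
    exact fun g => Subtype.ext (hwc g g.2)
  have : W.Normal := ⟨fun n hn g => by
    rwa [Subgroup.mem_center_iff.mp (hWc hn) g, mul_inv_cancel_right]⟩
  have hW3 : Nat.card W = 3 := by rw [Nat.card_zpowers, Subgroup.orderOf_mk, hwo]
  have hq : Nat.card (P ⧸ W) = 3 ^ 2 := by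
    have h := W.card_eq_card_quotient_mul_card_subgroup
    rw [hP, hW3] at h
    omega
  have hcomm := (IsPGroup.isMulCommutative_of_card_eq_prime_sq hq).is_comm.comm
    (QuotientGroup.mk (⟨a, ha⟩ : P) : P ⧸ W) (QuotientGroup.mk ⟨b, hb⟩)
  have h : (⟨a, ha⟩ * ⟨b, hb⟩ * ⟨a, ha⟩⁻¹ * ⟨b, hb⟩⁻¹ : P) ∈ W := by
    rw [← QuotientGroup.eq_one_iff, QuotientGroup.mk_mul, QuotientGroup.mk_mul, QuotientGroup.mk_mul,
      hcomm, QuotientGroup.mk_inv, QuotientGroup.mk_inv]
    group
  obtain ⟨k, hk⟩ := Subgroup.mem_zpowers_iff.mp h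
  exact Subgroup.mem_zpowers_iff.mpr ⟨k, congrArg Subtype.val hk⟩

theorem cube_conj {q z w : G} (hqw : Commute q w) (hzw : Commute z w) {d : ℕ}
    (hd : q * z * q⁻¹ = z * w ^ d) (k : ℕ) : q ^ k * z * (q ^ k)⁻¹ = z * w ^ (k * d) := by
  induction k with
  | zero => simp
  | succ k ih =>
    rw [pow_succ', show q * q ^ k * z * (q * q ^ k)⁻¹ = q * (q ^ k * z * (q ^ k)⁻¹) * q⁻¹ by group,
      ih, show q * (z * w ^ (k * d)) * q⁻¹ = (q * z * q⁻¹) * (q * w ^ (k * d) * q⁻¹) by group, hd,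
      (hqw.pow_right _).eq, mul_inv_cancel_right, mul_assoc, ← pow_add]
    congr 2
    ring

end Tools

section Local

variable {G : Type*} [Group G] [Finite G] [IsSimpleGroup G] {t : G}
  (e : Subgroup.centralizer ({t} : Set G) ≃* M) (ht : orderOf t = 2)

local notation:max "C⟨" a "⟩" => Subgroup.centralizer ({a} : Set G)

omit [IsSimpleGroup G] in
include e in
theorem card_cent : Nat.card C⟨t⟩ = 48 := by
  rw [Nat.card_congr e.toEquiv, Nat.card_eq_fintype_card, card_M]

omit [IsSimpleGroup G] in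
include e ht in
/-- All involutions are conjugate. -/
theorem all_involutions_of_top (hO : Cfsg.pResidual 2 G = ⊤) (u : G) (hu : orderOf u = 2) :
    IsConj t u := by
  have : Fact (Nat.Prime 2) := ⟨Nat.prime_two⟩
  have := Fintype.ofFinite G
  have hfus := fusion_of_not_isolated e ht
    (not_isolated_of_pResidual_eq_top e ht hO)
  obtain ⟨m, hm, hodd⟩ := exists_odd_cofactor e ht
  let T : Sylow 2 C⟨t⟩ := default
  have hT : Nat.card (T : Subgroup C⟨t⟩) = 2 ^ 4 :=
    H30.card_sylow_subgroup T (a := 4) (m := 3) (by rw [card_cent e]; norm_num) (by norm_num)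
  set T' : Subgroup G := (T : Subgroup C⟨t⟩).map (C⟨t⟩).subtype with hT'
  have hcardT : Nat.card T' = 2 ^ 4 := by
    rw [hT', ← Nat.card_congr ((T : Subgroup C⟨t⟩).equivMapOfInjective _
      (Subgroup.subtype_injective _)).toEquiv, hT]
  obtain ⟨P, hP⟩ := (IsPGroup.of_card (p := 2) (n := 4) hcardT).exists_le_sylow
  have hPeq : T' = (P : Subgroup G) := Subgroup.eq_of_le_of_card_ge hP (by
    rw [hcardT, H30.card_sylow_subgroup P (a := 4) (m := 3 * m) (by rw [hm]; ring)
      (fun h => hodd ((Nat.Coprime.dvd_mul_left (by norm_num)).mp h))])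
  obtain ⟨Q, hQ⟩ := (IsPGroup.of_card (p := 2) (n := 1) (G := Subgroup.zpowers u)
    (by rw [Nat.card_zpowers, hu, pow_one])).exists_le_sylow
  obtain ⟨g, hg⟩ := MulAction.exists_smul_eq G Q P
  have h : g * u * g⁻¹ ∈ T' := by
    rw [hPeq, ← hg, Sylow.coe_subgroup_smul]
    exact ⟨u, hQ (Subgroup.mem_zpowers u), rfl⟩
  obtain ⟨y, -, hy⟩ := h
  have h2 := hfus (g * u * g⁻¹) (hy ▸ y.2)
    ((orderOf_injective (MulAut.conj g).toMonoidHom (MulAut.conj g).injective u).trans hu)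
  exact h2.trans (isConj_iff.mpr ⟨g, rfl⟩ : IsConj u (g * u * g⁻¹)).symm

include e ht in
/-- All involutions are conjugate in the simple case. -/
theorem all_involutions (u : G) (hu : orderOf u = 2) : IsConj t u :=
  all_involutions_of_top e ht (pResidual_eq_top_of_simple e) u hu

include e ht in
theorem not_nine_dvd {u : G} (hu : orderOf u = 2) (H : Subgroup G) (hH : H ≤ C⟨u⟩)
    (h9 : 9 ∣ Nat.card H) : False := by
  have h := h9.trans (Subgroup.card_dvd_of_le hH)
  rw [isConj_centralizer_card (all_involutions e ht u hu), card_cent e] at h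
  norm_num at h

omit [Finite G] [IsSimpleGroup G] in
/-- Elements of order three in the centralizer are conjugate. -/
theorem three_isConj {a b : G} (ha : a ∈ C⟨t⟩) (hb : b ∈ C⟨t⟩) (hao : orderOf a = 3)
    (hbo : orderOf b = 3) (e : C⟨t⟩ ≃* M) : IsConj a b := by
  have key : ∀ x (hx : x ∈ C⟨t⟩), orderOf x = 3 → cls (e ⟨x, hx⟩) = 3 := by
    intro x hx hxo
    have h := orderOf_map e ⟨x, hx⟩
    rw [hxo] at h
    have h3 := pow_orderOf_eq_one (e ⟨x, hx⟩)
    rw [h] at h3
    refine cube_cls _ h3 fun h1 => ?_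
    rw [h1, orderOf_one] at h
    omega
  obtain ⟨x, hx⟩ := exists_conj (e ⟨a, ha⟩)
  obtain ⟨y, hy⟩ := exists_conj (e ⟨b, hb⟩)
  rw [key a ha hao] at hx
  rw [key b hb hbo] at hy
  obtain ⟨c, hc⟩ := e.surjective (y * x⁻¹)
  have h1 : c * ⟨a, ha⟩ * c⁻¹ = (⟨b, hb⟩ : C⟨t⟩) := e.injective (by
    rw [map_mul, map_mul, map_inv, hc, ← hx, ← hy]; group)
  exact isConj_iff.mpr ⟨c, congrArg Subtype.val h1⟩

variable (hcard : Nat.card G = 5616)

include hcard in
theorem not_thirteen_dvd {u : G} (hu : orderOf u = 3) : ¬ 13 ∣ Nat.card C⟨u⟩ := by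
  have hp : Fact (Nat.Prime 13) := ⟨by norm_num⟩
  intro h
  obtain ⟨x, hx⟩ := exists_prime_orderOf_dvd_card' (G := C⟨u⟩) 13 h
  obtain ⟨P, hP⟩ := (IsPGroup.of_card (p := 13) (n := 1) (G := Subgroup.zpowers (x : G))
    (by rw [Nat.card_zpowers, Subgroup.orderOf_coe, hx, pow_one])).exists_le_sylow
  have hP13 : Nat.card (P : Subgroup G) = 13 := by
    simpa using H30.card_sylow_subgroup P (a := 1) (m := 432) (by rw [hcard]; norm_num) (by norm_num)
  have hPx : Subgroup.zpowers (x : G) = (P : Subgroup G) := Subgroup.eq_of_le_of_card_ge hP (by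
    rw [hP13, Nat.card_zpowers, Subgroup.orderOf_coe, hx])
  set Cp := Subgroup.centralizer ((P : Subgroup G) : Set G) with hCp
  set N := Subgroup.normalizer ((P : Subgroup G) : Set G) with hN
  have huC : u ∈ Cp := by
    rw [hCp, Subgroup.mem_centralizer_iff]
    intro g hg
    rw [← hPx] at hg
    obtain ⟨k, rfl⟩ := Subgroup.mem_zpowers_iff.mp hg
    exact ((show Commute (x : G) u from Subgroup.mem_centralizer_singleton_iff.mp x.2).zpow_left k).eq
  have hle : Cp ≤ N := Subgroup.centralizer_le_normalizer _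
  have hPC : (P : Subgroup G) ≤ Cp := by
    rw [← hPx, Subgroup.zpowers_le, hCp, Subgroup.mem_centralizer_iff]
    intro g hg
    rw [← hPx] at hg
    obtain ⟨k, rfl⟩ := Subgroup.mem_zpowers_iff.mp hg
    exact ((Commute.refl (x : G)).zpow_left k).eq
  have h39 : 39 ∣ Nat.card Cp := by
    refine Nat.Coprime.mul_dvd_of_dvd_of_dvd (m := 3) (n := 13) (by norm_num) ?_
      (hP13 ▸ Subgroup.card_dvd_of_le hPC)
    rw [← hu, ← Nat.card_zpowers]
    exact Subgroup.card_dvd_of_le ((Subgroup.zpowers_le).mpr huC)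
  have hna : ¬ IsMulCommutative G := H30.not_comm_of_not_prime (by rw [hcard]; norm_num)
  have hmul := H30.card_sylow_mul_normalizer 13 P
  obtain ⟨k, hk⟩ := h39.trans (Subgroup.card_dvd_of_le hle)
  have hn1 := H30.card_sylow_ne_one hna 13 (by rw [hcard]; norm_num)
  have hmod : Nat.card (Sylow 13 G) % 13 = 1 := card_sylow_modEq_one 13 G
  rw [hcard, hk] at hmul
  have hd : Nat.card (Sylow 13 G) ∈ Nat.divisors 144 :=
    Nat.mem_divisors.mpr ⟨⟨k, by nlinarith⟩, by norm_num⟩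
  have hall : ∀ n ∈ Nat.divisors 144, n % 13 = 1 → n = 1 ∨ n = 144 := by decide +kernel
  rcases hall _ hd hmod with h' | h'
  · exact hn1 h'
  · rw [h'] at hmul
    have hk1 : k = 1 := by omega
    refine H30.not_normalizer_le_centralizer hna 13 (by rw [hcard]; norm_num) P
      (Subgroup.eq_of_le_of_card_ge hle ?_).ge
    rw [hk, hk1]
    exact Nat.le_of_dvd Nat.card_pos h39

include hcard in
theorem dvd_432 {u : G} (hu : orderOf u = 3) : Nat.card C⟨u⟩ ∣ 432 := by
  have h := Subgroup.card_subgroup_dvd_card C⟨u⟩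
  rw [hcard, show 5616 = 432 * 13 by norm_num] at h
  exact (Nat.Coprime.dvd_mul_right ((Nat.Prime.coprime_iff_not_dvd (by norm_num)).mpr
    (not_thirteen_dvd hcard hu)).symm).mp h

include e ht in
/-- An element of order three centralised by an involution. -/
theorem real_three {z u : G} (hz : z ∈ C⟨t⟩) (hzo : orderOf z = 3) (hu : orderOf u = 3)
    (h2 : 2 ∣ Nat.card C⟨u⟩) : IsConj z u := by
  obtain ⟨i, hi⟩ := exists_prime_orderOf_dvd_card' (G := C⟨u⟩) 2 (hp := ⟨Nat.prime_two⟩) h2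
  obtain ⟨g, hg⟩ := isConj_iff.mp (all_involutions e ht (i : G) (by rw [Subgroup.orderOf_coe, hi]))
  have hmem : g⁻¹ * u * g ∈ C⟨t⟩ := by
    rw [Subgroup.mem_centralizer_singleton_iff]
    have h := Subgroup.mem_centralizer_singleton_iff.mp i.2
    rw [← hg] at h
    calc g⁻¹ * u * g * t = g⁻¹ * (u * (g * t * g⁻¹)) * g := by group
      _ = g⁻¹ * (g * t * g⁻¹ * u) * g := by rw [h]
      _ = _ := by group
  have hc : IsConj (g⁻¹ * u * g) u := isConj_iff.mpr ⟨g, by group⟩
  refine (three_isConj hz hmem hzo ?_ e).trans hc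
  obtain ⟨c, hc'⟩ := isConj_iff.mp hc
  exact ((orderOf_injective (MulAut.conj c).toMonoidHom (MulAut.conj c).injective (g⁻¹ * u * g)).symm.trans
    (congrArg orderOf hc')).trans hu

end Local

end Cfsg.Agent.H30.GLTwoThree
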