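import Cfsg.Agent.H30.GLTwoThreeLocal

/-!
# The parabolic subgroup of index thirteen
-/

set_option autoImplicit false
set_option synthInstance.maxSize 4096
set_option maxHeartbeats 1000000
set_option maxRecDepth 4000

namespace Cfsg.Agent.H30.GLTwoThree

/-- An elementary subgroup of order nine with trivial intersection property and the normalising
subgroup of index thirteen. -/
structure Parabolic (G : Type*) [Group G] where
  E : Subgroup G
  N : Subgroup G
  card_E : Nat.card E = 9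
  index_N : N.index = 13
  le : E ≤ N
  norm : ∀ n ∈ N, ∀ x ∈ E, n * x * n⁻¹ ∈ E
  cube : ∀ x ∈ E, x ^ 3 = 1
  ti : ∀ g x : G, x ∈ E → x ≠ 1 → g * x * g⁻¹ ∈ E → g ∈ N
  trans : ∀ x ∈ E, ∀ y ∈ E, x ≠ 1 → y ≠ 1 → ∃ n ∈ N, n * x * n⁻¹ = y

variable {G : Type*} [Group G] [Finite G] [IsSimpleGroup G] {t : G}
  (e : Subgroup.centralizer ({t} : Set G) ≃* M) (ht : orderOf t = 2) (hcard : Nat.card G = 5616)

local notation:max "C⟨" a "⟩" => Subgroup.centralizer ({a} : Set G)

omit [IsSimpleGroup G] in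
include e in
theorem card_inter {x : G} (hx : x ∈ C⟨t⟩) (hxo : orderOf x = 3) :
    Nat.card ↥(C⟨x⟩ ⊓ C⟨t⟩) = 6 := by
  have hc : cls (e ⟨x, hx⟩) = 3 := by
    have h := orderOf_map e ⟨x, hx⟩
    rw [hxo] at h
    have h3 := pow_orderOf_eq_one (e ⟨x, hx⟩)
    rw [h] at h3
    refine cube_cls _ h3 fun h1 => ?_
    rw [h1, orderOf_one] at h
    omega
  rw [← comm_three _ hc, ← Fintype.card_subtype, ← Nat.card_eq_fintype_card]
  refine Nat.card_congr
    { toFun := fun y => ⟨e ⟨y.1, y.2.2⟩, ?_⟩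
      invFun := fun b => ⟨((e.symm b.1 : C⟨t⟩) : G), ?_, (e.symm b.1).2⟩
      left_inv := fun y => ?_
      right_inv := fun b => ?_ }
  · rw [← map_mul, ← map_mul]
    exact congrArg e (Subtype.ext (Subgroup.mem_centralizer_singleton_iff.mp y.2.1))
  · refine Subgroup.mem_centralizer_singleton_iff.mpr ?_
    have h : e.symm b.1 * ⟨x, hx⟩ = ⟨x, hx⟩ * e.symm b.1 := e.injective (by
      rw [map_mul, map_mul, e.apply_symm_apply]; exact b.2)
    exact congrArg Subtype.val h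
  · exact Subtype.ext (congrArg Subtype.val (e.symm_apply_apply ⟨y.1, y.2.2⟩) :)
  · exact Subtype.ext (e.apply_symm_apply _)

omit [IsSimpleGroup G] in
include e in
theorem cube_in_inter {x y : G} (hx : x ∈ C⟨t⟩) (hxo : orderOf x = 3) (hy : y ∈ C⟨t⟩)
    (hyx : y * x = x * y) (hy3 : y ^ 3 = 1) : y = 1 ∨ y = x ∨ y = x ^ 2 := by
  have hc : cls (e ⟨x, hx⟩) = 3 := by
    have h := orderOf_map e ⟨x, hx⟩
    rw [hxo] at h
    have h3 := pow_orderOf_eq_one (e ⟨x, hx⟩)
    rw [h] at h3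
    refine cube_cls _ h3 fun h1 => ?_
    rw [h1, orderOf_one] at h
    omega
  rcases comm_three_cube _ (e ⟨y, hy⟩) hc
    (by rw [← map_mul, ← map_mul]; exact congrArg e (Subtype.ext hyx))
    (by rw [← map_pow, ← map_one e]; exact congrArg e (Subtype.ext hy3)) with h | h | h
  · exact Or.inl (congrArg Subtype.val (e.injective (h.trans (map_one e).symm)))
  · exact Or.inr (Or.inl (congrArg Subtype.val (e.injective h)))
  · exact Or.inr (Or.inr (congrArg Subtype.val (e.injective (h.trans (map_pow e _ _).symm))))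

omit [Finite G] [IsSimpleGroup G] in
/-- Normalising a cyclic group of order three normalises its centralizer. -/
theorem conj_mem_cent {g z : G} (hz : z ^ 3 = 1) (h : g * z * g⁻¹ = z ∨ g * z * g⁻¹ = z ^ 2) :
    ∀ x ∈ C⟨z⟩, g * x * g⁻¹ ∈ C⟨z⟩ := by
  intro x hx
  rw [Subgroup.mem_centralizer_singleton_iff] at hx ⊢
  have h1 : Commute (g * x * g⁻¹) (g * z * g⁻¹) := (show Commute x z from hx).map (MulAut.conj g).toMonoidHom
  rcases h with h | h <;> rw [h] at h1
  · exact h1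
  · have h2 := h1.pow_right 2
    rwa [← pow_mul, show (2 * 2 : ℕ) = 3 + 1 from rfl, pow_succ, hz, one_mul] at h2

omit [Finite G] [IsSimpleGroup G] in
theorem orderOf_three {x : G} (h : x ^ 3 = 1) (h1 : x ≠ 1) : orderOf x = 3 :=
  orderOf_eq_prime (hp := ⟨Nat.prime_three⟩) h h1

omit [Finite G] [IsSimpleGroup G] in
theorem cube_of_order {x : G} (h : orderOf x = 3) : x ^ 3 = 1 ∧ x ≠ 1 :=
  ⟨h ▸ pow_orderOf_eq_one x, fun h1 => by rw [h1, orderOf_one] at h; omega⟩

/-- The distinguished elements. -/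
structure Seed (t : G) where
  z : G
  v : G
  hz : z ∈ C⟨t⟩
  hzo : orderOf z = 3
  hv : v ∈ C⟨t⟩
  hv2 : orderOf v = 2
  hvz : v * z * v⁻¹ = z ^ 2
  htv : orderOf (t * v) = 2

omit [IsSimpleGroup G] in
include e ht in
theorem exists_seed : Nonempty (Seed t) := by
  obtain ⟨vM, hv1, hv0, hvz⟩ := exists_inverter
  obtain ⟨h3, h31⟩ := cls_three_cube _ cls_rep_three
  set z0 := e.symm (rep 3) with hz0
  set v0 := e.symm vM with hv0'
  have hzo : orderOf (z0 : G) = 3 := by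
    rw [← orderOf_map e, hz0, e.apply_symm_apply]
    exact orderOf_eq_prime (hp := ⟨Nat.prime_three⟩) h3 h31
  have hv2 : orderOf (v0 : G) = 2 := by
    rw [← orderOf_map e, hv0', e.apply_symm_apply]
    exact orderOf_eq_prime (hp := ⟨Nat.prime_two⟩) (by rw [pow_two, hv1]) hv0
  have hvz' : (v0 : G) * z0 * (v0 : G)⁻¹ = (z0 : G) ^ 2 := by
    have h : v0 * z0 * v0⁻¹ = z0 ^ 2 := e.injective (by
      rw [map_mul, map_mul, map_inv, map_pow, hz0, hv0', e.apply_symm_apply, e.apply_symm_apply,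
        inv_eq_of_mul_eq_one_right hv1, hvz])
    exact congrArg Subtype.val h
  refine ⟨⟨z0, v0, z0.2, hzo, v0.2, hv2, hvz', ?_⟩⟩
  refine orderOf_eq_prime (hp := ⟨Nat.prime_two⟩) ?_ fun h => ?_
  · rw [pow_two, mul_assoc, ← mul_assoc (v0 : G) t, Subgroup.mem_centralizer_singleton_iff.mp v0.2,
      mul_assoc t (v0 : G), ← pow_two (v0 : G), ← hv2, pow_orderOf_eq_one, mul_one, ← pow_two, ← ht,
      pow_orderOf_eq_one]
  · have hvt : (v0 : G) = t⁻¹ := eq_inv_of_mul_eq_one_right h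
    have htz : t⁻¹ * (z0 : G) = z0 * t⁻¹ :=
      ((show Commute (z0 : G) t from Subgroup.mem_centralizer_singleton_iff.mp z0.2).inv_right).eq.symm
    rw [hvt, htz, mul_inv_cancel_right, pow_two, left_eq_mul] at hvz'
    exact (cube_of_order hzo).2 hvz'

variable (S : Seed t)

include e ht hcard in
/-- The centralizer of the element of order three. -/
theorem card_cent_three : Nat.card C⟨S.z⟩ = 54 := by
  have : Fact (Nat.Prime 3) := ⟨Nat.prime_three⟩
  have : Fact (Nat.Prime 2) := ⟨Nat.prime_two⟩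
  obtain ⟨z, v, hz, hzo, hv, hv2, hvz, htv⟩ := S
  obtain ⟨hz3, hz1⟩ := cube_of_order hzo
  have hzt : z * t = t * z := Subgroup.mem_centralizer_singleton_iff.mp hz
  have htC : t ∈ C⟨z⟩ := Subgroup.mem_centralizer_singleton_iff.mpr hzt.symm
  set n := Nat.card C⟨z⟩ with hn
  have h432 : n ∣ 432 := dvd_432 hcard hzo
  have h2 : 2 ∣ n := by
    rw [← ht, ← Nat.card_zpowers]; exact Subgroup.card_dvd_of_le (Subgroup.zpowers_le.mpr htC)
  have h3 : 3 ∣ n := by
    rw [← hzo, ← Nat.card_zpowers]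
    exact Subgroup.card_dvd_of_le
      (Subgroup.zpowers_le.mpr (Subgroup.mem_centralizer_singleton_iff.mpr rfl))
  have h4 : ¬ 4 ∣ n := by
    intro h4
    obtain ⟨K, hK⟩ := Sylow.exists_subgroup_card_pow_prime 2 (G := C⟨z⟩) (n := 2) h4
    obtain ⟨i, hi⟩ := exists_prime_orderOf_dvd_card' (G := K) 2 (by rw [hK]; norm_num)
    have hKc := IsPGroup.isMulCommutative_of_card_eq_prime_sq hK
    obtain ⟨g, hg⟩ := isConj_iff.mp (all_involutions e ht ((i : C⟨z⟩) : G)
      (by rw [Subgroup.orderOf_coe, Subgroup.orderOf_coe, hi]))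
    have hg' : t = g⁻¹ * ((i : C⟨z⟩) : G) * g := by rw [← hg]; group
    set K' := (K.map (C⟨z⟩).subtype).map (MulAut.conj g⁻¹).toMonoidHom with hK'
    have hK'c : Nat.card K' = 4 := by
      rw [hK', ← Nat.card_congr (Subgroup.equivMapOfInjective _ _ (MulAut.conj g⁻¹).injective).toEquiv,
        ← Nat.card_congr (Subgroup.equivMapOfInjective _ _ (Subgroup.subtype_injective _)).toEquiv, hK]
      norm_num
    have hzg : g⁻¹ * z * g ∈ C⟨t⟩ := by
      refine Subgroup.mem_centralizer_singleton_iff.mpr ?_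
      have h := Subgroup.mem_centralizer_singleton_iff.mp (i : C⟨z⟩).2
      rw [hg']
      calc g⁻¹ * z * g * (g⁻¹ * ((i : C⟨z⟩) : G) * g) = g⁻¹ * (z * ((i : C⟨z⟩) : G)) * g := by group
        _ = g⁻¹ * (((i : C⟨z⟩) : G) * z) * g := by rw [h]
        _ = _ := by group
    have hle : K' ≤ C⟨g⁻¹ * z * g⟩ ⊓ C⟨t⟩ := by
      rintro _ ⟨_, ⟨k, hk, rfl⟩, rfl⟩
      have hkz := Subgroup.mem_centralizer_singleton_iff.mp k.2
      have hki : (k : G) * ((i : C⟨z⟩) : G) = ((i : C⟨z⟩) : G) * k :=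
        congrArg Subtype.val (congrArg Subtype.val (hKc.is_comm.comm ⟨k, hk⟩ i))
      constructor
      · refine Subgroup.mem_centralizer_singleton_iff.mpr ?_
        show g⁻¹ * (k : G) * g⁻¹⁻¹ * (g⁻¹ * z * g) = g⁻¹ * z * g * (g⁻¹ * (k : G) * g⁻¹⁻¹)
        calc _ = g⁻¹ * ((k : G) * z) * g := by group
          _ = g⁻¹ * (z * k) * g := by rw [hkz]
          _ = _ := by group
      · refine Subgroup.mem_centralizer_singleton_iff.mpr ?_
        show g⁻¹ * (k : G) * g⁻¹⁻¹ * t = t * (g⁻¹ * (k : G) * g⁻¹⁻¹)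
        rw [hg']
        calc _ = g⁻¹ * ((k : G) * ((i : C⟨z⟩) : G)) * g := by group
          _ = g⁻¹ * (((i : C⟨z⟩) : G) * k) * g := by rw [hki]
          _ = _ := by group
    have hzgo : orderOf (g⁻¹ * z * g) = 3 := by
      rw [show g⁻¹ * z * g = MulAut.conj g⁻¹ z by simp, ← hzo]
      exact orderOf_injective (MulAut.conj g⁻¹).toMonoidHom (MulAut.conj g⁻¹).injective z
    have h := Subgroup.card_dvd_of_le hle
    rw [card_inter e hzg hzgo, hK'c] at h
    omega
  have hcases : n = 6 ∨ n = 18 ∨ n = 54 := by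
    have hall : ∀ m ∈ Nat.divisors 432, 2 ∣ m → 3 ∣ m → ¬ 4 ∣ m → m = 6 ∨ m = 18 ∨ m = 54 := by
      decide +kernel
    exact hall _ (Nat.mem_divisors.mpr ⟨h432, by norm_num⟩) h2 h3 h4
  by_contra hne
  -- a central element of a Sylow subgroup through `z`
  obtain ⟨P, hP⟩ := (IsPGroup.of_card (p := 3) (n := 1) (G := Subgroup.zpowers z)
    (by rw [Nat.card_zpowers, hzo, pow_one])).exists_le_sylow
  have hP27 : Nat.card (P : Subgroup G) = 27 :=
    H30.card_sylow_subgroup P (a := 3) (m := 208) (by rw [hcard]; norm_num) (by norm_num)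
  have : Nontrivial (P : Subgroup G) := Finite.one_lt_card_iff_nontrivial.mp (by omega)
  have := P.isPGroup'.center_nontrivial
  obtain ⟨k, hk⟩ := IsPGroup.iff_card.mp (P.isPGroup'.to_subgroup (Subgroup.center (P : Subgroup G)))
  obtain ⟨w0, hw0⟩ := exists_prime_orderOf_dvd_card' (G := Subgroup.center (P : Subgroup G)) 3 (by
    rw [hk]
    refine dvd_pow_self 3 fun h => ?_
    rw [h, pow_zero] at hk
    have := Finite.one_lt_card (α := Subgroup.center (P : Subgroup G))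
    omega)
  set w : G := ((w0 : (P : Subgroup G)) : G) with hw
  have hwP : w ∈ (P : Subgroup G) := (w0 : (P : Subgroup G)).2
  have hwc : ∀ p ∈ (P : Subgroup G), p * w = w * p := fun p hp =>
    congrArg Subtype.val ((Subgroup.mem_center_iff.mp w0.2) ⟨p, hp⟩)
  have hwo : orderOf w = 3 := by rw [hw, Subgroup.orderOf_coe, Subgroup.orderOf_coe, hw0]
  obtain ⟨hw3, hw1⟩ := cube_of_order hwo
  have hzP : z ∈ (P : Subgroup G) := hP (Subgroup.mem_zpowers z)
  have hzw : Commute z w := hwc z hzP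
  have hwC : w ∈ C⟨z⟩ := Subgroup.mem_centralizer_singleton_iff.mpr hzw.eq.symm
  -- the centraliser of `w` contains the Sylow subgroup
  have h27 : 27 ∣ Nat.card C⟨w⟩ := hP27 ▸ Subgroup.card_dvd_of_le fun p hp =>
    Subgroup.mem_centralizer_singleton_iff.mpr (hwc p hp)
  have hnotconj : ¬ IsConj z w := fun h => by
    rw [isConj_centralizer_card h, ← hn] at h27
    omega
  have hwz : w ∉ Subgroup.zpowers z := by
    intro h
    obtain ⟨j, hj⟩ := Subgroup.mem_zpowers_iff.mp h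
    have hjm : w = z ^ (j % 3).toNat := by
      rw [← hj, ← zpow_mod_orderOf, hzo, ← zpow_natCast, Int.toNat_of_nonneg (Int.emod_nonneg _ (by norm_num))]
      norm_num
    rcases (show (j % 3).toNat = 0 ∨ (j % 3).toNat = 1 ∨ (j % 3).toNat = 2 by omega) with h' | h' | h'
    · exact hw1 (by rw [hjm, h', pow_zero])
    · exact hnotconj (by rw [hjm, h', pow_one])
    · exact hnotconj (isConj_iff.mpr ⟨v, by rw [hjm, h', hvz]⟩)
  -- order six is impossible
  have htz : t * z * t⁻¹ = z := by rw [← hzt, mul_inv_cancel_right]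
  have hvnorm : ∀ x ∈ C⟨z⟩, v * x * v⁻¹ ∈ C⟨z⟩ := conj_mem_cent hz3 (Or.inr hvz)
  have htnorm : ∀ x ∈ C⟨z⟩, t * x * t⁻¹ ∈ C⟨z⟩ := conj_mem_cent hz3 (Or.inl htz)
  have hn18 : n = 18 := by
    rcases hcases with h6 | h | h
    · exfalso
      have hle : C⟨z⟩ ⊓ C⟨t⟩ = C⟨z⟩ := Subgroup.eq_of_le_of_card_ge inf_le_left (by
        rw [card_inter e hz hzo, ← hn, h6])
      have hwt : w ∈ C⟨t⟩ := (hle.symm ▸ hwC : w ∈ C⟨z⟩ ⊓ C⟨t⟩).2
      rcases cube_in_inter e hz hzo hwt hzw.eq.symm hw3 with h | h | h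
      · exact hw1 h
      · exact hwz (h ▸ Subgroup.mem_zpowers z)
      · exact hwz (h ▸ Subgroup.npow_mem_zpowers z 2)
    · exact h
    · exact absurd h hne
  obtain ⟨O, hOC, hO9, hOmem, hOnorm⟩ := index_two_core (C := C⟨z⟩) (k := 2) (by rw [← hn, hn18]; norm_num)
  norm_num at hO9
  have hzC : z ∈ C⟨z⟩ := Subgroup.mem_centralizer_singleton_iff.mpr rfl
  have hzO : z ∈ O := hOmem z hzC 1 (by rw [pow_one, hz3])
  have hwO : w ∈ O := hOmem w hwC 1 (by rw [pow_one, hw3])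
  have hOpair := pair_nine hO9 hzO hwO hz3 hzw hw3 hz1 hwz
  have hOcube : ∀ x ∈ O, x ^ 3 = 1 := fun x hx => by
    obtain ⟨i, j, rfl⟩ := hOpair x hx
    rw [(hzw.pow_pow _ _).mul_pow, ← pow_mul, ← pow_mul, mul_comm (i : ℕ), mul_comm (j : ℕ), pow_mul,
      pow_mul, hz3, hw3, one_pow, one_pow, one_mul]
  have hOcomm : ∀ x ∈ O, ∀ y ∈ O, Commute x y := fun x hx y hy => by
    obtain ⟨i, j, rfl⟩ := hOpair x hx
    obtain ⟨i', j', rfl⟩ := hOpair y hy
    exact (((Commute.refl z).pow_pow _ _).mul_right (hzw.pow_pow _ _)).mul_left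
      ((hzw.symm.pow_pow _ _).mul_right ((Commute.refl w).pow_pow _ _))
  -- an element inverted by `t`
  have htt : t * t = 1 := by rw [← pow_two, ← ht, pow_orderOf_eq_one]
  set w' := t * w * t⁻¹ with hw'
  have hw'O : w' ∈ O := hOnorm t htnorm w hwO
  set y := w' * w⁻¹ with hy
  have hyO : y ∈ O := mul_mem hw'O (inv_mem hwO)
  have hy3 := hOcube y hyO
  have hty : t * y * t⁻¹ = y⁻¹ := by
    rw [hy, hw', mul_inv_rev, inv_inv, inv_eq_of_mul_eq_one_right htt,
      show t * (t * w * t * w⁻¹) * t = t * t * w * t * w⁻¹ * t by group, htt, one_mul,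
      show (t * w * t)⁻¹ = t⁻¹ * w⁻¹ * t⁻¹ by group, inv_eq_of_mul_eq_one_right htt]
    simp only [mul_assoc]
  have hy1 : y ≠ 1 := by
    intro h
    have hwt : w ∈ C⟨t⟩ := Subgroup.mem_centralizer_singleton_iff.mpr
      (mul_inv_eq_iff_eq_mul.mp (mul_inv_eq_one.mp h)).symm
    rcases cube_in_inter e hz hzo hwt hzw.eq.symm hw3 with h | h | h
    · exact hw1 h
    · exact hwz (h ▸ Subgroup.mem_zpowers z)
    · exact hwz (h ▸ Subgroup.npow_mem_zpowers z 2)
  have hyz : y ∉ Subgroup.zpowers z := by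
    intro h
    obtain ⟨j, hj⟩ := Subgroup.mem_zpowers_iff.mp h
    have h1 : t * y * t⁻¹ = y := by rw [← hj, ← conj_zpow, htz]
    rw [hty] at h1
    have h2 : y ^ 2 = 1 := by rw [pow_two]; exact eq_inv_iff_mul_eq_one.mp h1.symm
    exact hy1 (by rw [← hy3, pow_succ, h2, one_mul])
  have hpair := pair_nine hO9 hzO hyO hz3 (hOcomm z hzO y hyO) hy3 hz1 hyz
  have htpow : ∀ i j : Fin 3, t * (z ^ (i : ℕ) * y ^ (j : ℕ)) * t⁻¹ = z ^ (i : ℕ) * (y ^ (j : ℕ))⁻¹ :=
    fun i j => by rw [show t * (z ^ (i : ℕ) * y ^ (j : ℕ)) * t⁻¹ = (t * z ^ (i : ℕ) * t⁻¹) *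
      (t * y ^ (j : ℕ) * t⁻¹) by group, ← conj_pow, ← conj_pow, htz, hty, inv_pow]
  -- `y` is centralised by an involution
  have hvt : v * t = t * v := Subgroup.mem_centralizer_singleton_iff.mp hv
  have hvy : v * y * v⁻¹ = y ∨ v * y * v⁻¹ = y⁻¹ := by
    set u := v * y * v⁻¹ with hu
    have huO : u ∈ O := hOnorm v hvnorm y hyO
    have hui : t * u * t⁻¹ = u⁻¹ := by
      rw [hu, show t * (v * y * v⁻¹) * t⁻¹ = t * v * y * (t * v)⁻¹ by group, ← hvt,
        show v * t * y * (v * t)⁻¹ = v * (t * y * t⁻¹) * v⁻¹ by group, hty]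
      group
    obtain ⟨i, j, hij⟩ := hpair u huO
    have hzi : (z ^ (i : ℕ)) ^ 2 = 1 := by
      rw [hij, htpow, mul_inv_rev, ((hOcomm z hzO y hyO).pow_pow _ _).inv_inv.eq.symm] at hui
      rw [pow_two]
      exact eq_inv_iff_mul_eq_one.mp (mul_right_cancel hui)
    have hi : z ^ (i : ℕ) = 1 := by
      have h := congrArg (fun a => a * a) hzi
      rw [← pow_mul] at hzi
      rw [pow_eq_pow_mod _ hz3] at hzi
      fin_cases i
      · exact pow_zero z
      · exact absurd (by simpa using hzi) (fun h : z ^ 2 = 1 => hz1 (by rw [← hz3, pow_succ, h, one_mul]))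
      · exact absurd (by simpa using hzi) hz1
    rw [hij, hi, one_mul]
    fin_cases j
    · exfalso
      rw [hi, one_mul] at hij
      simp only [pow_zero] at hij
      exact hy1 (by rw [show y = v⁻¹ * u * v by rw [hu]; group, hij]; group)
    · exact Or.inl (pow_one y)
    · exact Or.inr (eq_inv_of_mul_eq_one_left (by rw [← pow_succ, hy3]))
  have hyconj : IsConj z y := by
    refine real_three e ht hz hzo (orderOf_three hy3 hy1) ?_
    rcases hvy with h | h
    · rw [← hv2, ← Nat.card_zpowers]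
      exact Subgroup.card_dvd_of_le (Subgroup.zpowers_le.mpr
        (Subgroup.mem_centralizer_singleton_iff.mpr (mul_inv_eq_iff_eq_mul.mp h)))
    · rw [← htv, ← Nat.card_zpowers]
      refine Subgroup.card_dvd_of_le (Subgroup.zpowers_le.mpr
        (Subgroup.mem_centralizer_singleton_iff.mpr (mul_inv_eq_iff_eq_mul.mp ?_)))
      rw [show t * v * y * (t * v)⁻¹ = t * (v * y * v⁻¹) * t⁻¹ by group, h,
        show t * y⁻¹ * t⁻¹ = (t * y * t⁻¹)⁻¹ by group, hty, inv_inv]
  -- coordinates of `w`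
  obtain ⟨a, b, hab⟩ := hpair w hwO
  have ha0 : (a : ℕ) ≠ 0 := by
    intro h
    rw [h, pow_zero, one_mul] at hab
    have hcy : Nat.card C⟨y⟩ = n := (isConj_centralizer_card hyconj).trans hn.symm
    fin_cases b
    · exact hw1 (by simpa using hab)
    · rw [show w = y by simpa using hab, hcy, hn18] at h27
      omega
    · have hyw : C⟨w⟩ ≤ C⟨y⟩ := fun x hx => by
        rw [Subgroup.mem_centralizer_singleton_iff] at hx ⊢
        have h2 : Commute x (y ^ 2) := by rw [show y ^ 2 = w by simpa using hab.symm]; exact hx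
        have h4 := h2.pow_right 2
        rwa [← pow_mul, show (2 * 2 : ℕ) = 3 + 1 from rfl, pow_succ, hy3, one_mul] at h4
      have := h27.trans (Subgroup.card_dvd_of_le hyw)
      rw [hcy, hn18] at this
      omega
  have hw'eq : w' = z ^ (2 * (a : ℕ)) * w ^ 2 := by
    have h : w' * w = z ^ (2 * (a : ℕ)) := by
      rw [hw', hab, htpow, mul_assoc, ← mul_assoc ((y ^ (b : ℕ))⁻¹),
        ((hOcomm y hyO z hzO).pow_pow _ _).inv_left.eq, mul_assoc, inv_mul_cancel, mul_one, ← pow_add]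
      congr 1
      ring
    rw [← h, mul_assoc, ← pow_succ', hw3, mul_one]
  -- the Sylow subgroup moves `z` along the coset of `⟨w⟩`
  obtain ⟨q, hqP, hqz⟩ : ∃ q ∈ (P : Subgroup G), q * z * q⁻¹ ≠ z := by
    by_contra h
    simp only [not_exists, not_and, not_not] at h
    have hle : (P : Subgroup G) ≤ C⟨z⟩ := fun p hp =>
      Subgroup.mem_centralizer_singleton_iff.mpr (mul_inv_eq_iff_eq_mul.mp (h p hp))
    have := Subgroup.card_dvd_of_le hle
    rw [hP27, ← hn, hn18] at this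
    omega
  obtain ⟨d, hd, hd0⟩ : ∃ d : ℕ, q * z * q⁻¹ = z * w ^ d ∧ d % 3 ≠ 0 := by
    obtain ⟨j, hj⟩ := Subgroup.mem_zpowers_iff.mp
      (commutator_mem_central hP27 hwP hwo hwc q hqP z hzP)
    have hjd : q * z * q⁻¹ = z * w ^ (j % 3).toNat := by
      rw [← zpow_natCast w, Int.toNat_of_nonneg (Int.emod_nonneg _ (by norm_num)),
        show (3 : ℤ) = (orderOf w : ℤ) by rw [hwo]; rfl, zpow_mod_orderOf, (hzw.zpow_right j).eq, hj,
        inv_mul_cancel_right]
    refine ⟨_, hjd, fun h => hqz ?_⟩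
    rw [hjd, show (j % 3).toNat = 0 by omega, pow_zero, mul_one]
  have hqw : Commute q w := hwc q hqP
  have horbit : ∀ j : ℕ, IsConj z (z * w ^ j) := by
    intro j
    refine isConj_iff.mpr ⟨q ^ (j * d), ?_⟩
    rw [cube_conj hqw hzw hd (j * d), pow_eq_pow_mod (j * d * d) hw3, pow_eq_pow_mod j hw3]
    congr 2
    rcases (show d % 3 = 1 ∨ d % 3 = 2 by omega) with h | h <;> simp [Nat.mul_mod, h] <;> omega
  apply hnotconj
  have hw'conj : IsConj w' w := (isConj_iff.mpr ⟨t, hw'.symm⟩ : IsConj w w').symm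
  refine IsConj.trans ?_ hw'conj
  rw [hw'eq]
  have hac : (a : ℕ) = 1 ∨ (a : ℕ) = 2 := by have := a.isLt; omega
  rcases hac with h | h
  · -- the inverse coset
    rw [h]
    obtain ⟨g, hg⟩ := isConj_iff.mp (horbit 1)
    refine (isConj_iff.mpr ⟨v, hvz⟩ : IsConj z (z ^ 2)).trans (isConj_iff.mpr ⟨g, ?_⟩)
    rw [← conj_pow, hg, pow_one, hzw.mul_pow]
  · rw [h, show (2 * 2 : ℕ) = 3 + 1 from rfl, pow_succ, hz3, one_mul]
    exact horbit 2

include e ht hcard in
/-- The Sylow subgroup inside the centralizer, not commutative. -/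
theorem exists_core : ∃ P : Subgroup G, P ≤ C⟨S.z⟩ ∧ Nat.card P = 27 ∧
    (∀ x ∈ C⟨S.z⟩, ∀ n : ℕ, x ^ 3 ^ n = 1 → x ∈ P) ∧
    (∀ g : G, (∀ x ∈ C⟨S.z⟩, g * x * g⁻¹ ∈ C⟨S.z⟩) → ∀ x ∈ P, g * x * g⁻¹ ∈ P) ∧
    ∃ a ∈ P, ∃ b ∈ P, a * b ≠ b * a := by
  have : Fact (Nat.Prime 3) := ⟨Nat.prime_three⟩
  have h54 := card_cent_three e ht hcard S
  obtain ⟨P, hPC, hP, hmem, hnorm⟩ := index_two_core (C := C⟨S.z⟩) (k := 3) (by rw [h54]; norm_num)
  refine ⟨P, hPC, by rw [hP]; norm_num, hmem, hnorm, ?_⟩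
  by_contra hcm
  simp only [not_exists, not_and, not_not] at hcm
  have hP27 : Nat.card P = 27 := by rw [hP]; norm_num
  have hna : ¬ IsMulCommutative G := H30.not_comm_of_not_prime (by rw [hcard]; norm_num)
  have hsyl : ∀ Q : Sylow 3 G, Nat.card (Q : Subgroup G) = 27 := fun Q =>
    H30.card_sylow_subgroup Q (a := 3) (m := 208) (by rw [hcard]; norm_num) (by norm_num)
  obtain ⟨P0, hP0⟩ := (IsPGroup.of_card (p := 3) (n := 3) hP).exists_le_sylow
  have hP0eq : P = (P0 : Subgroup G) := Subgroup.eq_of_le_of_card_ge hP0 (by rw [hsyl, hP27])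
  -- two Sylow subgroups meet trivially
  have hTI : ∀ Q : Sylow 3 G, Q ≠ P0 → ∀ u ∈ (P0 : Subgroup G), u ∈ (Q : Subgroup G) → u = 1 := by
    have hcommQ : ∀ Q : Sylow 3 G, ∀ a ∈ (Q : Subgroup G), ∀ b ∈ (Q : Subgroup G), a * b = b * a := by
      intro Q a ha b hb
      obtain ⟨g, hg⟩ := MulAction.exists_smul_eq G P0 Q
      rw [← hg, Sylow.coe_subgroup_smul] at ha hb
      obtain ⟨a', ha', rfl⟩ := ha
      obtain ⟨b', hb', rfl⟩ := hb
      show MulAut.conj g a' * MulAut.conj g b' = MulAut.conj g b' * MulAut.conj g a'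
      rw [← map_mul, ← map_mul, hcm a' (hP0eq ▸ ha') b' (hP0eq ▸ hb')]
    intro Q hQ u huP huQ
    by_contra hu1
    obtain ⟨u', hu'P, hu'Q, hu'o⟩ : ∃ u' : G, u' ∈ (P0 : Subgroup G) ∧ u' ∈ (Q : Subgroup G) ∧
        orderOf u' = 3 := by
      obtain ⟨k, hk⟩ := IsPGroup.iff_orderOf.mp P0.isPGroup' ⟨u, huP⟩
      rw [Subgroup.orderOf_mk] at hk
      rcases k with _ | k
      · exact absurd (orderOf_eq_one_iff.mp (hk.trans (pow_zero 3))) hu1
      · exact ⟨u ^ 3 ^ k, pow_mem huP _, pow_mem huQ _, by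
          rw [orderOf_pow' u (pow_ne_zero k (by norm_num)), hk,
            Nat.gcd_eq_right (pow_dvd_pow 3 k.le_succ), pow_succ, Nat.mul_div_cancel_left _ (by positivity)]⟩
    have hle : ∀ R : Sylow 3 G, u' ∈ (R : Subgroup G) → (R : Subgroup G) ≤ C⟨u'⟩ := fun R hR x hx =>
      Subgroup.mem_centralizer_singleton_iff.mpr (hcommQ R x hx u' hR)
    have h27 : 27 ∣ Nat.card C⟨u'⟩ := hsyl P0 ▸ Subgroup.card_dvd_of_le (hle P0 hu'P)
    by_cases h2 : 2 ∣ Nat.card C⟨u'⟩
    · have hc := isConj_centralizer_card (real_three e ht S.hz S.hzo hu'o h2)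
      obtain ⟨O, -, hO, hOmem, -⟩ := index_two_core (C := C⟨u'⟩) (k := 3) (by rw [hc, h54]; norm_num)
      have heq : ∀ R : Sylow 3 G, u' ∈ (R : Subgroup G) → (R : Subgroup G) = O := fun R hR =>
        Subgroup.eq_of_le_of_card_ge (fun x hx => hOmem x (hle R hR hx) 3 (by
          have h := congrArg Subtype.val (pow_card_eq_one' (x := (⟨x, hx⟩ : (R : Subgroup G))))
          rw [hsyl R] at h
          norm_num
          simpa using h)) (by rw [hO, hsyl R]; norm_num)
      exact hQ (Sylow.ext ((heq Q hu'Q).trans (heq P0 hu'P).symm))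
    · have hcard' : Nat.card C⟨u'⟩ = 27 := by
        have h432 := dvd_432 hcard hu'o
        have hall : ∀ m ∈ Nat.divisors 432, 27 ∣ m → ¬ 2 ∣ m → m = 27 := by decide +kernel
        exact hall _ (Nat.mem_divisors.mpr ⟨h432, by norm_num⟩) h27 h2
      have heq : ∀ R : Sylow 3 G, u' ∈ (R : Subgroup G) → (R : Subgroup G) = C⟨u'⟩ := fun R hR =>
        Subgroup.eq_of_le_of_card_ge (hle R hR) (by rw [hcard', hsyl R])
      exact hQ (Sylow.ext ((heq Q hu'Q).trans (heq P0 hu'P).symm))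
  -- hence the number of Sylow subgroups is one modulo twenty seven
  classical
  let _ : Fintype (Sylow 3 G) := Fintype.ofFinite _
  have hmod : 27 ∣ Nat.card (Sylow 3 G) - 1 := by
    let S' : SubMulAction (P0 : Subgroup G) (Sylow 3 G) :=
      { carrier := {Q | Q ≠ P0}
        smul_mem' := fun g Q hQ h => hQ (by
          have h' : ((g : G) • Q : Sylow 3 G) = P0 := h
          rw [← inv_smul_smul (g : G) Q, h', Sylow.smul_eq_iff_mem_normalizer]
          exact inv_mem (Subgroup.le_normalizer g.2)) }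
    have hfree : ∀ Q : S', MulAction.stabilizer (P0 : Subgroup G) Q = ⊥ := by
      intro Q
      rw [eq_bot_iff]
      intro g hg
      have h : ((g : G) • (Q : Sylow 3 G)) = Q := congrArg Subtype.val hg
      rw [Sylow.smul_eq_iff_mem_normalizer] at h
      refine Subgroup.mem_bot.mpr (Subtype.ext (hTI Q Q.2 g g.2 ?_))
      have hinf := IsPGroup.inf_normalizer_sylow P0.isPGroup' (Q : Sylow 3 G)
      exact ((hinf ▸ ⟨g.2, h⟩ : (g : G) ∈ (P0 : Subgroup G) ⊓ ((Q : Sylow 3 G) : Subgroup G))).2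
    have hc : Nat.card S' = Nat.card (Sylow 3 G) - 1 := by
      rw [Nat.card_congr (Equiv.subtypeEquivRight fun Q => Iff.rfl :
        S' ≃ {Q : Sylow 3 G // ¬ Q = P0}), Nat.card_eq_fintype_card, Nat.card_eq_fintype_card,
        Fintype.card_subtype_compl, Fintype.card_subtype_eq]
    rw [← hc, Nat.card_congr (MulAction.selfEquivOrbitsQuotientProd hfree), Nat.card_prod, hsyl P0]
    exact dvd_mul_left _ _
  have hd : Nat.card (Sylow 3 G) ∈ Nat.divisors 208 :=
    Nat.mem_divisors.mpr ⟨H30.card_sylow_dvd (a := 3) (by rw [hcard]; norm_num) (by norm_num), by norm_num⟩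
  have hall : ∀ n ∈ Nat.divisors 208, 27 ∣ n - 1 → n = 1 := by decide +kernel
  exact H30.card_sylow_ne_one hna 3 (by rw [hcard]; norm_num) (hall _ hd hmod)

include e ht hcard in
/-- The parabolic subgroup. -/
theorem exists_parabolic : Nonempty (Parabolic G) := by
  have : Fact (Nat.Prime 3) := ⟨Nat.prime_three⟩
  obtain ⟨S⟩ := exists_seed e ht
  obtain ⟨P, hPC, hP27, hPmem, hPnorm, hPnc⟩ := exists_core e ht hcard S
  have h54 := card_cent_three e ht hcard S
  obtain ⟨z, v, hz, hzo, hv, hv2, hvz, htv⟩ := S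
  simp only at hPC hPmem hPnorm h54
  obtain ⟨hz3, hz1⟩ := cube_of_order hzo
  have hvv : v * v = 1 := by rw [← pow_two, ← hv2, pow_orderOf_eq_one]
  have htt : t * t = 1 := by rw [← pow_two, ← ht, pow_orderOf_eq_one]
  have hzt : z * t = t * z := Subgroup.mem_centralizer_singleton_iff.mp hz
  have htz : t * z * t⁻¹ = z := by rw [← hzt, mul_inv_cancel_right]
  have hvnorm := hPnorm v (conj_mem_cent hz3 (Or.inr hvz))
  have htnorm := hPnorm t (conj_mem_cent hz3 (Or.inl htz))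
  have hzC : z ∈ C⟨z⟩ := Subgroup.mem_centralizer_singleton_iff.mpr rfl
  have hzP : z ∈ P := hPmem z hzC 1 (by rw [pow_one, hz3])
  have hzc : ∀ p ∈ P, p * z = z * p := fun p hp => Subgroup.mem_centralizer_singleton_iff.mp (hPC hp)
  -- a fixed point of `v`
  obtain ⟨y, hyP, hvy, hy1⟩ : ∃ y ∈ P, v * y * v⁻¹ = y ∧ y ≠ 1 := by
    let f : P →* P :=
      { toFun := fun p => ⟨v * p * v⁻¹, hvnorm p p.2⟩
        map_one' := Subtype.ext (show v * 1 * v⁻¹ = 1 by group)
        map_mul' := fun a b => Subtype.ext (show v * ((a : G) * b) * v⁻¹ = v * a * v⁻¹ * (v * b * v⁻¹) by group) }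
    by_contra h
    simp only [not_exists, not_and, not_not] at h
    have hf : MonoidHom.FixedPointFree f := fun p hp => Subtype.ext (h p p.2 (congrArg Subtype.val hp))
    have hi : Function.Involutive f := fun p => Subtype.ext (by
      show v * (v * (p : G) * v⁻¹) * v⁻¹ = p
      rw [inv_eq_of_mul_eq_one_right hvv, show v * (v * (p : G) * v) * v = v * v * p * (v * v) by group,
        hvv, one_mul, mul_one])
    have hinv := hf.coe_eq_inv_of_involutive hi
    obtain ⟨a, ha, b, hb, hab⟩ := hPnc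
    apply hab
    have h1 := map_mul f ⟨a, ha⟩ ⟨b, hb⟩
    simp only [hinv, mul_inv_rev] at h1
    have h2 : a⁻¹ * b⁻¹ = b⁻¹ * a⁻¹ := (congrArg Subtype.val h1).symm
    have h3 := congrArg Inv.inv h2
    simp only [mul_inv_rev, inv_inv] at h3
    exact h3.symm
  have hyC : y ∈ C⟨v⟩ := Subgroup.mem_centralizer_singleton_iff.mpr (mul_inv_eq_iff_eq_mul.mp hvy).symm
  have hy3 : y ^ 3 = 1 := by
    have h1 : orderOf y ∣ 27 := hP27 ▸ Subgroup.orderOf_dvd_natCard P hyP
    have h2 : orderOf y ∣ 48 := by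
      have h := Subgroup.orderOf_dvd_natCard C⟨v⟩ hyC
      rwa [isConj_centralizer_card (all_involutions e ht v hv2), card_cent e] at h
    exact orderOf_dvd_iff_pow_eq_one.mp (Nat.dvd_gcd h1 h2)
  have hyo := orderOf_three hy3 hy1
  have hyz : y ∉ Subgroup.zpowers z := by
    intro h
    obtain ⟨j, hj⟩ := Subgroup.mem_zpowers_iff.mp h
    have h1 : v * y * v⁻¹ = y ^ 2 := by
      rw [← hj, ← conj_zpow, hvz, ← zpow_natCast z, ← zpow_mul, ← zpow_natCast (z ^ j), ← zpow_mul, mul_comm]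
    rw [hvy, pow_two, left_eq_mul] at h1
    exact hy1 h1
  have hzy : Commute z y := (hzc y hyP).symm
  -- the subgroup of order nine
  let E : Subgroup G :=
    { carrier := {x | ∃ i j : ℕ, x = z ^ i * y ^ j}
      one_mem' := ⟨0, 0, by simp⟩
      mul_mem' := by
        rintro _ _ ⟨i, j, rfl⟩ ⟨i', j', rfl⟩
        refine ⟨i + i', j + j', ?_⟩
        rw [pow_add, pow_add, mul_assoc, ← mul_assoc (y ^ j), (hzy.symm.pow_pow j i').eq]
        group
      inv_mem' := by
        rintro _ ⟨i, j, rfl⟩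
        refine ⟨2 * i, 2 * j, ?_⟩
        rw [inv_eq_iff_mul_eq_one, mul_assoc, ← mul_assoc (y ^ j), (hzy.symm.pow_pow j (2 * i)).eq,
          mul_assoc, ← mul_assoc, ← pow_add, ← pow_add, show i + 2 * i = 3 * i by ring,
          show j + 2 * j = 3 * j by ring, pow_mul, pow_mul, hz3, hy3, one_pow, one_pow, one_mul] }
  have hEmod : ∀ x ∈ E, ∃ i j : Fin 3, x = z ^ (i : ℕ) * y ^ (j : ℕ) := by
    rintro _ ⟨i, j, rfl⟩
    exact ⟨⟨i % 3, Nat.mod_lt _ (by norm_num)⟩, ⟨j % 3, Nat.mod_lt _ (by norm_num)⟩, by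
      rw [pow_eq_pow_mod i hz3, pow_eq_pow_mod j hy3]⟩
  have hE9 : Nat.card E = 9 := by
    let f : Fin 3 × Fin 3 → E := fun q => ⟨z ^ (q.1 : ℕ) * y ^ (q.2 : ℕ), _, _, rfl⟩
    have hf : Function.Bijective f := by
      refine ⟨fun q q' h => ?_, fun x => ?_⟩
      · obtain ⟨i, j⟩ := q
        obtain ⟨i', j'⟩ := q'
        have h' : z ^ (i : ℕ) * y ^ (j : ℕ) = z ^ (i' : ℕ) * y ^ (j' : ℕ) := congrArg Subtype.val h
        by_cases hj : j = j'
        · subst hj
          have h5 := mul_right_cancel h'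
          rw [pow_inj_mod, hzo, Nat.mod_eq_of_lt i.isLt, Nat.mod_eq_of_lt i'.isLt] at h5
          exact Prod.ext (Fin.ext h5) rfl
        · exfalso
          apply hyz
          set m := (j : ℕ) + 2 * (j' : ℕ) with hm
          have h3 : y ^ m = (z ^ (i : ℕ))⁻¹ * z ^ (i' : ℕ) := by
            calc y ^ m = (z ^ (i : ℕ))⁻¹ * (z ^ (i : ℕ) * y ^ (j : ℕ)) * y ^ (2 * (j' : ℕ)) := by
                  rw [hm, pow_add]; group
              _ = (z ^ (i : ℕ))⁻¹ * z ^ (i' : ℕ) * y ^ (3 * (j' : ℕ)) := by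
                  rw [h', show 3 * (j' : ℕ) = (j' : ℕ) + 2 * (j' : ℕ) by ring, pow_add]; group
              _ = _ := by rw [pow_mul, hy3, one_pow, mul_one]
          have h4 : y ^ m ∈ Subgroup.zpowers z := h3 ▸ mul_mem
            (inv_mem (Subgroup.npow_mem_zpowers _ _)) (Subgroup.npow_mem_zpowers _ _)
          have h5 := pow_mem h4 m
          have hd : m % 3 = 1 ∨ m % 3 = 2 := by
            have := Fin.val_ne_of_ne hj
            have := j.isLt
            have := j'.isLt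
            omega
          rw [← pow_mul, pow_eq_pow_mod (m * m) hy3, Nat.mul_mod] at h5
          rcases hd with e | e <;> simpa [e] using h5
      · obtain ⟨i, j, h⟩ := hEmod x x.2
        exact ⟨(i, j), Subtype.ext h.symm⟩
    rw [← Nat.card_eq_of_bijective f hf, Nat.card_prod, Nat.card_fin]
  have hzE : z ∈ E := ⟨1, 0, by simp⟩
  have hyE : y ∈ E := ⟨0, 1, by simp⟩
  have hEP : E ≤ P := by
    rintro _ ⟨i, j, rfl⟩
    exact mul_mem (pow_mem hzP _) (pow_mem hyP _)
  have hEcube : ∀ x ∈ E, x ^ 3 = 1 := by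
    rintro _ ⟨i, j, rfl⟩
    rw [(hzy.pow_pow _ _).mul_pow, ← pow_mul, ← pow_mul, mul_comm i, mul_comm j, pow_mul, pow_mul,
      hz3, hy3, one_pow, one_pow, one_mul]
  -- normalising elements
  let N := Subgroup.normalizer (E : Set G)
  have hgen : ∀ g : G, g * z * g⁻¹ ∈ E → g * y * g⁻¹ ∈ E → g ∈ N := by
    intro g h1 h2
    have hmap : ∀ x ∈ E, g * x * g⁻¹ ∈ E := by
      rintro _ ⟨i, j, rfl⟩
      rw [show g * (z ^ i * y ^ j) * g⁻¹ = g * z ^ i * g⁻¹ * (g * y ^ j * g⁻¹) by group, ← conj_pow, ← conj_pow]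
      exact mul_mem (pow_mem h1 _) (pow_mem h2 _)
    have hE : E.map (MulAut.conj g).toMonoidHom = E := by
      refine Subgroup.eq_of_le_of_card_ge ?_ ?_
      · rintro _ ⟨x, hx, rfl⟩
        exact hmap x hx
      · rw [← Nat.card_congr (E.equivMapOfInjective _ (MulAut.conj g).injective).toEquiv]
    rw [Subgroup.mem_normalizer_iff]
    refine fun x => ⟨hmap x, fun hx => ?_⟩
    rw [← hE] at hx
    obtain ⟨x', hx', hxx⟩ := hx
    rwa [show x = x' from (MulAut.conj g).injective hxx.symm]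
  have hnorm : ∀ n ∈ N, ∀ x ∈ E, n * x * n⁻¹ ∈ E := fun n hn x hx =>
    (Subgroup.mem_normalizer_iff.mp hn x).mp hx
  have hcomm := commutator_mem_central hP27 hzP hzo hzc
  have hPN : P ≤ N := fun p hp => hgen p
    (by rw [hzc p hp, mul_inv_cancel_right]; exact hzE)
    (by
      have hle : Subgroup.zpowers z ≤ E := Subgroup.zpowers_le.mpr hzE
      have h := mul_mem (hle (hcomm p hp y hyP)) hyE
      rwa [inv_mul_cancel_right] at h)
  have htN : t ∈ N := by
    refine hgen t (htz.symm ▸ hzE) ?_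
    set u := t * y * t⁻¹ with hu
    have huP : u ∈ P := htnorm y hyP
    have hvt : v * t = t * v := Subgroup.mem_centralizer_singleton_iff.mp hv
    have huv : u ∈ C⟨v⟩ := by
      refine Subgroup.mem_centralizer_singleton_iff.mpr (mul_inv_eq_iff_eq_mul.mp ?_).symm
      rw [hu, show v * (t * y * t⁻¹) * v⁻¹ = v * t * y * (v * t)⁻¹ by group, hvt,
        show t * v * y * (t * v)⁻¹ = t * (v * y * v⁻¹) * t⁻¹ by group, hvy]
    have hmem : u ∈ Subgroup.zpowers y := by
      by_contra hnot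
      have hu3 : u ^ 3 = 1 := by rw [hu, conj_pow, hy3]; group
      -- two independent fixed points give nine in the centralizer of an involution
      have hle : (P ⊓ C⟨v⟩) ≤ C⟨v⟩ := inf_le_right
      refine not_nine_dvd e ht hv2 _ hle ?_
      obtain ⟨k, hk⟩ := IsPGroup.iff_card.mp ((IsPGroup.of_card (p := 3) (n := 3)
        (by rw [hP27]; norm_num)).to_le (inf_le_left : P ⊓ C⟨v⟩ ≤ P))
      rcases k with _ | _ | k
      · exfalso
        have : P ⊓ C⟨v⟩ = ⊥ := Subgroup.eq_bot_of_card_eq _ hk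
        exact hy1 (Subgroup.mem_bot.mp (this ▸ ⟨hyP, hyC⟩ : y ∈ (⊥ : Subgroup G)))
      · exfalso
        have : Subgroup.zpowers y = P ⊓ C⟨v⟩ := Subgroup.eq_of_le_of_card_ge
          (Subgroup.zpowers_le.mpr ⟨hyP, hyC⟩) (by rw [hk, Nat.card_zpowers, hyo]; norm_num)
        exact hnot (this ▸ ⟨huP, huv⟩)
      · rw [hk, pow_succ, pow_succ]
        exact ⟨3 ^ k, by ring⟩
    exact Subgroup.zpowers_le.mpr hyE hmem
  have hvN : v ∈ N := hgen v (hvz.symm ▸ pow_mem hzE 2) (hvy.symm ▸ hyE)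
  -- the conjugates inside the normalizer
  obtain ⟨d, q, hqP, hqy, hd⟩ : ∃ d : ℕ, ∃ q ∈ P, q * y * q⁻¹ = y * z ^ d ∧ d % 3 ≠ 0 := by
    obtain ⟨a, ha, b, hb, hab⟩ := hPnc
    obtain ⟨q, hq, hqy⟩ : ∃ q ∈ P, q * y * q⁻¹ ≠ y := by
      by_contra h
      simp only [not_exists, not_and, not_not] at h
      apply hab
      set EP := E.subgroupOf P with hEPdef
      have hcen : EP ≤ Subgroup.center P := by
        rintro ⟨x, hxP⟩ ⟨i, j, hx⟩
        simp only [Subgroup.coe_subtype] at hx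
        refine Subgroup.mem_center_iff.mpr fun g => Subtype.ext ?_
        show (g : G) * x = x * g
        rw [hx]
        exact (((show Commute (g : G) z from hzc g g.2).pow_right i).mul_right
          ((show Commute (g : G) y from mul_inv_eq_iff_eq_mul.mp (h g g.2)).pow_right j)).eq
      have : EP.Normal := ⟨fun n hn g => by
        rwa [Subgroup.mem_center_iff.mp (hcen hn) g, mul_inv_cancel_right]⟩
      have hidx : Nat.card (P ⧸ EP) = 3 := by
        have h1 := EP.card_eq_card_quotient_mul_card_subgroup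
        have h2 : Nat.card EP = 9 := (Nat.card_congr (Subgroup.subgroupOfEquivOfLe hEP).toEquiv).trans hE9
        rw [hP27, h2] at h1
        omega
      have : IsCyclic (P ⧸ EP) := isCyclic_of_prime_card hidx
      have := commutative_of_cyclic_center_quotient (QuotientGroup.mk' EP)
        (by rw [QuotientGroup.ker_mk']; exact hcen) ⟨a, ha⟩ ⟨b, hb⟩
      exact congrArg Subtype.val this
    obtain ⟨j, hj⟩ := Subgroup.mem_zpowers_iff.mp (hcomm q hq y hyP)
    refine ⟨(j % 3).toNat, q, hq, ?_, fun h => ?_⟩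
    · rw [← zpow_natCast z, Int.toNat_of_nonneg (Int.emod_nonneg _ (by norm_num)),
        show (3 : ℤ) = (orderOf z : ℤ) by rw [hzo]; rfl, zpow_mod_orderOf, (hzy.symm.zpow_right j).eq, hj,
        inv_mul_cancel_right]
    · apply hqy
      have hj0 : j % 3 = 0 := by omega
      obtain ⟨i, rfl⟩ : (3 : ℤ) ∣ j := Int.dvd_of_emod_eq_zero hj0
      rw [zpow_mul, show z ^ (3 : ℤ) = 1 by rw [show (3 : ℤ) = ((3 : ℕ) : ℤ) from rfl, zpow_natCast, hz3],
        one_zpow, eq_comm, mul_inv_eq_one] at hj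
      exact hj
  have hqz : ∀ j : ℕ, ∀ i : ℕ, ∃ n ∈ N, n * (z ^ i * y ^ j) * n⁻¹ = z ^ (i + j * d) * y ^ j := fun j i =>
    ⟨q, hPN hqP, by
      rw [show q * (z ^ i * y ^ j) * q⁻¹ = q * z ^ i * q⁻¹ * (q * y ^ j * q⁻¹) by group, ← conj_pow,
        ← conj_pow, hqy, hzc q hqP, mul_inv_cancel_right, (hzy.symm.pow_right d).mul_pow, ← pow_mul,
        (hzy.symm.pow_pow j (d * j)).eq, ← mul_assoc, ← pow_add]
      congr 2
      ring⟩
  let T : G → Prop := fun x => ∃ n ∈ N, n * z * n⁻¹ = x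
  have Tz : T z := ⟨1, one_mem _, by group⟩
  have Tz2 : T (z ^ 2) := ⟨v, hvN, hvz⟩
  have Tstep : ∀ j i : ℕ, T (z ^ i * y ^ j) → ∀ k : ℕ, T (z ^ (i + k * (j * d)) * y ^ j) := by
    intro j i hT k
    induction k with
    | zero => simpa using hT
    | succ k ih =>
      obtain ⟨n, hn, hn'⟩ := ih
      obtain ⟨m, hm, hm'⟩ := hqz j (i + k * (j * d))
      refine ⟨m * n, mul_mem hm hn, ?_⟩
      rw [show m * n * z * (m * n)⁻¹ = m * (n * z * n⁻¹) * m⁻¹ by group, hn', hm']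
      congr 2
      ring
  -- `y` is conjugate to `z`
  obtain ⟨g, hg⟩ : ∃ g : G, g * z * g⁻¹ = y := isConj_iff.mp (real_three e ht hz hzo hyo (by
    rw [← hv2, ← Nat.card_zpowers]
    exact Subgroup.card_dvd_of_le (Subgroup.zpowers_le.mpr
      (Subgroup.mem_centralizer_singleton_iff.mpr (mul_inv_eq_iff_eq_mul.mp hvy)))))
  have hpow27 : ∀ x ∈ E, x ^ 3 ^ 1 = 1 := fun x hx => by rw [pow_one]; exact hEcube x hx
  have hgE : ∀ x ∈ E, g⁻¹ * x * g ∈ P := fun x hx => by
    refine hPmem _ (Subgroup.mem_centralizer_singleton_iff.mpr ?_) 1 ?_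
    · have hxy : x * y = y * x := by
        obtain ⟨i, j, rfl⟩ := hx
        exact (((hzy.pow_left i).mul_left ((Commute.refl y).pow_left j))).eq
      rw [← hg] at hxy
      calc g⁻¹ * x * g * z = g⁻¹ * (x * (g * z * g⁻¹)) * g := by group
        _ = g⁻¹ * (g * z * g⁻¹ * x) * g := by rw [hxy]
        _ = _ := by group
    · rw [show g⁻¹ * x * g = g⁻¹ * x * g⁻¹⁻¹ by rw [inv_inv], conj_pow, hpow27 x hx]; group
  have hyN : ∀ p ∈ P, g * p * g⁻¹ ∈ N := by
    intro p hp
    have key : ∀ x ∈ E, g * p * g⁻¹ * x * (g * p * g⁻¹)⁻¹ ∈ E := by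
      intro x hx
      obtain ⟨j, hj⟩ := Subgroup.mem_zpowers_iff.mp (hcomm p hp _ (hgE x hx))
      have h : g * p * g⁻¹ * x * (g * p * g⁻¹)⁻¹ = y ^ j * x := by
        rw [← hg, conj_zpow, hj]
        group
      rw [h]
      exact mul_mem (zpow_mem hyE _) hx
    exact hgen _ (key z hzE) (key y hyE)
  obtain ⟨p0, hp0, hp0z⟩ : ∃ p ∈ P, g * p * g⁻¹ * z * (g * p * g⁻¹)⁻¹ ≠ z := by
    by_contra h
    simp only [not_exists, not_and, not_not] at h
    -- otherwise `y` would be central in `P`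
    have hPeq : P.map (MulAut.conj g).toMonoidHom = P := by
      refine Subgroup.eq_of_le_of_card_ge ?_ ?_
      · rintro _ ⟨p, hp, rfl⟩
        refine hPmem _ (Subgroup.mem_centralizer_singleton_iff.mpr
          (mul_inv_eq_iff_eq_mul.mp (h p hp))) 3 ?_
        show (g * p * g⁻¹) ^ 3 ^ 3 = 1
        rw [conj_pow, show p ^ 3 ^ 3 = 1 from by
          have h' := congrArg Subtype.val (pow_card_eq_one' (x := (⟨p, hp⟩ : P)))
          rw [hP27] at h'
          norm_num
          simpa using h']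
        group
      · rw [← Nat.card_congr (P.equivMapOfInjective _ (MulAut.conj g).injective).toEquiv]
    have hd' : y * z ^ d = y := by
      rw [← hqy]
      rw [← hPeq] at hqP
      obtain ⟨p, hp, rfl⟩ := hqP
      show g * p * g⁻¹ * y * (g * p * g⁻¹)⁻¹ = y
      rw [← hg, show g * p * g⁻¹ * (g * z * g⁻¹) * (g * p * g⁻¹)⁻¹ = g * (p * z * p⁻¹) * g⁻¹ by group,
        hzc p hp, mul_inv_cancel_right]
    rw [mul_eq_left, ← orderOf_dvd_iff_pow_eq_one, hzo] at hd'
    omega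
  have Tall : ∀ x ∈ E, x ≠ 1 → T x := by
    obtain ⟨j, hj⟩ := Subgroup.mem_zpowers_iff.mp (hcomm p0 hp0 _ (hgE z hzE))
    have hmove : g * p0 * g⁻¹ * z * (g * p0 * g⁻¹)⁻¹ = y ^ j * z := by
      rw [← hg, conj_zpow, hj]
      group
    set d' := (j % 3).toNat with hd'
    have hyj : y ^ j = y ^ d' := by
      rw [← zpow_natCast y, hd', Int.toNat_of_nonneg (Int.emod_nonneg _ (by norm_num)),
        show (3 : ℤ) = (orderOf y : ℤ) by rw [hyo]; rfl, zpow_mod_orderOf]
    have hd'0 : d' % 3 ≠ 0 := fun h => hp0z (by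
      rw [hmove, hyj, show d' = 0 by omega, pow_zero, one_mul])
    have T1 : ∀ k : ℕ, T (z * y ^ (k * d')) := by
      intro k
      induction k with
      | zero => simpa using Tz
      | succ k ih =>
        obtain ⟨n, hn, hn'⟩ := ih
        refine ⟨g * p0 * g⁻¹ * n, mul_mem (hyN p0 hp0) hn, ?_⟩
        have hfix : Commute (g * p0 * g⁻¹) y := by
          rw [← hg]; exact (show Commute p0 z from hzc p0 hp0).map (MulAut.conj g).toMonoidHom
        rw [show g * p0 * g⁻¹ * n * z * (g * p0 * g⁻¹ * n)⁻¹ =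
          g * p0 * g⁻¹ * (n * z * n⁻¹) * (g * p0 * g⁻¹)⁻¹ by group, hn',
          show g * p0 * g⁻¹ * (z * y ^ (k * d')) * (g * p0 * g⁻¹)⁻¹ =
            g * p0 * g⁻¹ * z * (g * p0 * g⁻¹)⁻¹ *
              (g * p0 * g⁻¹ * y ^ (k * d') * (g * p0 * g⁻¹)⁻¹) by group,
          hmove, (hfix.pow_right _).eq, mul_inv_cancel_right, hyj, ← (hzy.pow_right d').eq,
          mul_assoc, ← pow_add]
        congr 2
        ring
    have T2 : ∀ m : ℕ, T (z * y ^ m) := by
      intro m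
      have h := T1 (m * d')
      have hmod : (m * d' * d') % 3 = m % 3 := by
        rw [Nat.mul_mod, Nat.mul_mod m]
        rcases (show d' % 3 = 1 ∨ d' % 3 = 2 by omega) with e | e <;> rw [e] <;> omega
      rwa [pow_eq_pow_mod (m * d' * d') hy3, hmod, ← pow_eq_pow_mod m hy3] at h
    intro x hx hx1
    obtain ⟨i, j, rfl⟩ := hEmod x hx
    by_cases hj0 : (j : ℕ) = 0
    · rw [hj0, pow_zero, mul_one] at hx1 ⊢
      fin_cases i
      · exact absurd (pow_zero z) hx1
      · exact (pow_one z).symm ▸ Tz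
      · exact Tz2
    · have hT := Tstep j 1 (by rw [pow_one]; exact T2 j) ((2 + (i : ℕ)) * ((j : ℕ) * d))
      rw [pow_eq_pow_mod (1 + (2 + (i : ℕ)) * ((j : ℕ) * d) * ((j : ℕ) * d)) hz3] at hT
      have hjd : ((j : ℕ) * d) % 3 ≠ 0 := by
        have hjlt := j.isLt
        rw [Nat.mul_mod]
        rcases (show (j : ℕ) = 1 ∨ (j : ℕ) = 2 by omega) with e | e <;>
          rcases (show d % 3 = 1 ∨ d % 3 = 2 by omega) with e' | e' <;> simp [e, e']
      rw [pow_eq_pow_mod (i : ℕ) hz3]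
      have hmod : (1 + (2 + (i : ℕ)) * ((j : ℕ) * d) * ((j : ℕ) * d)) % 3 = (i : ℕ) % 3 := by
        generalize (j : ℕ) * d = K at hjd ⊢
        rw [Nat.add_mod, Nat.mul_mod, Nat.mul_mod (2 + (i : ℕ))]
        rcases (show K % 3 = 1 ∨ K % 3 = 2 by omega) with e | e <;> rw [e] <;> omega
      rwa [hmod] at hT
  have htrans : ∀ x ∈ E, ∀ x' ∈ E, x ≠ 1 → x' ≠ 1 → ∃ n ∈ N, n * x * n⁻¹ = x' := by
    intro x hx x' hx' h1 h1'
    obtain ⟨n, hn, rfl⟩ := Tall x hx h1
    obtain ⟨m, hm, rfl⟩ := Tall x' hx' h1'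
    exact ⟨m * n⁻¹, mul_mem hm (inv_mem hn), by group⟩
  -- the whole centralizer of `z` normalises
  have hCN : C⟨z⟩ ≤ N := by
    have h : N ⊓ C⟨z⟩ = C⟨z⟩ := Subgroup.eq_of_le_of_card_ge inf_le_right (by
      rw [h54]
      refine Nat.le_of_dvd Nat.card_pos (Nat.Coprime.mul_dvd_of_dvd_of_dvd (m := 2) (n := 27) (by norm_num) ?_ ?_)
      · rw [← ht, ← Nat.card_zpowers]
        exact Subgroup.card_dvd_of_le (Subgroup.zpowers_le.mpr
          ⟨htN, Subgroup.mem_centralizer_singleton_iff.mpr hzt.symm⟩)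
      · exact hP27 ▸ Subgroup.card_dvd_of_le (le_inf hPN hPC))
    exact fun x hx => (h.symm ▸ hx : x ∈ N ⊓ C⟨z⟩).1
  have hti : ∀ g' x : G, x ∈ E → x ≠ 1 → g' * x * g'⁻¹ ∈ E → g' ∈ N := by
    intro g' x hx hx1 hgx
    have hgx1 : g' * x * g'⁻¹ ≠ 1 := fun h => hx1 (by rwa [mul_inv_eq_one, mul_eq_left] at h)
    obtain ⟨n, hn, hn'⟩ := htrans z hzE x hx hz1 hx1
    obtain ⟨m, hm, hm'⟩ := htrans z hzE _ hgx hz1 hgx1
    have hc : m⁻¹ * g' * n ∈ C⟨z⟩ := by
      refine Subgroup.mem_centralizer_singleton_iff.mpr (mul_inv_eq_iff_eq_mul.mp ?_)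
      rw [show m⁻¹ * g' * n * z * (m⁻¹ * g' * n)⁻¹ = m⁻¹ * (g' * (n * z * n⁻¹) * g'⁻¹) * m by group,
        hn', ← hm']
      group
    have h := mul_mem (mul_mem hm (hCN hc)) (inv_mem hn)
    rwa [show m * (m⁻¹ * g' * n) * n⁻¹ = g' by group] at h
  -- the index
  have hidx : N.index = 13 := by
    classical
    let f : N → {x : G // x ∈ E ∧ x ≠ 1} := fun n => ⟨n * z * (n : G)⁻¹, hnorm n n.2 z hzE, fun h =>
      hz1 (by rwa [mul_inv_eq_one, mul_eq_left] at h)⟩
    have hf : Function.Surjective f := fun x => by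
      obtain ⟨n, hn, h⟩ := htrans z hzE x.1 x.2.1 hz1 x.2.2
      exact ⟨⟨n, hn⟩, Subtype.ext h⟩
    have hcos : ∀ a b : N, f a = f b ↔ (a⁻¹ * b : N) ∈ (C⟨z⟩).subgroupOf N := by
      intro a b
      rw [Subgroup.mem_subgroupOf, Subgroup.mem_centralizer_singleton_iff, Subtype.ext_iff]
      show (a : G) * z * (a : G)⁻¹ = b * z * (b : G)⁻¹ ↔ (a : G)⁻¹ * b * z = z * ((a : G)⁻¹ * b)
      constructor
      · intro h
        calc (a : G)⁻¹ * b * z = (a : G)⁻¹ * (b * z * (b : G)⁻¹) * b := by group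
          _ = (a : G)⁻¹ * (a * z * (a : G)⁻¹) * b := by rw [h]
          _ = _ := by group
      · intro h
        calc (a : G) * z * (a : G)⁻¹ = a * (z * ((a : G)⁻¹ * b)) * (b : G)⁻¹ := by group
          _ = a * ((a : G)⁻¹ * b * z) * (b : G)⁻¹ := by rw [h]
          _ = _ := by group
    let F : N ⧸ (C⟨z⟩).subgroupOf N → {x : G // x ∈ E ∧ x ≠ 1} := Quotient.lift f fun a b h =>
      (hcos a b).mpr (QuotientGroup.leftRel_apply.mp h)
    have hF : Function.Bijective F := by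
      refine ⟨fun a b => ?_, fun x => ?_⟩
      · induction a using QuotientGroup.induction_on
        induction b using QuotientGroup.induction_on
        exact fun h => QuotientGroup.eq.mpr ((hcos _ _).mp h)
      · obtain ⟨n, hn⟩ := hf x
        exact ⟨QuotientGroup.mk n, hn⟩
    have h8 : Nat.card {x : G // x ∈ E ∧ x ≠ 1} = 8 := by
      rw [← Nat.card_congr (Equiv.subtypeSubtypeEquivSubtypeInter (fun x => x ∈ E) (fun x => x ≠ 1))]
      have := Fintype.ofFinite E
      have hone : ∀ x : E, (x : G) ≠ 1 ↔ x ≠ 1 := fun x => by simp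
      rw [Nat.card_congr (Equiv.subtypeEquivRight hone), Nat.card_eq_fintype_card,
        Fintype.card_subtype_compl, Fintype.card_subtype_eq, ← Nat.card_eq_fintype_card]
      exact hE9 ▸ rfl
    have h := ((C⟨z⟩).subgroupOf N).card_eq_card_quotient_mul_card_subgroup
    rw [Nat.card_eq_of_bijective F hF, h8, Nat.card_congr (Subgroup.subgroupOfEquivOfLe hCN).toEquiv, h54] at h
    have h' := N.card_mul_index
    rw [h, hcard] at h'
    omega
  exact ⟨⟨E, N, hE9, hidx, Subgroup.le_normalizer, hnorm, hEcube, hti, htrans⟩⟩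

end Cfsg.Agent.H30.GLTwoThree
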