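import Mathlib

/-!
# The projective plane of order three on thirteen points
-/

set_option autoImplicit false
set_option maxRecDepth 4000
set_option maxHeartbeats 1000000
set_option synthInstance.maxSize 4096

namespace Cfsg.Agent.H30.PlaneThirteen

/-- Incidence with the translate of the difference set `{0, 1, 3, 9}`. -/
def inB (b x : ZMod 13) : Prop := x - b = 0 ∨ x - b = 1 ∨ x - b = 3 ∨ x - b = 9

instance (b x : ZMod 13) : Decidable (inB b x) := by unfold inB; infer_instance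

theorem block_unique_aux : ∀ b i : ZMod 13, inB b i → ∀ j, inB b j → i ≠ j → ∀ c, inB c i → inB c j →
    b = c := by decide +kernel

theorem block_unique (i j b c : ZMod 13) (h : i ≠ j) (h1 : inB b i) (h2 : inB b j) (h3 : inB c i)
    (h4 : inB c j) : b = c :=
  block_unique_aux b i h1 j h2 h c h3 h4

theorem point_unique_aux : ∀ b x : ZMod 13, inB b x → ∀ c, inB c x → b ≠ c → ∀ y, inB b y → inB c y →
    x = y := by decide +kernel

theorem point_unique (b c x y : ZMod 13) (h : b ≠ c) (h1 : inB b x) (h2 : inB c x) (h3 : inB b y)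
    (h4 : inB c y) : x = y :=
  point_unique_aux b x h1 c h2 h y h3 h4

/-- The automorphism group of the plane. -/
def aut : Subgroup (Equiv.Perm (ZMod 13)) where
  carrier := {h | (∀ b, ∃ b', ∀ x, inB b x → inB b' (h x)) ∧
    (∀ b, ∃ b', ∀ x, inB b x → inB b' (h.symm x))}
  one_mem' := ⟨fun b => ⟨b, fun _ h => h⟩, fun b => ⟨b, fun _ h => h⟩⟩
  mul_mem' := by
    rintro g h ⟨g1, g2⟩ ⟨h1, h2⟩
    refine ⟨fun b => ?_, fun b => ?_⟩
    · obtain ⟨c, hc⟩ := h1 b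
      obtain ⟨d, hd⟩ := g1 c
      exact ⟨d, fun x hx => hd _ (hc x hx)⟩
    · obtain ⟨c, hc⟩ := g2 b
      obtain ⟨d, hd⟩ := h2 c
      exact ⟨d, fun x hx => hd _ (hc x hx)⟩
  inv_mem' := by
    rintro g ⟨g1, g2⟩
    exact ⟨g2, g1⟩

theorem fix_step {h : Equiv.Perm (ZMod 13)} (hh : h ∈ aut) (i j k l p b c : ZMod 13)
    (hd : i ≠ j ∧ k ≠ l ∧ b ≠ c ∧ inB b i ∧ inB b j ∧ inB c k ∧ inB c l ∧ inB b p ∧ inB c p)
    (hi : h i = i) (hj : h j = j) (hk : h k = k) (hl : h l = l) : h p = p := by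
  obtain ⟨hij, hkl, hbc, bi, bj, ck, cl, bp, cp⟩ := hd
  obtain ⟨b', hb'⟩ := hh.1 b
  obtain ⟨c', hc'⟩ := hh.1 c
  obtain rfl := block_unique i j b b' hij bi bj (hi ▸ hb' i bi) (hj ▸ hb' j bj)
  obtain rfl := block_unique k l c c' hkl ck cl (hk ▸ hc' k ck) (hl ▸ hc' l cl)
  exact point_unique b c (h p) p hbc (hb' p bp) (hc' p cp) bp cp

/-- Three points of a block. -/
def col (i j k : ZMod 13) : Prop := ∃ b, inB b i ∧ inB b j ∧ inB b k

instance (i j k : ZMod 13) : Decidable (col i j k) := by unfold col; infer_instance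

/-- Triples completing the origin to a frame. -/
def frames : Finset (ZMod 13 × ZMod 13 × ZMod 13) :=
  Finset.univ.filter fun q => q.1 ≠ 0 ∧ q.2.1 ≠ 0 ∧ q.2.1 ≠ q.1 ∧ q.2.2 ≠ 0 ∧ q.2.2 ≠ q.1 ∧
    q.2.2 ≠ q.2.1 ∧ ¬ col 0 q.1 q.2.1 ∧ ¬ col 0 q.1 q.2.2 ∧ ¬ col 0 q.2.1 q.2.2 ∧
    ¬ col q.1 q.2.1 q.2.2

theorem card_frames : frames.card = 432 := by decide +kernel

theorem base_frame : ¬ col 0 1 2 ∧ ¬ col 0 1 5 ∧ ¬ col 0 2 5 ∧ ¬ col 1 2 5 := by decide +kernel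

theorem fix_all {h : Equiv.Perm (ZMod 13)} (hh : h ∈ aut) (h0 : h 0 = 0) (h1 : h 1 = 1)
    (h2 : h 2 = 2) (h5 : h 5 = 5) : h = 1 := by
  have e : ∀ i j k l p : ZMod 13, (∃ b c, i ≠ j ∧ k ≠ l ∧ b ≠ c ∧ inB b i ∧ inB b j ∧ inB c k ∧
      inB c l ∧ inB b p ∧ inB c p) → h i = i → h j = j → h k = k → h l = l → h p = p := by
    rintro i j k l p ⟨b, c, hd⟩
    exact fix_step hh i j k l p b c hd
  have h3 := e 0 1 2 5 3 (by decide +kernel) h0 h1 h2 h5
  have h8 := e 0 2 1 5 8 (by decide +kernel) h0 h2 h1 h5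
  have h4 := e 0 5 1 2 4 (by decide +kernel) h0 h5 h1 h2
  have h9 := e 0 1 4 8 9 (by decide +kernel) h0 h1 h4 h8
  have h12 := e 0 2 3 4 12 (by decide +kernel) h0 h2 h3 h4
  have h7 := e 0 4 1 12 7 (by decide +kernel) h0 h4 h1 h12
  have h10 := e 1 2 3 7 10 (by decide +kernel) h1 h2 h3 h7
  have h6 := e 0 10 1 5 6 (by decide +kernel) h0 h10 h1 h5
  have h11 := e 0 6 1 7 11 (by decide +kernel) h0 h6 h1 h7
  ext x
  have hx : ∀ y : ZMod 13, y = 0 ∨ y = 1 ∨ y = 2 ∨ y = 3 ∨ y = 4 ∨ y = 5 ∨ y = 6 ∨ y = 7 ∨ y = 8 ∨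
      y = 9 ∨ y = 10 ∨ y = 11 ∨ y = 12 := by decide +kernel
  rcases hx x with rfl | rfl | rfl | rfl | rfl | rfl | rfl | rfl | rfl | rfl | rfl | rfl | rfl <;>
    simp [*]

theorem col_map {h : Equiv.Perm (ZMod 13)} (hh : h ∈ aut) {i j k : ZMod 13}
    (hc : col (h i) (h j) (h k)) : col i j k := by
  obtain ⟨b, hi, hj, hk⟩ := hc
  obtain ⟨b', hb'⟩ := hh.2 b
  exact ⟨b', by simpa using hb' _ hi, by simpa using hb' _ hj, by simpa using hb' _ hk⟩

theorem col_sub {i j k a : ZMod 13} (hc : col (i - a) (j - a) (k - a)) : col i j k := by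
  obtain ⟨b, hi, hj, hk⟩ := hc
  refine ⟨b + a, ?_, ?_, ?_⟩ <;> unfold inB at * <;> rw [← sub_sub, sub_right_comm] <;> assumption

/-- The automorphism group has order at most `5616`. -/
theorem card_aut_le : Nat.card aut ≤ 5616 := by
  classical
  let f : aut → ZMod 13 × frames := fun h => (h.1 0, ⟨(h.1 1 - h.1 0, h.1 2 - h.1 0, h.1 5 - h.1 0), by
    have ne : ∀ i j : ZMod 13, i ≠ j → h.1 i - h.1 0 ≠ h.1 j - h.1 0 := fun i j hij e =>
      hij (h.1.injective (sub_left_inj.mp e))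
    have ne0 : ∀ i : ZMod 13, i ≠ 0 → h.1 i - h.1 0 ≠ 0 := fun i hi e =>
      hi (h.1.injective (sub_eq_zero.mp e))
    have nc : ∀ i j k : ZMod 13, ¬ col i j k →
        ¬ col (h.1 i - h.1 0) (h.1 j - h.1 0) (h.1 k - h.1 0) := fun i j k hn hc =>
      hn (col_map h.2 (col_sub hc))
    obtain ⟨c1, c2, c3, c4⟩ := base_frame
    have s1 := nc _ _ _ c1
    have s2 := nc _ _ _ c2
    have s3 := nc _ _ _ c3
    rw [sub_self] at s1 s2 s3
    exact Finset.mem_filter.mpr ⟨Finset.mem_univ _, ne0 1 (by decide), ne0 2 (by decide),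
      ne 2 1 (by decide), ne0 5 (by decide), ne 5 1 (by decide), ne 5 2 (by decide), s1, s2, s3,
      nc _ _ _ c4⟩⟩)
  have hf : Function.Injective f := by
    intro g h e
    simp only [f, Prod.mk.injEq, Subtype.mk.injEq] at e
    obtain ⟨e0, e1, e2, e5⟩ := e
    rw [e0, sub_left_inj] at e1 e2 e5
    have k : (h⁻¹ * g : aut) = 1 := Subtype.ext (fix_all (h⁻¹ * g).2
      (by simp [e0]) (by simp [e1]) (by simp [e2]) (by simp [e5]))
    exact (inv_mul_eq_one.mp k).symm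
  refine (Nat.card_le_card_of_injective f hf).trans ?_
  rw [Nat.card_prod, Nat.card_zmod, Nat.card_eq_fintype_card, Fintype.card_coe, card_frames]

/-- A quadruple with distinct differences, containing `0` and `1`, is an image of the difference set. -/
theorem normal_form : ∀ x y : ZMod 13, [0, 1, x, y].Nodup →
    (∀ p ∈ [0, 1, x, y], ∀ q ∈ [0, 1, x, y], p ≠ q → ∀ r ∈ [0, 1, x, y], ∀ s ∈ [0, 1, x, y],
      p - q = r - s → p = r) →
      ∃ a b : ZMod 13, a ≠ 0 ∧ ∀ k, a * k + b ∈ [0, 1, x, y] ↔ inB 0 k := by decide +kernel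

end Cfsg.Agent.H30.PlaneThirteen
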