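import Cfsg.Agent.H30.GLTwoThreeParabolic
import Cfsg.Agent.H30.PlaneThirteen

/-!
# Groups of order 5616 with an involution centralizer GL(2,3) are isomorphic
-/

set_option autoImplicit false
set_option synthInstance.maxSize 4096
set_option maxHeartbeats 1000000

open scoped Pointwise

namespace Cfsg.Agent.H30.GLTwoThree

namespace Parabolic

variable {G : Type*} [Group G] [Fintype G] (P : Parabolic G)

/-- The point fixed by the parabolic subgroup. -/
def base : G ⧸ P.N := ((1 : G) : G ⧸ P.N)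

/-- The conjugate of the elementary subgroup attached to a point. -/
noncomputable def pointGroup (p : G ⧸ P.N) : Subgroup G := P.E.map (MulAut.conj p.out).toMonoidHom

omit [Fintype G] in
theorem mem_pointGroup (g x : G) : x ∈ P.pointGroup (g : G ⧸ P.N) ↔ g⁻¹ * x * g ∈ P.E := by
  obtain ⟨n, hn⟩ := QuotientGroup.mk_out_eq_mul P.N g
  constructor
  · rintro ⟨a, ha, rfl⟩
    show g⁻¹ * ((g : G ⧸ P.N).out * a * (g : G ⧸ P.N).out⁻¹) * g ∈ P.E
    rw [hn, show g⁻¹ * (g * n * a * (g * (n : G))⁻¹) * g = n * a * (n : G)⁻¹ by group]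
    exact P.norm n n.2 a ha
  · intro h
    refine ⟨(n : G)⁻¹ * (g⁻¹ * x * g) * n, ?_, ?_⟩
    · simpa using P.norm (n : G)⁻¹ (inv_mem n.2) _ h
    · show (g : G ⧸ P.N).out * ((n : G)⁻¹ * (g⁻¹ * x * g) * n) * (g : G ⧸ P.N).out⁻¹ = x
      rw [hn]
      group

omit [Fintype G] in
theorem smul_eq_iff (g x : G) : x • (g : G ⧸ P.N) = (g : G ⧸ P.N) ↔ g⁻¹ * x * g ∈ P.N := by
  rw [MulAction.Quotient.smul_coe, smul_eq_mul, eq_comm, QuotientGroup.eq, mul_assoc]

omit [Fintype G] in
theorem smul_self {p : G ⧸ P.N} {x : G} (hx : x ∈ P.pointGroup p) : x • p = p := by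
  induction p using QuotientGroup.induction_on with
  | H g => exact (P.smul_eq_iff g x).mpr (P.le ((P.mem_pointGroup g x).mp hx))

omit [Fintype G] in
theorem conj_mem {p : G ⧸ P.N} {x : G} (hx : x ∈ P.pointGroup p) (h : G) :
    h * x * h⁻¹ ∈ P.pointGroup (h • p) := by
  induction p using QuotientGroup.induction_on with
  | H g =>
    rw [MulAction.Quotient.smul_coe, smul_eq_mul, P.mem_pointGroup]
    have h1 := (P.mem_pointGroup g x).mp hx
    rwa [show (h * g)⁻¹ * (h * x * h⁻¹) * (h * g) = g⁻¹ * x * g by group]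

omit [Fintype G] in
theorem pow_three {p : G ⧸ P.N} {x : G} (hx : x ∈ P.pointGroup p) : x ^ 3 = 1 := by
  obtain ⟨a, ha, rfl⟩ := hx
  rw [← map_pow, P.cube a ha, map_one]

omit [Fintype G] in
theorem fix_base {x : G} (hx : x ∈ P.E) : x • P.base = P.base :=
  (P.smul_eq_iff 1 x).mpr (by simpa using P.le hx)

include P in
theorem only_base (hcard : Nat.card G = 5616) {g : G}
    (h : ∀ x ∈ P.E, x • (g : G ⧸ P.N) = (g : G ⧸ P.N)) : g ∈ P.N := by
  have : Fact (Nat.Prime 3) := ⟨Nat.prime_three⟩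
  set K := P.E.map (MulAut.conj g⁻¹).toMonoidHom with hK
  have hKN : K ≤ P.N := by
    rintro _ ⟨x, hx, rfl⟩
    show g⁻¹ * x * g⁻¹⁻¹ ∈ P.N
    rw [inv_inv]
    exact (P.smul_eq_iff g x).mp (h x hx)
  have hK9 : Nat.card K = 9 := by
    rw [hK, ← Nat.card_congr (P.E.equivMapOfInjective _ (MulAut.conj g⁻¹).injective).toEquiv, P.card_E]
  by_cases hd : Disjoint K P.E
  · exfalso
    have hp : IsPGroup 3 ((K ⊔ P.E : Subgroup G)) :=
      (IsPGroup.of_card (n := 2) (by rw [hK9]; norm_num)).to_sup_of_normal_right'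
        (IsPGroup.of_card (n := 2) (by rw [P.card_E]; norm_num)) fun k hk => by
          have hkN := hKN hk
          rw [Subgroup.mem_normalizer_iff]
          refine fun x => ⟨P.norm k hkN x, fun hx => ?_⟩
          have h1 := P.norm k⁻¹ (inv_mem hkN) _ hx
          rwa [show k⁻¹ * (k * x * k⁻¹) * k⁻¹⁻¹ = x by group] at h1
    obtain ⟨j, hj⟩ := IsPGroup.iff_card.mp hp
    have hdvd := Subgroup.card_dvd_of_le (sup_le hKN P.le)
    have hN := P.N.card_mul_index
    rw [P.index_N, hcard] at hN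
    rw [hj, show Nat.card P.N = 432 by omega] at hdvd
    have h81 : 81 ≤ 3 ^ j := by
      rw [← hj]
      have hinj : Function.Injective fun q : K × P.E =>
          (⟨q.1.1 * q.2.1, mul_mem (Subgroup.mem_sup_left q.1.2) (Subgroup.mem_sup_right q.2.2)⟩ :
            (K ⊔ P.E : Subgroup G)) := fun a b hab =>
        Subgroup.mul_injective_of_disjoint hd (congrArg Subtype.val hab)
      have h := Nat.card_le_card_of_injective _ hinj
      rwa [Nat.card_prod, hK9, P.card_E] at h
    have hj4 : 4 ≤ j := by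
      by_contra hlt
      have : 3 ^ j ≤ 3 ^ 3 := Nat.pow_le_pow_right (by norm_num) (by omega)
      omega
    have := (pow_dvd_pow 3 hj4).trans hdvd
    norm_num at this
  · obtain ⟨y, hy, hy1⟩ := Subgroup.ne_bot_iff_exists_ne_one.mp (fun hb => hd (disjoint_iff.mpr hb))
      |> fun ⟨⟨y, hy⟩, hne⟩ => (⟨y, hy, fun e => hne (Subtype.ext e)⟩ : ∃ y, y ∈ K ⊓ P.E ∧ y ≠ 1)
    obtain ⟨⟨x, hx, hxy⟩, hyE⟩ := hy
    have hxy' : g⁻¹ * x * g⁻¹⁻¹ = y := hxy
    have hx1 : x ≠ 1 := fun e => hy1 (by rw [← hxy', e]; group)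
    simpa using inv_mem (P.ti g⁻¹ x hx hx1 (hxy' ▸ hyE))

open Classical in
/-- Fixed points. -/
noncomputable def fixSet (x : G) : Finset (G ⧸ P.N) :=
  let _ : Fintype (G ⧸ P.N) := Fintype.ofFinite _
  Finset.univ.filter fun p => x • p = p

theorem mem_fixSet {x : G} {p : G ⧸ P.N} : p ∈ P.fixSet x ↔ x • p = p := by
  simp [fixSet]

theorem base_facts (hcard : Nat.card G = 5616) :
    (∀ x ∈ P.E, x ≠ 1 → (P.fixSet x).card = 4) ∧
    ∀ p : G ⧸ P.N, p ≠ P.base → Nat.card {x : G // x ∈ P.E ∧ x • p = p} = 3 := by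
  classical
  have : Fact (Nat.Prime 3) := ⟨Nat.prime_three⟩
  let _ : Fintype (G ⧸ P.N) := Fintype.ofFinite _
  have hX : Fintype.card (G ⧸ P.N) = 13 := by
    rw [← Nat.card_eq_fintype_card, ← P.index_N]
    rfl
  let Es : Finset G := (Finset.univ.filter fun x => x ∈ P.E).erase 1
  let Xs : Finset (G ⧸ P.N) := Finset.univ.erase P.base
  have hEs : Es.card = 8 := by
    rw [Finset.card_erase_of_mem (by simp [one_mem]), ← Fintype.card_subtype, ← Nat.card_eq_fintype_card]
    exact (congrArg (· - 1) P.card_E).trans rfl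
  have hXs : Xs.card = 12 := by
    rw [Finset.card_erase_of_mem (Finset.mem_univ _), Finset.card_univ, hX]
  -- the stabilisers
  let st : (G ⧸ P.N) → Finset G := fun p => Es.filter fun x => x • p = p
  have hst : ∀ p, Nat.card {x : G // x ∈ P.E ∧ x • p = p} = (st p).card + 1 := by
    intro p
    have h : (Finset.univ.filter fun x : G => x ∈ P.E ∧ x • p = p) = insert 1 (st p) := by
      ext x
      by_cases hx : x = 1
      · simp [hx, one_mem]
      · simp [st, Es, hx]
    rw [Nat.card_eq_fintype_card, Fintype.card_subtype, h, Finset.card_insert_of_notMem (by simp [st, Es])]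
  have hst3 : ∀ p ∈ Xs, (st p).card = 0 ∨ (st p).card = 2 := by
    intro p hp
    let H : Subgroup G := P.E ⊓ MulAction.stabilizer G p
    have hH : Nat.card H = (st p).card + 1 := by
      rw [← hst p]
      exact Nat.card_congr (Equiv.subtypeEquivRight fun x => Iff.rfl)
    have hd : Nat.card H ∣ 3 ^ 2 := (Subgroup.card_dvd_of_le inf_le_left).trans (by rw [P.card_E]; norm_num)
    obtain ⟨j, hj, hj'⟩ := (Nat.dvd_prime_pow Nat.prime_three).mp hd
    have hj2 : j ≠ 2 := by
      rintro rfl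
      have hEq : H = P.E := Subgroup.eq_of_le_of_card_ge inf_le_left (by rw [hj', P.card_E]; norm_num)
      induction p using QuotientGroup.induction_on with
      | H g =>
        have hg := P.only_base hcard (g := g) fun x hx => ((hEq ▸ hx : x ∈ H)).2
        exact Finset.ne_of_mem_erase hp (QuotientGroup.eq.mpr (by simpa using hg))
    interval_cases j
    · left; omega
    · right; omega
    · exact absurd rfl hj2
  -- transport by the normalizer
  have hfc : ∀ x ∈ Es, ∀ y ∈ Es, (P.fixSet x).card = (P.fixSet y).card := by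
    intro x hx y hy
    simp only [Es, Finset.mem_erase, Finset.mem_filter, Finset.mem_univ, true_and] at hx hy
    obtain ⟨n, -, hn⟩ := P.trans x hx.2 y hy.2 hx.1 hy.1
    refine Finset.card_bij (fun p _ => n • p) (fun p hp => ?_) (fun a _ b _ h => smul_left_cancel n h)
      (fun q hq => ⟨n⁻¹ • q, ?_, smul_inv_smul n q⟩)
    · rw [mem_fixSet] at hp ⊢
      rw [← hn, mul_smul, mul_smul, inv_smul_smul, hp]
    · rw [mem_fixSet] at hq ⊢
      rw [← hn, mul_smul, mul_smul] at hq
      exact (MulAction.injective n (hq.trans (smul_inv_smul n q).symm))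
  -- double counting
  have hfix1 : ∀ x ∈ Es, (P.fixSet x).card = (Xs.filter fun p => x • p = p).card + 1 := by
    intro x hx
    simp only [Es, Finset.mem_erase, Finset.mem_filter, Finset.mem_univ, true_and] at hx
    have h : P.fixSet x = insert P.base (Xs.filter fun p => x • p = p) := by
      ext p
      by_cases hp : p = P.base
      · simp [hp, mem_fixSet, P.fix_base hx.2]
      · simp [mem_fixSet, Xs, hp]
    rw [h, Finset.card_insert_of_notMem (by simp [Xs])]
  obtain ⟨x0, hx0⟩ : Es.Nonempty := Finset.card_pos.mp (by omega)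
  set f := (Xs.filter fun p => x0 • p = p).card with hf
  have hsum : 8 * f = ∑ p ∈ Xs, (st p).card := by
    refine Eq.trans ?_ (Finset.sum_card_bipartiteAbove_eq_sum_card_bipartiteBelow
      (fun x p => x • p = p) (s := Es) (t := Xs))
    rw [Finset.sum_congr rfl fun x hx => (show (Finset.bipartiteAbove (fun x p => x • p = p) Xs x).card = f from by
      have h1 := hfix1 x hx
      have h2 := hfix1 x0 hx0
      have h3 := hfc x hx x0 hx0
      simp only [Finset.bipartiteAbove]
      omega), Finset.sum_const, hEs, smul_eq_mul]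
  have hall : ∀ p ∈ Xs, (st p).card = 2 := by
    by_contra h
    simp only [not_forall] at h
    obtain ⟨p, hp, hp2⟩ := h
    have hp0 := (hst3 p hp).resolve_right hp2
    -- a free orbit of nine points
    set O : Finset (G ⧸ P.N) := Finset.univ.image fun x : P.E => (x : G) • p with hO
    have hfree : ∀ x ∈ P.E, x • p = p → x = 1 := fun x hx hxp => by
      by_contra h1
      have : x ∈ st p := by simp [st, Es, hx, hxp, h1]
      rw [Finset.card_eq_zero.mp hp0] at this
      simp at this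
    have hO9 : O.card = 9 := by
      rw [hO, Finset.card_image_of_injective, Finset.card_univ, ← Nat.card_eq_fintype_card, P.card_E]
      intro a b hab
      refine Subtype.ext (inv_mul_eq_one.mp (hfree _ (mul_mem (inv_mem a.2) b.2) ?_))
      rw [mul_smul, ← show (a : G) • p = (b : G) • p from hab, inv_smul_smul]
    have hcomm := IsPGroup.isMulCommutative_of_card_eq_prime_sq (show Nat.card P.E = 3 ^ 2 by rw [P.card_E]; norm_num)
    have hOX : O ⊆ Xs := by
      intro q hq
      obtain ⟨a, -, rfl⟩ := Finset.mem_image.mp hq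
      refine Finset.mem_erase.mpr ⟨fun h => Finset.ne_of_mem_erase hp ?_, Finset.mem_univ _⟩
      rw [← inv_smul_smul (a : G) p, h, P.fix_base (inv_mem a.2)]
    have hO0 : ∀ q ∈ O, (st q).card = 0 := by
      intro q hq
      obtain ⟨a, -, rfl⟩ := Finset.mem_image.mp hq
      refine Finset.card_eq_zero.mpr (Finset.eq_empty_of_forall_notMem fun x hx => ?_)
      simp only [st, Es, Finset.mem_filter, Finset.mem_erase, Finset.mem_univ, true_and] at hx
      refine hx.1.1 (hfree x hx.1.2 (MulAction.injective (a : G) ?_))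
      show (a : G) • x • p = (a : G) • p
      rw [← mul_smul, show (a : G) * x = x * a from congrArg Subtype.val (hcomm.is_comm.comm a ⟨x, hx.1.2⟩),
        mul_smul, hx.2]
    have hle : ∑ q ∈ Xs, (st q).card ≤ 6 := by
      rw [← Finset.sum_sdiff hOX, Finset.sum_eq_zero (s := O) hO0, add_zero]
      refine (Finset.sum_le_card_nsmul _ _ 2 fun q hq => ?_).trans ?_
      · rcases hst3 q (Finset.sdiff_subset hq) with h | h <;> omega
      · rw [Finset.card_sdiff_of_subset hOX, hXs, hO9]; norm_num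
    have hf0 : f = 0 := by omega
    have hall0 : ∀ q ∈ Xs, (st q).card = 0 := by
      rw [hf0, mul_zero] at hsum
      exact fun q hq => Finset.sum_eq_zero_iff.mp hsum.symm q hq
    obtain ⟨q, hqX, hqO⟩ := Finset.exists_mem_notMem_of_card_lt_card (show O.card < Xs.card by omega)
    set O' : Finset (G ⧸ P.N) := Finset.univ.image fun x : P.E => (x : G) • q with hO'
    have hfree' : ∀ x ∈ P.E, x • q = q → x = 1 := fun x hx hxp => by
      by_contra h1
      have : x ∈ st q := by simp [st, Es, hx, hxp, h1]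
      rw [Finset.card_eq_zero.mp (hall0 q hqX)] at this
      simp at this
    have hO'9 : O'.card = 9 := by
      rw [hO', Finset.card_image_of_injective, Finset.card_univ, ← Nat.card_eq_fintype_card, P.card_E]
      intro a b hab
      refine Subtype.ext (inv_mul_eq_one.mp (hfree' _ (mul_mem (inv_mem a.2) b.2) ?_))
      rw [mul_smul, ← show (a : G) • q = (b : G) • q from hab, inv_smul_smul]
    have hdisj : Disjoint O O' := Finset.disjoint_left.mpr fun r hr hr' => by
      obtain ⟨a, -, rfl⟩ := Finset.mem_image.mp hr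
      obtain ⟨b, -, hb⟩ := Finset.mem_image.mp hr'
      refine hqO (Finset.mem_image.mpr ⟨b⁻¹ * a, Finset.mem_univ _, ?_⟩)
      rw [Subgroup.coe_mul, Subgroup.coe_inv, mul_smul, ← hb, inv_smul_smul]
    have h18 := Finset.card_le_univ (O ∪ O')
    rw [Finset.card_union_of_disjoint hdisj, hO9, hO'9, hX] at h18
    omega
  refine ⟨fun x hx hx1 => ?_, fun p hp => ?_⟩
  · have hxE : x ∈ Es := by simp [Es, hx, hx1]
    have h1 := hfix1 x0 hx0
    rw [Finset.sum_congr rfl hall, Finset.sum_const, hXs, smul_eq_mul] at hsum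
    have h2 := hfc x hxE x0 hx0
    omega
  · rw [hst p, hall p (by simp [Xs, hp])]

variable (hcard : Nat.card G = 5616)

include hcard in
theorem card_fixSet {A : G ⧸ P.N} {x : G} (hx : x ∈ P.pointGroup A) (hx1 : x ≠ 1) :
    (P.fixSet x).card = 4 := by
  induction A using QuotientGroup.induction_on with
  | H g =>
    have h := (P.mem_pointGroup g x).mp hx
    rw [← (P.base_facts hcard).1 _ h (fun e => hx1 (by
      rw [show x = g * (g⁻¹ * x * g) * g⁻¹ by group, e]; group))]
    refine Finset.card_bij (fun p _ => g⁻¹ • p) (fun p hp => ?_) (fun a _ b _ e => smul_left_cancel g⁻¹ e)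
      (fun q hq => ⟨g • q, ?_, inv_smul_smul g q⟩)
    · rw [mem_fixSet] at hp ⊢
      rw [mul_smul, mul_smul, smul_inv_smul, hp]
    · rw [mem_fixSet] at hq ⊢
      rw [mul_smul, mul_smul] at hq
      calc x • g • q = g • (g⁻¹ • x • g • q) := (smul_inv_smul g _).symm
        _ = g • q := by rw [hq]

include hcard in
theorem card_stab {A B : G ⧸ P.N} (hAB : A ≠ B) :
    Nat.card {x : G // x ∈ P.pointGroup A ∧ x • B = B} = 3 := by
  induction A using QuotientGroup.induction_on with
  | H g =>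
    rw [← (P.base_facts hcard).2 (g⁻¹ • B) fun e => hAB (by
      rw [← smul_inv_smul g B, e, base, MulAction.Quotient.smul_coe, smul_eq_mul, mul_one])]
    refine Nat.card_congr
      { toFun := fun x => ⟨g⁻¹ * x.1 * g, (P.mem_pointGroup g _).mp x.2.1, by
          rw [mul_smul, mul_smul, smul_inv_smul, x.2.2]⟩
        invFun := fun y => ⟨g * y.1 * g⁻¹, (P.mem_pointGroup g _).mpr (by
          rw [show g⁻¹ * (g * y.1 * g⁻¹) * g = y.1 by group]; exact y.2.1), by
          rw [mul_smul, mul_smul, y.2.2, smul_inv_smul]⟩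
        left_inv := fun x => Subtype.ext (show g * (g⁻¹ * x.1 * g) * g⁻¹ = x.1 by group)
        right_inv := fun y => Subtype.ext (show g⁻¹ * (g * y.1 * g⁻¹) * g = y.1 by group) }

include hcard in
theorem exists_fix {A B : G ⧸ P.N} (hAB : A ≠ B) :
    ∃ x ∈ P.pointGroup A, x ≠ 1 ∧ x • B = B := by
  have h := P.card_stab hcard hAB
  have : Nontrivial {x : G // x ∈ P.pointGroup A ∧ x • B = B} :=
    Finite.one_lt_card_iff_nontrivial.mp (by omega)
  obtain ⟨x, hx⟩ := exists_ne (⟨1, one_mem _, one_smul G B⟩ : {x : G // x ∈ P.pointGroup A ∧ x • B = B})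
  exact ⟨x.1, x.2.1, fun e => hx (Subtype.ext e), x.2.2⟩

include hcard in
/-- The generator of a stabilizer. -/
theorem stab_cases {A B : G ⧸ P.N} (hAB : A ≠ B) {x y : G} (hx : x ∈ P.pointGroup A) (hx1 : x ≠ 1)
    (hxB : x • B = B) (hy : y ∈ P.pointGroup A) (hyB : y • B = B) : y = 1 ∨ y = x ∨ y = x ^ 2 := by
  classical
  have hc := P.card_stab hcard hAB
  rw [Nat.card_eq_fintype_card, Fintype.card_subtype] at hc
  have hx3 := P.pow_three hx
  have hx2 : x ^ 2 ≠ 1 := fun h => hx1 (by rw [← hx3, pow_succ, h, one_mul])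
  have hx12 : x ≠ x ^ 2 := fun h => hx1 (by rwa [pow_two, left_eq_mul] at h)
  have heq : ({1, x, x ^ 2} : Finset G) = Finset.univ.filter fun a => a ∈ P.pointGroup A ∧ a • B = B := by
    refine Finset.eq_of_subset_of_card_le (fun a ha => ?_) (by
      rw [hc, Finset.card_eq_three.mpr ⟨1, x, x ^ 2, hx1.symm, hx2.symm, hx12, rfl⟩])
    simp only [Finset.mem_insert, Finset.mem_singleton] at ha
    rw [Finset.mem_filter]
    refine ⟨Finset.mem_univ _, ?_⟩
    rcases ha with rfl | rfl | rfl
    · exact ⟨one_mem _, one_smul G B⟩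
    · exact ⟨hx, hxB⟩
    · exact ⟨pow_mem hx 2, by rw [pow_two, mul_smul, hxB, hxB]⟩
  have hy' : y ∈ ({1, x, x ^ 2} : Finset G) := by
    rw [heq]; exact Finset.mem_filter.mpr ⟨Finset.mem_univ _, hy, hyB⟩
  simpa using hy'

theorem fixSet_sq {x : G} (hx : x ^ 3 = 1) : P.fixSet (x ^ 2) = P.fixSet x := by
  ext p
  rw [mem_fixSet, mem_fixSet]
  constructor
  · intro h
    calc x • p = (x ^ 2 * x ^ 2) • p := by rw [← pow_add, show 2 + 2 = 3 + 1 from rfl, pow_succ, hx, one_mul]
      _ = p := by rw [mul_smul, h, h]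
  · intro h
    rw [pow_two, mul_smul, h, h]

include hcard in
theorem fixSet_eq {A B : G ⧸ P.N} (hAB : A ≠ B) {x y : G} (hx : x ∈ P.pointGroup A) (hx1 : x ≠ 1)
    (hxB : x • B = B) (hy : y ∈ P.pointGroup A) (hy1 : y ≠ 1) (hyB : y • B = B) :
    P.fixSet y = P.fixSet x := by
  rcases P.stab_cases hcard hAB hx hx1 hxB hy hyB with h | h | h
  · exact absurd h hy1
  · rw [h]
  · rw [h, P.fixSet_sq (P.pow_three hx)]

include hcard in
theorem fixSet_symm {A B : G ⧸ P.N} (hAB : A ≠ B) {x y : G} (hx : x ∈ P.pointGroup A) (hx1 : x ≠ 1)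
    (hxB : x • B = B) (hy : y ∈ P.pointGroup B) (hy1 : y ≠ 1) (hyA : y • A = A) :
    P.fixSet y = P.fixSet x := by
  classical
  have hxA := P.smul_self hx
  have hyB := P.smul_self hy
  have hx3 := P.pow_three hx
  have hy3 := P.pow_three hy
  have hm : x * y * x⁻¹ ∈ P.pointGroup B := by
    have h := P.conj_mem hy x
    rwa [hxB] at h
  have hmA : (x * y * x⁻¹) • A = A := by
    rw [mul_smul, mul_smul, inv_smul_eq_iff.mpr hxA.symm, hyA, hxA]
  have hcomm : Commute x y := by
    rcases P.stab_cases hcard hAB.symm hy hy1 hyA hm hmA with h | h | h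
    · exact absurd (by rwa [mul_inv_eq_one, mul_eq_left] at h) hy1
    · exact mul_inv_eq_iff_eq_mul.mp h
    · exfalso
      have h8 : y = y ^ 8 := by
        have e1 : x * y ^ 2 * x⁻¹ = y ^ 4 := by rw [← conj_pow, h, ← pow_mul]
        have e2 : x * y ^ 4 * x⁻¹ = y ^ 8 := by rw [← conj_pow, h, ← pow_mul]
        calc y = x ^ 3 * y * (x ^ 3)⁻¹ := by rw [hx3]; group
          _ = x * (x * (x * y * x⁻¹) * x⁻¹) * x⁻¹ := by simp [pow_succ, mul_assoc]
          _ = y ^ 8 := by rw [h, e1, e2]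
      rw [pow_eq_pow_mod 8 hy3] at h8
      exact hy1 (by
        have : y = y ^ 2 := h8
        rwa [pow_two, left_eq_mul] at this)
  have hsub : P.fixSet x ⊆ P.fixSet y := by
    intro C hC
    rw [mem_fixSet] at hC ⊢
    by_contra hne
    set C1 := y • C with hC1
    set C2 := y • C1 with hC2
    have hmem : ∀ q : G ⧸ P.N, x • q = q → x • (y • q) = y • q := fun q hq => by
      rw [← mul_smul, hcomm.eq, mul_smul, hq]
    have h31 : y • C2 = C := by rw [hC2, hC1, ← mul_smul, ← mul_smul, ← pow_three', hy3, one_smul]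
    have c12 : C1 ≠ C2 := fun h => hne (smul_left_cancel y (show y • C1 = y • C from (hC2.symm.trans h.symm).trans hC1))
    have c02 : C2 ≠ C := fun h => by
      rw [h] at h31
      exact hne h31
    have nf : ∀ q : G ⧸ P.N, y • q = q → C ≠ q ∧ C1 ≠ q ∧ C2 ≠ q := fun q hq =>
      ⟨fun h => hne (by rw [hC1, h, hq]), fun h => hne (smul_left_cancel y (show y • C1 = y • C by rw [h, hq, ← h])),
        fun h => c02 (by rw [← h31, h, hq])⟩
    obtain ⟨a0, a1, a2⟩ := nf A hyA
    obtain ⟨b0, b1, b2⟩ := nf B hyB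
    have hsub : ({A, B, C, C1, C2} : Finset (G ⧸ P.N)) ⊆ P.fixSet x := by
      intro q hq
      simp only [Finset.mem_insert, Finset.mem_singleton] at hq
      rw [mem_fixSet]
      rcases hq with rfl | rfl | rfl | rfl | rfl
      exacts [hxA, hxB, hC, hmem _ hC, hmem _ (hmem _ hC)]
    have h5 := Finset.card_le_card hsub
    rw [P.card_fixSet hcard hx hx1,
      Finset.card_insert_of_notMem (by simp [hAB, a0.symm, a1.symm, a2.symm]),
      Finset.card_insert_of_notMem (by simp [b0.symm, b1.symm, b2.symm]),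
      Finset.card_insert_of_notMem (by simp [Ne.symm hne, c02.symm]),
      Finset.card_pair c12] at h5
    omega
  exact (Finset.eq_of_subset_of_card_le hsub
    (by rw [P.card_fixSet hcard hx hx1, P.card_fixSet hcard hy hy1])).symm

/-- The lines. -/
def IsLine (L : Finset (G ⧸ P.N)) : Prop := ∃ A x, x ∈ P.pointGroup A ∧ x ≠ 1 ∧ P.fixSet x = L

include hcard in
theorem line_key {L : Finset (G ⧸ P.N)} (hL : P.IsLine L) {A B : G ⧸ P.N} (hA : A ∈ L) (hB : B ∈ L)
    (hAB : A ≠ B) {x : G} (hx : x ∈ P.pointGroup A) (hx1 : x ≠ 1) (hxB : x • B = B) :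
    P.fixSet x = L := by
  obtain ⟨D, y, hy, hy1, rfl⟩ := hL
  rw [mem_fixSet] at hA hB
  by_cases hDA : D = A
  · subst hDA
    exact P.fixSet_eq hcard hAB hy hy1 hB hx hx1 hxB
  · obtain ⟨w, hw, hw1, hwD⟩ := P.exists_fix hcard (Ne.symm hDA)
    have h1 : P.fixSet w = P.fixSet y := P.fixSet_symm hcard hDA hy hy1 hA hw hw1 hwD
    have hwB : w • B = B := by
      rw [← mem_fixSet, h1, mem_fixSet]; exact hB
    exact (P.fixSet_eq hcard hAB hw hw1 hwB hx hx1 hxB).trans h1

include hcard in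
theorem line_unique {L L' : Finset (G ⧸ P.N)} (hL : P.IsLine L) (hL' : P.IsLine L') {A B : G ⧸ P.N}
    (hA : A ∈ L) (hB : B ∈ L) (hA' : A ∈ L') (hB' : B ∈ L') (hAB : A ≠ B) : L = L' := by
  obtain ⟨x, hx, hx1, hxB⟩ := P.exists_fix hcard hAB
  exact (P.line_key hcard hL hA hB hAB hx hx1 hxB).symm.trans (P.line_key hcard hL' hA' hB' hAB hx hx1 hxB)

theorem line_smul [DecidableEq (G ⧸ P.N)] {L : Finset (G ⧸ P.N)} (hL : P.IsLine L) (h : G) :
    P.IsLine (L.image fun p => h • p) := by
  obtain ⟨A, x, hx, hx1, rfl⟩ := hL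
  refine ⟨h • A, h * x * h⁻¹, P.conj_mem hx h, fun e => hx1 (by rwa [mul_inv_eq_one, mul_eq_left] at e), ?_⟩
  ext p
  rw [mem_fixSet, Finset.mem_image]
  constructor
  · intro hp
    refine ⟨h⁻¹ • p, ?_, smul_inv_smul h p⟩
    rw [mem_fixSet]
    rw [mul_smul, mul_smul] at hp
    exact MulAction.injective h (hp.trans (smul_inv_smul h p).symm)
  · rintro ⟨q, hq, rfl⟩
    rw [mem_fixSet] at hq
    rw [mul_smul, mul_smul, inv_smul_smul, hq]

include P hcard in
/-- The group is the collineation group of the plane of order three. -/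
theorem nonempty_mulEquiv [IsSimpleGroup G] : Nonempty (G ≃* PlaneThirteen.aut) := by
  classical
  have : Fact (Nat.Prime 13) := ⟨by norm_num⟩
  let _ : Fintype (G ⧸ P.N) := Fintype.ofFinite _
  have hX : Fintype.card (G ⧸ P.N) = 13 := by
    rw [← Nat.card_eq_fintype_card, ← P.index_N]
    rfl
  have hN : Nat.card P.N = 432 := by
    have h := P.N.card_mul_index
    rw [P.index_N, hcard] at h
    omega
  obtain ⟨σ, hσ⟩ := exists_prime_orderOf_dvd_card' (G := G) 13 (by rw [hcard]; norm_num)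
  have hσ13 : σ ^ 13 = 1 := hσ ▸ pow_orderOf_eq_one σ
  have hpow : ∀ i j : ZMod 13, σ ^ (i + j).val = σ ^ i.val * σ ^ j.val := fun i j => by
    rw [ZMod.val_add, ← pow_eq_pow_mod _ hσ13, pow_add]
  have hnofix : ∀ k : ZMod 13, k ≠ 0 → ∀ p : G ⧸ P.N, σ ^ k.val • p ≠ p := by
    intro k hk p
    have hk' : ¬ 13 ∣ k.val := fun h => hk ((ZMod.val_eq_zero k).mp
      (Nat.eq_zero_of_dvd_of_lt h (ZMod.val_lt k)))
    have ho : orderOf (σ ^ k.val) = 13 := by
      rw [orderOf_pow, hσ, Nat.coprime_iff_gcd_eq_one.mp ((Nat.Prime.coprime_iff_not_dvd (by norm_num)).mpr hk'),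
        Nat.div_one]
    induction p using QuotientGroup.induction_on with
    | H g =>
      intro h
      have h1 := Subgroup.orderOf_dvd_natCard P.N ((P.smul_eq_iff g _).mp h)
      rw [show g⁻¹ * σ ^ k.val * g = MulAut.conj g⁻¹ (σ ^ k.val) by simp,
        show orderOf (MulAut.conj g⁻¹ (σ ^ k.val)) = orderOf (σ ^ k.val) from
          orderOf_injective (MulAut.conj g⁻¹).toMonoidHom (MulAut.conj g⁻¹).injective _, ho, hN] at h1
      norm_num at h1
  set ψ : ZMod 13 → G ⧸ P.N := fun i => σ ^ i.val • P.base with hψ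
  have hψadd : ∀ i j, ψ (i + j) = σ ^ i.val • ψ j := fun i j => by
    simp only [hψ, hpow, mul_smul]
  have hψinj : Function.Injective ψ := by
    intro i j h
    by_contra hne
    refine hnofix (i - j) (sub_ne_zero.mpr hne) (ψ j) ?_
    rw [← hψadd, sub_add_cancel, h]
  have hψbij : Function.Bijective ψ :=
    (Fintype.bijective_iff_injective_and_card ψ).mpr ⟨hψinj, by rw [ZMod.card, hX]⟩
  obtain ⟨x0, hx0, hx01, hx0f⟩ := P.exists_fix hcard (hψinj.ne (zero_ne_one' (ZMod 13)))
  set L0 := P.fixSet x0 with hL0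
  have hline0 : P.IsLine L0 := ⟨_, x0, hx0, hx01, rfl⟩
  set D : Finset (ZMod 13) := Finset.univ.filter fun i => ψ i ∈ L0 with hD
  have hmemD : ∀ i, i ∈ D ↔ ψ i ∈ L0 := fun i => by simp [hD]
  have hDcard : D.card = 4 := by
    rw [← P.card_fixSet hcard hx0 hx01]
    exact Finset.card_bij (fun i _ => ψ i) (fun i hi => (hmemD i).mp hi) (fun a _ b _ h => hψinj h)
      (fun q hq => by obtain ⟨i, rfl⟩ := hψbij.2 q; exact ⟨i, (hmemD i).mpr hq, rfl⟩)
  let tr : ZMod 13 → Finset (G ⧸ P.N) := fun d => L0.image fun p => σ ^ d.val • p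
  have htr : ∀ d i, ψ i ∈ tr d ↔ i - d ∈ D := by
    intro d i
    rw [hmemD, Finset.mem_image]
    constructor
    · rintro ⟨q, hq, h⟩
      obtain ⟨j, rfl⟩ := hψbij.2 q
      rw [← hψadd] at h
      rwa [← hψinj h, add_sub_cancel_left]
    · exact fun h => ⟨ψ (i - d), h, by rw [← hψadd, add_sub_cancel]⟩
  have hdiff : ∀ p ∈ D, ∀ q ∈ D, p ≠ q → ∀ r ∈ D, ∀ s ∈ D, p - q = r - s → p = r := by
    intro p hp q hq hpq r hr s hs hdif
    by_contra hpr
    set d := r - p with hd
    have hd0 : d ≠ 0 := sub_ne_zero.mpr (Ne.symm hpr)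
    have hsd : s - d = q := by rw [hd]; linear_combination hdif
    have heq : L0 = tr d := P.line_unique hcard hline0 (P.line_smul hline0 _) ((hmemD r).mp hr)
      ((hmemD s).mp hs) ((htr d r).mpr (by rw [hd, sub_sub_cancel]; exact hp))
      ((htr d s).mpr (by rw [hsd]; exact hq))
      (hψinj.ne fun h => hpq (sub_eq_zero.mp (by rw [hdif, h, sub_self])))
    have hclosed : ∀ i ∈ D, i + d ∈ D := fun i hi => by
      rw [hmemD, heq, htr, add_sub_cancel_right]; exact hi
    have hn : ∀ n : ℕ, p + (n : ZMod 13) * d ∈ D := fun n => by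
      induction n with
      | zero => simpa using hp
      | succ n ih => simpa [add_mul, add_assoc] using hclosed _ ih
    have huniv : D = Finset.univ := Finset.eq_univ_of_forall fun i => by
      have h := hn ((i - p) / d).val
      rwa [ZMod.natCast_zmod_val, div_mul_cancel₀ _ hd0, add_sub_cancel] at h
    rw [huniv, Finset.card_univ, ZMod.card] at hDcard
    omega
  obtain ⟨c, hc, hc1⟩ : ∃ c ∈ D, c + 1 ∈ D := by
    have h := Finset.surj_on_of_inj_on_of_card_le (s := D.offDiag) (t := Finset.univ.erase (0 : ZMod 13))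
      (fun q _ => q.1 - q.2)
      (fun q hq => Finset.mem_erase.mpr ⟨sub_ne_zero.mpr (Finset.mem_offDiag.mp hq).2.2, Finset.mem_univ _⟩)
      (fun q q' hq hq' h => by
        obtain ⟨h1, h2, h3⟩ := Finset.mem_offDiag.mp hq
        obtain ⟨h1', h2', -⟩ := Finset.mem_offDiag.mp hq'
        have h4 := hdiff _ h1 _ h2 h3 _ h1' _ h2' h
        refine Prod.ext h4 ?_
        rw [h4] at h
        exact sub_right_inj.mp h)
      (by rw [Finset.offDiag_card, hDcard, Finset.card_erase_of_mem (Finset.mem_univ _), Finset.card_univ,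
        ZMod.card]) 1 (Finset.mem_erase.mpr ⟨one_ne_zero, Finset.mem_univ _⟩)
    obtain ⟨⟨r, s⟩, hrs, h1⟩ := h
    obtain ⟨hr, hs, -⟩ := Finset.mem_offDiag.mp hrs
    exact ⟨s, hs, by rwa [show s + 1 = r by rw [h1]; ring]⟩
  have hne1 : (c : ZMod 13) ≠ c + 1 := fun h => by simp at h
  obtain ⟨x', y', hxy', hrest⟩ := Finset.card_eq_two.mp (show ((D.erase c).erase (c + 1)).card = 2 by
    rw [Finset.card_erase_of_mem (Finset.mem_erase.mpr ⟨hne1.symm, hc1⟩), Finset.card_erase_of_mem hc, hDcard])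
  have hlist : ∀ i : ZMod 13, i ∈ [0, 1, x' - c, y' - c] ↔ i + c ∈ D := by
    intro i
    have h : i + c ∈ ({x', y'} : Finset (ZMod 13)) ↔ i + c ∈ (D.erase c).erase (c + 1) := by rw [hrest]
    simp only [Finset.mem_insert, Finset.mem_singleton, Finset.mem_erase] at h
    simp only [List.mem_cons, List.not_mem_nil, or_false, eq_sub_iff_add_eq]
    constructor
    · rintro (rfl | rfl | hh | hh)
      · rwa [zero_add]
      · rwa [add_comm]
      · exact (h.mp (Or.inl hh)).2.2
      · exact (h.mp (Or.inr hh)).2.2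
    · intro hi
      by_cases h0 : i = 0
      · exact Or.inl h0
      by_cases h1 : i = 1
      · exact Or.inr (Or.inl h1)
      refine Or.inr (Or.inr (h.mpr ⟨fun e => h1 ?_, fun e => h0 ?_, hi⟩))
      · exact add_right_cancel (e.trans (add_comm c 1))
      · exact add_eq_right.mp e
  have hx'm : x' ∈ (D.erase c).erase (c + 1) := by rw [hrest]; simp
  have hy'm : y' ∈ (D.erase c).erase (c + 1) := by rw [hrest]; simp
  simp only [Finset.mem_erase] at hx'm hy'm
  have hnodup : [0, 1, x' - c, y' - c].Nodup := by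
    simp only [List.nodup_cons, List.mem_cons, List.not_mem_nil, or_false, not_or, List.nodup_nil,
      and_true, eq_sub_iff_add_eq, zero_add, sub_eq_iff_eq_add]
    refine ⟨⟨zero_ne_one' (ZMod 13), Ne.symm hx'm.2.1, Ne.symm hy'm.2.1⟩,
      ⟨fun e => hx'm.1 (e.symm.trans (add_comm 1 c)), fun e => hy'm.1 (e.symm.trans (add_comm 1 c))⟩,
      ?_, not_false⟩
    rw [sub_add_cancel]
    exact hxy'
  obtain ⟨a, b, ha, hab⟩ := PlaneThirteen.normal_form (x' - c) (y' - c) hnodup (by
    intro p hp q hq hpq r hr s hs h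
    have := hdiff _ ((hlist p).mp hp) _ ((hlist q).mp hq) (fun e => hpq (add_right_cancel e)) _
      ((hlist r).mp hr) _ ((hlist s).mp hs) (by linear_combination h)
    exact add_right_cancel this)
  let φ : ZMod 13 ≃ (G ⧸ P.N) :=
    ((Equiv.mulLeft₀ a ha).trans (Equiv.addRight (b + c))).trans (Equiv.ofBijective ψ hψbij)
  have hφ : ∀ k, φ k = ψ (a * k + (b + c)) := fun k => rfl
  have hblock : ∀ m k, φ k ∈ tr (a * m) ↔ PlaneThirteen.inB m k := by
    intro m k
    rw [hφ, htr, show a * k + (b + c) - a * m = (a * (k - m) + b) + c by ring, ← hlist, hab]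
    simp only [PlaneThirteen.inB, sub_zero]
  have hlines : ∀ L, P.IsLine L → ∃ m, L = tr (a * m) := by
    intro L hL
    obtain ⟨A0, x, hx, hx1, rfl⟩ := hL
    obtain ⟨u, hu, w, hw, huw⟩ := Finset.one_lt_card.mp (show 1 < (P.fixSet x).card by
      rw [P.card_fixSet hcard hx hx1]; norm_num)
    obtain ⟨i, rfl⟩ := φ.surjective u
    obtain ⟨j, rfl⟩ := φ.surjective w
    have hcover : ∀ i j : ZMod 13, ∃ m, PlaneThirteen.inB m i ∧ PlaneThirteen.inB m j := by decide +kernel
    obtain ⟨m, hmi, hmj⟩ := hcover i j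
    exact ⟨m, P.line_unique hcard ⟨A0, x, hx, hx1, rfl⟩ (P.line_smul hline0 _) hu hw
      ((hblock m i).mpr hmi) ((hblock m j).mpr hmj) huw⟩
  let ρ : G →* Equiv.Perm (ZMod 13) :=
    φ.symm.permCongrHom.toMonoidHom.comp (MulAction.toPermHom G (G ⧸ P.N))
  have hρ : ∀ g k, ρ g k = φ.symm (g • φ k) := fun g k => rfl
  have hmap : ∀ g : G, ∀ m, ∃ m', ∀ k, PlaneThirteen.inB m k → PlaneThirteen.inB m' (ρ g k) := by
    intro g m
    obtain ⟨m', hm'⟩ := hlines _ (P.line_smul (P.line_smul hline0 (σ ^ (a * m).val)) g)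
    refine ⟨m', fun k hk => (hblock m' _).mp ?_⟩
    rw [hρ, Equiv.apply_symm_apply, ← hm']
    exact Finset.mem_image.mpr ⟨φ k, (hblock m k).mpr hk, rfl⟩
  let f : G →* PlaneThirteen.aut := ρ.codRestrict _ fun g =>
    ⟨hmap g, fun m => by
      have h : (ρ g).symm = ρ g⁻¹ := by rw [map_inv]; rfl
      rw [h]
      exact hmap g⁻¹ m⟩
  have hf : Function.Injective f := by
    rw [← MonoidHom.ker_eq_bot_iff]
    refine (IsSimpleGroup.eq_bot_or_eq_top_of_normal f.ker inferInstance).resolve_right fun h => ?_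
    have hmem : σ ∈ f.ker := h ▸ Subgroup.mem_top σ
    have h1 : ρ σ = 1 := congrArg Subtype.val (MonoidHom.mem_ker.mp hmem)
    have h2 : φ.symm (σ • φ 0) = 0 := by rw [← hρ, h1]; rfl
    refine hnofix 1 one_ne_zero (φ 0) ?_
    rw [show (1 : ZMod 13).val = 1 from rfl, pow_one]
    exact (φ.apply_symm_apply _).symm.trans (congrArg φ h2)
  refine ⟨MulEquiv.ofBijective f (hf.bijective_of_nat_card_le ?_)⟩
  rw [hcard]
  exact PlaneThirteen.card_aut_le

end Parabolic

/-- Uniqueness in order 5616. -/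
theorem nonempty_mulEquiv_aut {G : Type*} [Group G] [Finite G] [IsSimpleGroup G] {t : G}
    (e : Subgroup.centralizer ({t} : Set G) ≃* M) (ht : orderOf t = 2) (hcard : Nat.card G = 5616) :
    Nonempty (G ≃* PlaneThirteen.aut) := by
  obtain ⟨P⟩ := exists_parabolic e ht hcard
  have := Fintype.ofFinite G
  exact P.nonempty_mulEquiv hcard

end Cfsg.Agent.H30.GLTwoThree
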