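import Cfsg.Agent.H30.M11Values
import Cfsg.Agent.H27.DefectZero

/-!
# Conjugacy classes of a simple group of order 7920
-/

set_option autoImplicit false
set_option synthInstance.maxSize 4096
set_option maxHeartbeats 1000000

namespace Cfsg.Agent.H30.Order7920

open Finset
open scoped ComplexConjugate

variable {G : Type*} [Group G] [Fintype G] [IsSimpleGroup G]

/-- The facts about classes and characters used to pin down the Sylow 3-subgroups. -/
structure Facts (z y : G) (d : Cfsg.IrrCharacter G → ℕ) (K : Finset (Cfsg.IrrCharacter G)) :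
    Prop where
  card : Nat.card G = 7920
  order11 : orderOf z = 11
  order5 : orderOf y = 5
  cz : Subgroup.centralizer ({z} : Set G) = Subgroup.zpowers z
  zreal : ¬ IsConj z z⁻¹
  block : BlockData z d K 16
  counts : ∀ n : ℕ, (univ.filter fun χ => d χ = n).card =
        (if n = 1 ∨ n = 11 ∨ n = 44 ∨ n = 45 ∨ n = 55 then 1 else if n = 10 then 3
          else if n = 16 then 2 else 0)
  valy : ∀ χ, (d χ = 10 ∨ d χ = 45 ∨ d χ = 55 → χ.1 y = 0) ∧
        (d χ = 16 ∨ d χ = 11 → χ.1 y = 1) ∧ (d χ = 44 → χ.1 y = -1)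
  five : ∀ w : G, orderOf w = 5 → Nat.card (Subgroup.centralizer ({w} : Set G)) = 5
  eleven : ∀ w : G, orderOf w = 11 → Nat.card (Subgroup.centralizer ({w} : Set G)) = 11
  inv : ∀ u : G, orderOf u = 2 → InvValues d u
  invConj : ∀ u v : G, orderOf u = 2 → orderOf v = 2 → IsConj u v
  classes : Nat.card (ConjClasses G) = 10

omit [IsSimpleGroup G] in
/-- Elements of prime order `p`, with `p` dividing the order exactly once, have centralisers of
the same order. -/
theorem card_centralizer_eq_of_prime (p m : ℕ) [hp : Fact p.Prime]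
    (hcard : Nat.card G = p * m) (hm : ¬ p ∣ m) {v w : G} (hv : orderOf v = p)
    (hw : orderOf w = p) :
    Nat.card (Subgroup.centralizer ({v} : Set G)) = Nat.card (Subgroup.centralizer ({w} : Set G)) := by
  have hmult : p ^ (Nat.card G).factorization p = p := by
    have h1 := H30.card_sylow_subgroup (default : Sylow p G) (a := 1) (m := m)
      (by rw [hcard, pow_one]) hm
    rw [Sylow.card_eq_multiplicity, pow_one] at h1
    exact h1
  let P : Sylow p G := Sylow.ofCard (Subgroup.zpowers w) (by rw [Nat.card_zpowers, hw, hmult])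
  let Q : Sylow p G := Sylow.ofCard (Subgroup.zpowers v) (by rw [Nat.card_zpowers, hv, hmult])
  obtain ⟨g, hg⟩ := MulAction.exists_smul_eq G Q P
  have hwP : MulAut.conj g v ∈ Subgroup.zpowers w := by
    have h1 : MulAut.conj g v ∈ ((g • Q : Sylow p G) : Subgroup G) := by
      rw [Sylow.coe_subgroup_smul]
      exact Subgroup.smul_mem_pointwise_smul _ _ _ (Subgroup.mem_zpowers _)
    rw [hg] at h1
    exact h1
  have hgen : Subgroup.zpowers (MulAut.conj g v) = Subgroup.zpowers w :=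
    Subgroup.eq_of_le_of_card_ge (Subgroup.zpowers_le.mpr hwP) (by
      rw [Nat.card_zpowers, Nat.card_zpowers, hw,
        show orderOf (MulAut.conj g v) = p from
          (orderOf_injective (MulAut.conj g).toMonoidHom (MulAut.conj g).injective v).trans hv])
  rw [H26.card_centralizer_eq_of_isConj (isConj_iff.mpr ⟨g, rfl⟩ : IsConj v (g * v * g⁻¹)),
    ← Subgroup.centralizer_closure, ← Subgroup.zpowers_eq_closure,
    show g * v * g⁻¹ = MulAut.conj g v from rfl, hgen, Subgroup.zpowers_eq_closure,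
    Subgroup.centralizer_closure]

omit [IsSimpleGroup G] in
/-- An element of order eleven with normalizer of odd order is not real. -/
theorem not_real_eleven {z : G} (hz : orderOf z = 11)
    (hC : Subgroup.centralizer ({z} : Set G) = Subgroup.zpowers z) [Fact (Nat.Prime 11)]
    (hE : (conjExps 11 z).card = 5) : ¬ IsConj z z⁻¹ := by
  set N := Subgroup.normalizer (Subgroup.zpowers z : Set G) with hN
  have hNc : Nat.card N = 55 := by
    rw [hN, H30.card_normalizer_zpowers hz hC, hE]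
  intro h
  obtain ⟨g, hg⟩ := isConj_iff.mp h
  have hgN : g ∈ N := by
    refine Subgroup.mem_normalizer_iff.mpr fun x => ?_
    have hmap : (Subgroup.zpowers z).map (MulAut.conj g).toMonoidHom = Subgroup.zpowers z := by
      rw [MonoidHom.map_zpowers, ← Subgroup.zpowers_inv (g := z)]
      exact congrArg Subgroup.zpowers hg
    constructor
    · intro hx; rw [← hmap]; exact ⟨x, hx, rfl⟩
    · intro hx
      rw [← hmap] at hx
      obtain ⟨w, hw, hw'⟩ := hx
      exact (MulAut.conj g).injective hw' ▸ hw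
  have hg2 : g ^ 2 ∈ Subgroup.centralizer ({z} : Set G) := by
    rw [Subgroup.mem_centralizer_singleton_iff]
    have h2 : g * z⁻¹ * g⁻¹ = z := by
      conv_rhs => rw [← inv_inv z, ← hg]
      group
    calc g ^ 2 * z = g * (g * z * g⁻¹) * g⁻¹ * g ^ 2 := by simp [pow_two, mul_assoc]
      _ = g * z⁻¹ * g⁻¹ * g ^ 2 := by rw [hg]
      _ = z * g ^ 2 := by rw [h2]
  have hg55 : g ^ 55 = 1 := by
    have := pow_card_eq_one' (x := (⟨g, hgN⟩ : N))
    rw [hNc] at this
    simpa using congrArg Subtype.val this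
  have hgC : g ∈ Subgroup.centralizer ({z} : Set G) := by
    have h3 : g = (g ^ 2) ^ 28 := by
      rw [← pow_mul, show 2 * 28 = 55 + 1 by norm_num, pow_succ, hg55, one_mul]
    rw [h3]; exact Subgroup.pow_mem _ hg2 _
  rw [Subgroup.mem_centralizer_singleton_iff] at hgC
  have hzz : z = z⁻¹ := by rw [← hg, hgC, mul_assoc, mul_inv_cancel, mul_one]
  have h4 : z ^ 2 = 1 := by
    rw [pow_two]; nth_rewrite 2 [hzz]; exact mul_inv_cancel z
  have := orderOf_dvd_of_pow_eq_one h4
  rw [hz] at this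
  norm_num at this

/-- The facts hold. -/
theorem exists_facts (hcard : Nat.card G = 7920) :
    ∃ (z y : G) (d : Cfsg.IrrCharacter G → ℕ) (K : Finset (Cfsg.IrrCharacter G)),
      Facts z y d K := by
  classical
  obtain ⟨z, y, d, K, hz, hC, B, hy, hCy, hcount, hval⟩ := degree_data hcard
  obtain ⟨z', hz', hC', hE'⟩ := exists_eleven hcard
  have hzr : ¬ IsConj z z⁻¹ := by
    -- the exceptional values are not real
    intro h
    refine not_real_eleven hz hC ?_ h
    have h1 := H30.card_normalizer_zpowers (p := 11) hz' hC'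
    have h2 := H30.card_normalizer_zpowers (p := 11) hz hC
    have hmult : 11 ^ (Nat.card G).factorization 11 = 11 := by
      have h3 := H30.card_sylow_subgroup (default : Sylow 11 G) (a := 1) (m := 720)
        (by rw [hcard]; norm_num) (by norm_num)
      rw [Sylow.card_eq_multiplicity, pow_one] at h3
      exact h3
    let P : Sylow 11 G := Sylow.ofCard (Subgroup.zpowers z) (by rw [Nat.card_zpowers, hz, hmult])
    let P' : Sylow 11 G := Sylow.ofCard (Subgroup.zpowers z') (by rw [Nat.card_zpowers, hz', hmult])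
    have e1 := H30.card_sylow_mul_normalizer 11 P
    have e2 := H30.card_sylow_mul_normalizer 11 P'
    rw [← e2] at e1
    have e3 := Nat.eq_of_mul_eq_mul_left Nat.card_pos e1
    change Nat.card (Subgroup.normalizer (Subgroup.zpowers z : Set G)) =
      Nat.card (Subgroup.normalizer (Subgroup.zpowers z' : Set G)) at e3
    rw [h1, h2, hE'] at e3
    omega
  refine ⟨z, y, d, K, ⟨hcard, hz, hy, hC, hzr, B, hcount, hval, fun w hw => ?_, fun w hw => ?_,
    fun u hu => involution_values hcard hz hzr B hy hcount hval hu,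
    fun u v hu hv => isConj_of_values B hcount
      (involution_values hcard hz hzr B hy hcount hval hu)
      (involution_values hcard hz hzr B hy hcount hval hv), ?_⟩⟩
  · rw [card_centralizer_eq_of_prime 5 1584 (by rw [hcard]) (by norm_num) hw hy, hCy]
  · rw [card_centralizer_eq_of_prime 11 720 (by rw [hcard]) (by norm_num) hw hz, hC,
      Nat.card_zpowers, hz]
  · rw [← H26.card_irr_eq_card_conjClasses, Nat.card_eq_fintype_card, ← Finset.card_univ]
    have hmaps : ∀ χ ∈ (univ : Finset (Cfsg.IrrCharacter G)),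
        d χ ∈ ({1, 10, 11, 16, 44, 45, 55} : Finset ℕ) := fun χ _ => by
      by_contra hn
      simp only [mem_insert, mem_singleton, not_or] at hn
      obtain ⟨h1, h2, h3, h4, h5, h6, h7⟩ := hn
      have h8 := hcount (d χ)
      rw [if_neg (by omega), if_neg h2, if_neg h4, Finset.card_eq_zero,
        Finset.filter_eq_empty_iff] at h8
      exact h8 (mem_univ χ) rfl
    rw [Finset.card_eq_sum_card_fiberwise hmaps, Finset.sum_congr rfl fun m _ => hcount m]
    rfl

theorem xArith : ∀ θ ∈ [(-2 : ℤ), -1, 0, 1, 2], ∀ p ∈ [(-3 : ℤ), -2, -1, 0, 1, 2, 3],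
    ∀ m ∈ [(-3 : ℤ), -2, -1, 0, 1, 2, 3], ∀ h ∈ [(-3 : ℤ), -2, -1, 0, 1, 2, 3],
      1 + 10 * (1 - θ) + 32 * θ + 11 * h + 44 * (1 + 2 * θ + h) +
        55 * (1 + 2 * p - 2 * m - 2 * (1 - θ - p - m) + 3 * h + 4 * (1 + 2 * θ + h)) = 0 →
      1 + 2 * (θ * θ) + p * p + m * m + (1 - θ - p - m) * (1 - θ - p - m) + h * h +
        (1 + 2 * θ + h) * (1 + 2 * θ + h) +
        (1 + 2 * p - 2 * m - 2 * (1 - θ - p - m) + 3 * h + 4 * (1 + 2 * θ + h)) *
          (1 + 2 * p - 2 * m - 2 * (1 - θ - p - m) + 3 * h + 4 * (1 + 2 * θ + h)) = 9 →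
      55 + 22 * (1 - θ) + 45 * h + 20 * (1 + 2 * θ + h) +
          (1 + 2 * p - 2 * m - 2 * (1 - θ - p - m) + 3 * h + 4 * (1 + 2 * θ + h)) = 80 ∨
        55 + 22 * (1 - θ) + 45 * h + 20 * (1 + 2 * θ + h) +
          (1 + 2 * p - 2 * m - 2 * (1 - θ - p - m) + 3 * h + 4 * (1 + 2 * θ + h)) = -16 := by
  decide +kernel

omit [IsSimpleGroup G] in
/-- A character value at a real element of order three is an integer. -/
theorem exists_int_value_three (χ : Cfsg.IrrCharacter G) {x : G} (hx : orderOf x = 3)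
    (hreal : IsConj x x⁻¹) : ∃ a : ℤ, χ.1 x = (a : ℂ) := by
  classical
  obtain ⟨n, ρ, -, e⟩ := χ.2
  obtain ⟨μ, hμ, hsum⟩ := H25.exists_char_eq_sum_roots ρ x
  rw [hx] at hμ
  have hint : IsIntegral ℤ (χ.1 x) := by rw [← congrFun e x]; exact H25.isIntegral_char ρ x
  have hcr : conj (χ.1 x) = χ.1 x := by
    conv_rhs => rw [H26.irr_eq_of_isConj χ hreal]
    rw [← congrFun e x, ← congrFun e x⁻¹, H25.char_inv]
  have hμ' : ∀ i, μ i + conj (μ i) = ((if μ i = 1 then 2 else -1 : ℤ) : ℂ) := by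
    intro i
    by_cases h1 : μ i = 1
    · rw [if_pos h1, h1, map_one]; norm_num
    · rw [if_neg h1]
      have hn : ‖μ i‖ = 1 := Complex.norm_eq_one_of_pow_eq_one (hμ i) (by norm_num)
      have hnm : conj (μ i) * μ i = 1 := by
        rw [mul_comm, Complex.mul_conj, Complex.normSq_eq_norm_sq, hn]; simp
      have hq : μ i * μ i + μ i + 1 = 0 := by
        have h2 : (μ i - 1) * (μ i * μ i + μ i + 1) = 0 := by linear_combination hμ i
        exact (mul_eq_zero.mp h2).resolve_left (sub_ne_zero.mpr h1)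
      push_cast
      linear_combination (μ i * μ i) * hnm - conj (μ i) * (hμ i) + hq
  have hrat : χ.1 x = ((((∑ i, (if μ i = 1 then 2 else -1 : ℤ)) : ℤ) / 2 : ℚ) : ℂ) := by
    have h2 : χ.1 x + χ.1 x = (((∑ i, (if μ i = 1 then 2 else -1 : ℤ)) : ℤ) : ℂ) := by
      conv_lhs => arg 2; rw [← hcr]
      rw [← congrFun e x, hsum, map_sum, ← Finset.sum_add_distrib, Int.cast_sum]
      exact Finset.sum_congr rfl fun i _ => hμ' i
    rw [Rat.cast_div, Rat.cast_intCast, ← h2]
    norm_num
  obtain ⟨a, ha⟩ : ∃ a : ℤ, ((((∑ i, (if μ i = 1 then 2 else -1 : ℤ)) : ℤ) / 2 : ℚ)) = a := by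
    rw [hrat] at hint
    have h3 : IsIntegral ℤ ((((∑ i, (if μ i = 1 then 2 else -1 : ℤ)) : ℤ) / 2 : ℚ)) :=
      (isIntegral_algebraMap_iff (A := ℚ) (B := ℂ) (algebraMap ℚ ℂ).injective).mp
        (by rwa [eq_ratCast])
    obtain ⟨a, ha⟩ := IsIntegrallyClosed.isIntegral_iff.mp h3
    exact ⟨a, by rw [← ha]; simp⟩
  exact ⟨a, by rw [hrat, ha]; simp⟩

/-- A real element of order three has centralizer order different from nine. -/
theorem centralizer_three_ne_nine {z y : G} {d : Cfsg.IrrCharacter G → ℕ}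
    {K : Finset (Cfsg.IrrCharacter G)} (F : Facts z y d K) {x s : G} (hx : orderOf x = 3)
    (hs : orderOf s = 2) (hsx : s * x * s⁻¹ = x⁻¹) :
    Nat.card (Subgroup.centralizer ({x} : Set G)) ≠ 9 := by
  classical
  intro hC
  have B := F.block
  have hreal : IsConj x x⁻¹ := isConj_iff.mpr ⟨s, hsx⟩
  choose v hv using fun χ => exists_int_value_three χ hx hreal
  obtain ⟨θ, hθ, hrel⟩ := B.rel x (not_isConj_pow F.order11 hx (by norm_num) (by norm_num))
  have U := F.inv s hs
  have h12 : ofDegree d 12 = ∅ := by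
    rw [← card_eq_zero]; simpa [ofDegree] using F.counts 12
  have hc10 : (ofDegree d 10).card = 3 := by simpa [ofDegree] using F.counts 10
  obtain ⟨χ₄, hF45⟩ := card_eq_one.mp (show (ofDegree d 45).card = 1 by
    simpa [ofDegree] using F.counts 45)
  obtain ⟨χ₅, h5⟩ := card_pos.mp (show 0 < (univ.filter fun χ => d χ = 11).card by
    rw [F.counts]; norm_num)
  obtain ⟨χ₆, h6⟩ := card_pos.mp (show 0 < (univ.filter fun χ => d χ = 44).card by
    rw [F.counts]; norm_num)
  obtain ⟨χ₇, h7⟩ := card_pos.mp (show 0 < (univ.filter fun χ => d χ = 55).card by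
    rw [F.counts]; norm_num)
  simp only [mem_filter, mem_univ, true_and] at h5 h6 h7
  have hd4 : d χ₄ = 45 := by simpa [ofDegree] using (show χ₄ ∈ ofDegree d 45 by simp [hF45])
  -- the character of degree ten positive at `s`
  obtain ⟨p, m, m', n12, n13, n23, hF10, hp, hm, hm'⟩ : ∃ p m m', p ≠ m ∧ p ≠ m' ∧ m ≠ m' ∧
      ofDegree d 10 = {p, m, m'} ∧ p.1 s = 2 ∧ m.1 s = -2 ∧ m'.1 s = -2 := by
    obtain ⟨a, b, c, n12, n13, n23, hF⟩ := card_eq_three.mp hc10
    have hh : ∀ χ ∈ ({a, b, c} : Finset (Cfsg.IrrCharacter G)), χ.1 s = 2 ∨ χ.1 s = -2 :=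
      fun χ h => U.sq10 χ (by rw [← hF] at h; simpa [ofDegree] using h)
    have hsum := U.sum10
    rw [hF, Finset.sum_insert (by simp [n12, n13]), Finset.sum_pair n23] at hsum
    rcases hh a (by simp) with ea | ea <;> rcases hh b (by simp) with eb | eb <;>
      rcases hh c (by simp) with ec | ec <;> rw [ea, eb, ec] at hsum <;> norm_num at hsum
    · exact ⟨a, b, c, n12, n13, n23, hF, ea, eb, ec⟩
    · exact ⟨b, a, c, n12.symm, n23, n13, by rw [hF, Finset.insert_comm], eb, ea, ec⟩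
    · refine ⟨c, a, b, n13.symm, n23.symm, n12, ?_, ec, ea, eb⟩
      rw [hF]; ext χ; simp only [mem_insert, mem_singleton]; tauto
  have hd10 : ∀ χ ∈ ({p, m, m'} : Finset (Cfsg.IrrCharacter G)), d χ = 10 := fun χ h => by
    rw [← hF10] at h
    simpa [ofDegree] using h
  have h45 : χ₄.1 x = 0 := H27.char_eq_zero_of_defect_zero χ₄ (p := 3) (n := 2) Nat.prime_three
    (by rw [F.card]; norm_num) (by rw [F.card]; norm_num) (B.deg χ₄)
    (by rw [hd4]; norm_num) x (by rw [hx])
  obtain ⟨k, hk⟩ := card_pos.mp (show 0 < K.card by rw [B.cardK]; norm_num)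
  have hθk : θ = (v k : ℂ) := by rw [← hθ k hk, hv]
  have split : ∀ f : Cfsg.IrrCharacter G → ℂ, ∀ w : ℂ, (∀ ψ ∈ K, f ψ = w) → ∑ χ, f χ =
      f (H26.oneIrr G) + 2 * w + (f p + f m + f m') + f χ₄ + (f χ₅ + f χ₆ + f χ₇) := by
    intro f w hw
    rw [sum_split B, Finset.sum_congr rfl hw, Finset.sum_const, B.cardK, hF10, h12, hF45,
      sum_eleven F.counts h5 h6 h7, Finset.sum_empty, Finset.sum_singleton,
      Finset.sum_insert (by simp [n12, n13]), Finset.sum_pair n23]
    simp only [nsmul_eq_mul, Nat.cast_ofNat]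
    ring
  rw [hF10, h12, hF45, Finset.sum_empty, Finset.sum_singleton,
    Finset.sum_insert (by simp [n12, n13]), Finset.sum_pair n23, h45, hv, hv, hv, hθk] at hrel
  have eZ : v m' = 1 - v k - v p - v m := by
    have : ((v m' : ℤ) : ℂ) = (((1 : ℤ) - v k - v p - v m : ℤ) : ℂ) := by
      push_cast; linear_combination -hrel
    exact_mod_cast this
  have hne : ∀ w : G, orderOf w ≠ 3 → H26.classIndicator w x = 0 := fun w hw => if_neg fun h => by
    obtain ⟨g, hg⟩ := isConj_iff.mp h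
    apply hw
    rw [← hg, ← hx]
    exact orderOf_injective (MulAut.conj g).toMonoidHom (MulAut.conj g).injective x
  have hY := H26.column_orthogonality x y
  rw [hne y (by rw [F.order5]; norm_num), mul_zero, split _ θ (fun ψ hψ => by
    rw [hθ ψ hψ, (F.valy ψ).2.1 (Or.inl ((B.memK ψ).mp hψ))]; simp),
    (F.valy p).1 (Or.inl (hd10 _ (by simp))), (F.valy m).1 (Or.inl (hd10 _ (by simp))),
    (F.valy m').1 (Or.inl (hd10 _ (by simp))), h45,
    (F.valy χ₅).2.1 (Or.inr h5), (F.valy χ₆).2.2 h6, (F.valy χ₇).1 (Or.inr (Or.inr h7)),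
    H26.oneIrr_val, H26.oneIrr_val, hv χ₅, hv χ₆, hθk] at hY
  simp only [map_zero, mul_zero, zero_mul, map_neg, map_one, add_zero, mul_one, mul_neg] at hY
  have eY : v χ₆ = 1 + 2 * v k + v χ₅ := by
    have : ((v χ₆ : ℤ) : ℂ) = (((1 : ℤ) + 2 * v k + v χ₅ : ℤ) : ℂ) := by
      push_cast; linear_combination -hY
    exact_mod_cast this
  have hU := H26.column_orthogonality x s
  rw [hne s (by rw [hs]; norm_num), mul_zero, split _ 0 (fun ψ hψ => by
    rw [U.at16 ψ ((B.memK ψ).mp hψ)]; simp), h45, hp, hm, hm',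
    U.at11 χ₅ h5, U.at44 χ₆ h6, U.at55 χ₇ h7, H26.oneIrr_val, H26.oneIrr_val,
    hv p, hv m, hv m', hv χ₅, hv χ₆, hv χ₇] at hU
  simp only [map_ofNat, map_zero, mul_zero, zero_mul, map_neg, map_one, add_zero, mul_one,
    mul_neg] at hU
  have eU : v χ₇ = 1 + 2 * v p - 2 * v m - 2 * v m' + 3 * v χ₅ + 4 * v χ₆ := by
    have : ((v χ₇ : ℤ) : ℂ) =
        (((1 : ℤ) + 2 * v p - 2 * v m - 2 * v m' + 3 * v χ₅ + 4 * v χ₆ : ℤ) : ℂ) := by
      push_cast; linear_combination -hU
    exact_mod_cast this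
  have hO := H26.column_orthogonality x 1
  rw [hne 1 (by rw [orderOf_one]; norm_num), mul_zero, split _ (θ * 16) (fun ψ hψ => by
    rw [hθ ψ hψ, B.deg, (B.memK ψ).mp hψ, map_natCast]; norm_num), h45,
    B.deg, B.deg, B.deg, B.deg, B.deg, B.deg, B.deg, B.deg, (B.one _).mpr rfl,
    hd10 p (by simp), hd10 m (by simp), hd10 m' (by simp), h5, h6, h7, H26.oneIrr_val,
    hv p, hv m, hv m', hv χ₅, hv χ₆, hv χ₇, hθk] at hO
  simp only [map_natCast, map_one, mul_one, zero_mul, add_zero] at hO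
  have eO : (1 : ℤ) + 10 * (v p + v m + v m') + 32 * v k + 11 * v χ₅ + 44 * v χ₆ + 55 * v χ₇ = 0 := by
    have : (((1 : ℤ) + 10 * (v p + v m + v m') + 32 * v k + 11 * v χ₅ + 44 * v χ₆ +
        55 * v χ₇ : ℤ) : ℂ) = ((0 : ℤ) : ℂ) := by
      push_cast at hO ⊢; linear_combination hO
    exact_mod_cast this
  have hN := H26.column_orthogonality x x
  rw [show H26.classIndicator x x = 1 from if_pos (IsConj.refl x), mul_one, hC,
    split _ (θ * θ) (fun ψ hψ => by rw [hθ ψ hψ, hθk, map_intCast]), H26.oneIrr_val, map_one, h45,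
    hv p, hv m, hv m', hv χ₅, hv χ₆, hv χ₇, hθk] at hN
  simp only [map_intCast, map_zero, mul_zero, add_zero, mul_one] at hN
  have eN : (1 : ℤ) + 2 * (v k * v k) + v p * v p + v m * v m + v m' * v m' + v χ₅ * v χ₅ +
      v χ₆ * v χ₆ + v χ₇ * v χ₇ = 9 := by
    have : (((1 : ℤ) + 2 * (v k * v k) + v p * v p + v m * v m + v m' * v m' + v χ₅ * v χ₅ +
      v χ₆ * v χ₆ + v χ₇ * v χ₇ : ℤ) : ℂ) = ((9 : ℤ) : ℂ) := by
      push_cast at hN ⊢; linear_combination hN
    exact_mod_cast this
  have hn := count_formula s s x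
  set n := Nat.card {q : G × G // IsConj s q.1 ∧ IsConj s q.2 ∧ q.1 * q.2 = x} with hndef
  rw [U.card, F.card, split _ 0 (fun ψ hψ => by rw [U.at16 ψ ((B.memK ψ).mp hψ)]; simp),
    hp, hm, hm', U.at45 χ₄ hd4, U.at11 χ₅ h5, U.at44 χ₆ h6, U.at55 χ₇ h7, h45,
    B.deg, B.deg, B.deg, B.deg, B.deg, B.deg, B.deg, B.deg, (B.one _).mpr rfl,
    hd10 p (by simp), hd10 m (by simp), hd10 m' (by simp), hd4, h5, h6, h7, H26.oneIrr_val,
    H26.oneIrr_val, hv p, hv m, hv m', hv χ₅, hv χ₆, hv χ₇] at hn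
  simp only [map_intCast, map_zero, map_one, mul_zero, zero_div, add_zero, mul_one] at hn
  have eS : 16 * (n : ℤ) = 55 + 22 * (v p + v m + v m') + 45 * v χ₅ + 20 * v χ₆ + v χ₇ := by
    have : (((16 * (n : ℤ)) : ℤ) : ℂ) =
        ((55 + 22 * (v p + v m + v m') + 45 * v χ₅ + 20 * v χ₆ + v χ₇ : ℤ) : ℂ) := by
      push_cast at hn ⊢; linear_combination hn / 144
    exact_mod_cast this
  rw [eU, eY, eZ] at eO eN eS
  -- bounds
  have hb : v k ∈ [(-2 : ℤ), -1, 0, 1, 2] ∧ v p ∈ [(-3 : ℤ), -2, -1, 0, 1, 2, 3] ∧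
      v m ∈ [(-3 : ℤ), -2, -1, 0, 1, 2, 3] ∧ v χ₅ ∈ [(-3 : ℤ), -2, -1, 0, 1, 2, 3] := by
    have b1 := mul_self_nonneg (v k)
    have b2 := mul_self_nonneg (v p)
    have b3 := mul_self_nonneg (v m)
    have b4 := mul_self_nonneg (v χ₅)
    have b5 := mul_self_nonneg (1 - v k - v p - v m)
    have b6 := mul_self_nonneg (1 + 2 * v k + v χ₅)
    have b7 := mul_self_nonneg
      (1 + 2 * v p - 2 * v m - 2 * (1 - v k - v p - v m) + 3 * v χ₅ + 4 * (1 + 2 * v k + v χ₅))
    have k1 : v k * v k ≤ 2 * 2 := by linarith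
    have k2 : v p * v p < 3 * 3 := by linarith
    have k3 : v m * v m < 3 * 3 := by linarith
    have k4 : v χ₅ * v χ₅ < 3 * 3 := by linarith
    have l1 := abs_le_of_sq_le_sq (a := v k) (b := 2) (by rw [pow_two, pow_two]; linarith) (by norm_num)
    have l2 := abs_lt_of_sq_lt_sq (a := v p) (b := 3) (by rw [pow_two, pow_two]; linarith) (by norm_num)
    have l3 := abs_lt_of_sq_lt_sq (a := v m) (b := 3) (by rw [pow_two, pow_two]; linarith) (by norm_num)
    have l4 := abs_lt_of_sq_lt_sq (a := v χ₅) (b := 3) (by rw [pow_two, pow_two]; linarith) (by norm_num)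
    rw [abs_le] at l1
    rw [abs_lt] at l2 l3 l4
    simp only [List.mem_cons, List.not_mem_nil, or_false]
    refine ⟨?_, ?_, ?_, ?_⟩ <;> omega
  -- the number of involutions inverting `x` is a subgroup order
  have hCcomm : ∀ a ∈ Subgroup.centralizer ({x} : Set G), ∀ b ∈ Subgroup.centralizer ({x} : Set G),
      a * b = b * a := by
    have : Fact (Nat.Prime 3) := ⟨Nat.prime_three⟩
    intro a ha b hb
    exact congrArg Subtype.val (IsPGroup.commutative_of_card_eq_prime_sq (p := 3)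
      (G := Subgroup.centralizer ({x} : Set G)) (by rw [hC]; norm_num) ⟨a, ha⟩ ⟨b, hb⟩)
  have hs2 : s * s = 1 := by rw [← pow_two, ← hs, pow_orderOf_eq_one]
  have hsi : s⁻¹ = s := inv_eq_of_mul_eq_one_right hs2
  have hsC : ∀ c ∈ Subgroup.centralizer ({x} : Set G),
      s * c * s⁻¹ ∈ Subgroup.centralizer ({x} : Set G) := by
    intro c hc
    rw [Subgroup.mem_centralizer_singleton_iff] at hc ⊢
    have hc' : c * x⁻¹ = x⁻¹ * c := by
      calc c * x⁻¹ = x⁻¹ * (x * c) * x⁻¹ := by group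
        _ = x⁻¹ * (c * x) * x⁻¹ := by rw [hc]
        _ = x⁻¹ * c := by group
    have h2 : s⁻¹ * x * s = x⁻¹ := by
      rw [hsi]; nth_rewrite 2 [← hsi]; exact hsx
    calc s * c * s⁻¹ * x = s * c * (s⁻¹ * x * s) * s⁻¹ := by group
      _ = s * (c * x⁻¹) * s⁻¹ := by rw [h2]; group
      _ = s * x⁻¹ * s⁻¹ * (s * c * s⁻¹) := by rw [hc']; group
      _ = (s * x * s⁻¹)⁻¹ * (s * c * s⁻¹) := by group
      _ = x * (s * c * s⁻¹) := by rw [hsx, inv_inv]
  let T : Subgroup G :=
    { carrier := {c | c ∈ Subgroup.centralizer ({x} : Set G) ∧ s * c * s⁻¹ = c⁻¹}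
      one_mem' := ⟨one_mem _, by simp⟩
      mul_mem' := fun {a b} ha hb => ⟨mul_mem ha.1 hb.1, by
        rw [← conj_mul, ha.2, hb.2, ← mul_inv_rev, hCcomm b hb.1 a ha.1]⟩
      inv_mem' := fun {a} ha => ⟨inv_mem ha.1, by rw [← conj_inv, ha.2]⟩ }
  have hTC : T ≤ Subgroup.centralizer ({x} : Set G) := fun c hc => hc.1
  have hnT : n = Nat.card T := by
    rw [hndef]
    refine Nat.card_congr
      { toFun := fun q => ⟨s * q.1.1, ?_⟩
        invFun := fun c => ⟨(s * c.1, (s * c.1)⁻¹ * x), ?_⟩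
        left_inv := fun q => ?_
        right_inv := fun c => ?_ }
    · obtain ⟨⟨a, b⟩, ha, hb, hab⟩ := q
      have h2 : ∀ c : G, IsConj s c → c * c = 1 := fun c hc => by
        obtain ⟨g, hg⟩ := isConj_iff.mp hc
        rw [← pow_two, ← hg, conj_pow, pow_two, hs2, mul_one, mul_inv_cancel]
      have haxa : a * x * a = x⁻¹ := by
        show a * x * a = _
        rw [← hab]
        show a * (a * b) * a = (a * b)⁻¹
        rw [← mul_assoc a a b, h2 a ha, one_mul, mul_inv_rev,
          inv_eq_of_mul_eq_one_right (h2 a ha), inv_eq_of_mul_eq_one_right (h2 b hb)]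
      refine ⟨?_, ?_⟩
      · rw [Subgroup.mem_centralizer_singleton_iff]
        show s * a * x = x * (s * a)
        have hxs : x * s = s * x⁻¹ := by
          calc x * s = s * (s⁻¹ * x * s) := by group
            _ = s * x⁻¹ := by rw [hsi]; nth_rewrite 3 [← hsi]; rw [hsx]
        have hax : a * x = x⁻¹ * a := by
          calc a * x = a * x * (a * a) := by rw [h2 a ha, mul_one]
            _ = (a * x * a) * a := by group
            _ = x⁻¹ * a := by rw [haxa]
        calc s * a * x = s * (a * x) := by group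
          _ = s * x⁻¹ * a := by rw [hax]; group
          _ = x * s * a := by rw [hxs]
          _ = x * (s * a) := by group
      · show s * (s * a) * s⁻¹ = (s * a)⁻¹
        rw [← mul_assoc s s a, hs2, one_mul, mul_inv_rev, inv_eq_of_mul_eq_one_right (h2 a ha)]
    · obtain ⟨c, hcC, hcs⟩ := c
      have hinv2 : ∀ w : G, w * w = 1 → w ≠ 1 → IsConj s w := fun w hw hw1 =>
        F.invConj s w hs (orderOf_eq_prime (by rw [pow_two, hw]) hw1)
      have hsc : s * c * (s * c) = 1 := by
        calc s * c * (s * c) = (s * c * s⁻¹) * c * (s * s) := by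
              rw [hsi, hs2, mul_one]; group
          _ = 1 := by rw [hcs, hs2]; group
      have hconjx : (s * c) * x * (s * c)⁻¹ = x⁻¹ := by
        calc (s * c) * x * (s * c)⁻¹ = s * (c * x) * c⁻¹ * s⁻¹ := by group
          _ = s * (x * c) * c⁻¹ * s⁻¹ := by rw [Subgroup.mem_centralizer_singleton_iff.mp hcC]
          _ = x⁻¹ := by rw [← hsx]; group
      have hx1 : x ≠ x⁻¹ := fun e => by
        have h2 : x ^ 2 = 1 := by rw [pow_two]; nth_rewrite 2 [e]; exact mul_inv_cancel x
        have := orderOf_dvd_of_pow_eq_one h2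
        rw [hx] at this; norm_num at this
      refine ⟨hinv2 _ hsc fun e => hx1 ?_, hinv2 _ ?_ fun e => ?_, mul_inv_cancel_left _ _⟩
      · change s * c = 1 at e; rw [e, one_mul, inv_one, mul_one] at hconjx; exact hconjx
      · show (s * c)⁻¹ * x * ((s * c)⁻¹ * x) = 1
        rw [inv_eq_of_mul_eq_one_right hsc] at hconjx ⊢
        calc s * c * x * (s * c * x) = (s * c * x * (s * c)) * x := by group
          _ = 1 := by rw [hconjx, inv_mul_cancel]
      · have e' : x = s * c := by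
          rw [← mul_one (s * c), ← e]; exact (mul_inv_cancel_left _ _).symm
        rw [← e', mul_inv_cancel_right] at hconjx
        exact hx1 hconjx
    · obtain ⟨⟨a, b⟩, ha, hb, hab⟩ := q
      apply Subtype.ext
      show (s * (s * a), (s * (s * a))⁻¹ * x) = (a, b)
      rw [← mul_assoc s s a, hs2, one_mul, ← hab, inv_mul_cancel_left]
    · apply Subtype.ext
      show s * (s * c.1) = c.1
      rw [← mul_assoc, hs2, one_mul]
  have hdvd : n ∣ 9 := hnT ▸ hC ▸ Subgroup.card_dvd_of_le hTC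
  rcases xArith _ hb.1 _ hb.2.1 _ hb.2.2.1 _ hb.2.2.2 (by linarith) (by linarith) with e | e
  · have h5' : (n : ℤ) = 5 := by linarith
    have : n = 5 := by exact_mod_cast h5'
    rw [this] at hdvd
    norm_num at hdvd
  · have : (0 : ℤ) ≤ n := by positivity
    linarith

end Cfsg.Agent.H30.Order7920
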