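import Cfsg.Agent.H30.M11Sylow
import Cfsg.Agent.H26.CharPerm

/-!
# The action on the Sylow 3-subgroups has rank three
-/

set_option autoImplicit false
set_option synthInstance.maxSize 4096
set_option maxHeartbeats 1000000

namespace Cfsg.Agent.H30.Order7920

open Finset MulAction
open scoped ComplexConjugate

variable {G : Type*} [Group G] [Fintype G] [IsSimpleGroup G]
variable {z y : G} {d : Cfsg.IrrCharacter G → ℕ} {K : Finset (Cfsg.IrrCharacter G)}

theorem sum_mul_self_eq_one {ι : Type*} (s : Finset ι) (m : ι → ℕ) (h : ∑ i ∈ s, m i = 1) :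
    ∑ i ∈ s, m i * m i = 1 := by
  refine (Finset.sum_congr rfl fun i hi => ?_).trans h
  have := Finset.single_le_sum (f := m) (fun _ _ => Nat.zero_le _) hi
  rcases (show m i = 0 ∨ m i = 1 by omega) with e | e <;> rw [e]

/-- The group has three orbits on pairs of Sylow 3-subgroups. -/
theorem Facts.rank_three (F : Facts z y d K) (T : ThreeData G) :
    Nat.card (Quotient (MulAction.orbitRel G (Sylow 3 G × Sylow 3 G))) = 3 := by
  classical
  have : Fact (Nat.Prime 3) := ⟨Nat.prime_three⟩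
  have B := F.block
  have hy0 : IsEmpty (fixedBy (Sylow 3 G) y) := ⟨fun P => by
    have h := Subgroup.orderOf_dvd_natCard (MulAction.stabilizer G P.1)
      (show y ∈ MulAction.stabilizer G P.1 from P.2)
    rw [F.order5, T.stab] at h
    norm_num at h⟩
  obtain ⟨m, hm, hπ⟩ :=
    H26.exists_nat_coeffs (H26.isCharacter_permChar (G := G) (Sylow 3 G))
  have hat : ∀ g : G, (Nat.card (fixedBy (Sylow 3 G) g) : ℂ) =
      ∑ ψ : Cfsg.IrrCharacter G, (m ψ : ℂ) * ψ.1 g := fun g => by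
    have h := congrFun hπ g
    rw [H26.permChar, Finset.sum_apply] at h
    simpa using h
  have hone : m (H26.oneIrr G) = 1 := by
    have h : ((m (H26.oneIrr G) : ℕ) : ℂ) =
        (Nat.card (Quotient (MulAction.orbitRel G (Sylow 3 G))) : ℂ) := by
      rw [← hm, ← H26.classInner_permChar_one (G := G) (Sylow 3 G)]; rfl
    rw [Nat.cast_inj] at h
    rw [h, Nat.card_eq_one_iff_unique]
    refine ⟨⟨fun a b => ?_⟩, ⟨Quotient.mk _ default⟩⟩
    induction a using Quotient.inductionOn with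
    | h P =>
      induction b using Quotient.inductionOn with
      | h Q => exact Quotient.sound (MulAction.exists_smul_eq G Q P)
  obtain ⟨χ₅, h5⟩ := card_pos.mp (show 0 < (univ.filter fun χ => d χ = 11).card by
    rw [F.counts]; norm_num)
  obtain ⟨χ₆, h6⟩ := card_pos.mp (show 0 < (univ.filter fun χ => d χ = 44).card by
    rw [F.counts]; norm_num)
  obtain ⟨χ₇, h7⟩ := card_pos.mp (show 0 < (univ.filter fun χ => d χ = 55).card by
    rw [F.counts]; norm_num)
  simp only [mem_filter, mem_univ, true_and] at h5 h6 h7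
  have h12 : ofDegree d 12 = ∅ := by
    rw [← card_eq_zero]; simpa [ofDegree] using F.counts 12
  have hd : ∀ n, ∀ χ ∈ ofDegree d n, d χ = n := fun n χ h => by simpa [ofDegree] using h
  have hd1 : d (H26.oneIrr G) = 1 := (B.one _).mpr rfl
  have split : ∀ {M : Type} [AddCommMonoid M] (f : Cfsg.IrrCharacter G → M), ∑ χ, f χ =
      f (H26.oneIrr G) + ∑ χ ∈ K, f χ + ∑ χ ∈ ofDegree d 10, f χ + ∑ χ ∈ ofDegree d 45, f χ +
        (f χ₅ + f χ₆ + f χ₇) := fun f => by
    rw [sum_split B f, h12, Finset.sum_empty, add_zero, sum_eleven F.counts h5 h6 h7]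
  have hdeg : 55 = ∑ χ, m χ * d χ := by
    have h := hat 1
    have hc : Nat.card (fixedBy (Sylow 3 G) (1 : G)) = 55 := by
      rw [← T.card]; exact Nat.card_congr (Equiv.subtypeUnivEquiv fun Q => one_smul G Q)
    rw [hc] at h
    simp only [B.deg] at h
    exact_mod_cast h
  rw [split, hone, hd1,
    Finset.sum_congr rfl (fun χ h => by rw [(B.memK χ).mp h] :
      ∀ χ ∈ K, m χ * d χ = m χ * 16),
    Finset.sum_congr rfl (fun χ h => by rw [hd 10 χ h] :
      ∀ χ ∈ ofDegree d 10, m χ * d χ = m χ * 10),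
    Finset.sum_congr rfl (fun χ h => by rw [hd 45 χ h] :
      ∀ χ ∈ ofDegree d 45, m χ * d χ = m χ * 45),
    ← Finset.sum_mul, ← Finset.sum_mul, ← Finset.sum_mul, h5, h6, h7] at hdeg
  have hy' : 1 + ∑ χ ∈ K, m χ + m χ₅ = m χ₆ := by
    have h := hat y
    rw [Nat.card_of_isEmpty, Nat.cast_zero, split, H26.oneIrr_val, hone,
      Finset.sum_congr rfl (fun χ h => by
        rw [(F.valy χ).2.1 (Or.inl ((B.memK χ).mp h)), mul_one] :
        ∀ χ ∈ K, (m χ : ℂ) * χ.1 y = (m χ : ℂ)),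
      Finset.sum_eq_zero (fun χ h => by
        rw [(F.valy χ).1 (Or.inl (hd 10 χ h)), mul_zero] :
        ∀ χ ∈ ofDegree d 10, (m χ : ℂ) * χ.1 y = 0),
      Finset.sum_eq_zero (fun χ h => by
        rw [(F.valy χ).1 (Or.inr (Or.inl (hd 45 χ h))), mul_zero] :
        ∀ χ ∈ ofDegree d 45, (m χ : ℂ) * χ.1 y = 0),
      (F.valy χ₅).2.1 (Or.inr h5), (F.valy χ₆).2.2 h6, (F.valy χ₇).1 (Or.inr (Or.inr h7)),
      ← Nat.cast_sum] at h
    have h' : ((1 + ∑ χ ∈ K, m χ + m χ₅ : ℕ) : ℂ) = ((m χ₆ : ℕ) : ℂ) := by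
      push_cast at h ⊢
      linear_combination -h
    exact_mod_cast h'
  have hsolve : ∑ χ ∈ K, m χ = 0 ∧ ∑ χ ∈ ofDegree d 10, m χ = 1 ∧
      ∑ χ ∈ ofDegree d 45, m χ = 0 ∧ m χ₅ = 0 ∧ m χ₆ = 1 ∧ m χ₇ = 0 := by
    generalize ∑ χ ∈ K, m χ = a at *
    generalize ∑ χ ∈ ofDegree d 10, m χ = b at *
    generalize ∑ χ ∈ ofDegree d 45, m χ = c at *
    have e1 : m χ₆ = 1 := by omega
    have a0 : a = 0 := by omega
    have c0 : c = 0 := by omega
    have g0 : m χ₇ = 0 := by omega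
    refine ⟨a0, ?_, c0, ?_, e1, g0⟩ <;> omega
  obtain ⟨hK, h10, h45, e5, e6, e7⟩ := hsolve
  have hnorm := H26.classInner_permChar_self (G := G) (Sylow 3 G)
  rw [H26.classInner_eq_sum _ _ (H26.isClassFunction_of_isCharacter
    (H26.isCharacter_permChar (G := G) (Sylow 3 G)))] at hnorm
  simp only [hm, map_natCast, ← Nat.cast_mul] at hnorm
  rw [← Nat.cast_sum, Nat.cast_inj] at hnorm
  rw [← hnorm, split, hone, sum_mul_self_eq_one _ _ h10, e5, e6, e7,
    Finset.sum_eq_zero (fun χ h => by rw [(Finset.sum_eq_zero_iff.mp hK) χ h, mul_zero] :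
      ∀ χ ∈ K, m χ * m χ = 0),
    Finset.sum_eq_zero (fun χ h => by rw [(Finset.sum_eq_zero_iff.mp h45) χ h, mul_zero] :
      ∀ χ ∈ ofDegree d 45, m χ * m χ = 0)]
  norm_num

end Cfsg.Agent.H30.Order7920
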