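import Cfsg.Agent.H30.Basics

/-!
# Automorphisms of an elementary group of order nine
-/

set_option autoImplicit false

namespace Cfsg.Agent.H30.Nine

variable {G : Type*} [Group G]

/-- Conjugation of a word in two elements. -/
theorem conj_word (h x b : G) (i j : ℕ) :
    h * (x ^ i * b ^ j) * h⁻¹ = (h * x * h⁻¹) ^ i * (h * b * h⁻¹) ^ j := by
  rw [conj_pow, conj_pow, conj_mul]

theorem pow_three_eq {b : G} (hb : b ^ 3 = 1) {m : ℕ} (hm : ¬ 3 ∣ m) :
    b = b ^ m ∨ b = (b ^ m) ^ 2 := by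
  have h1 : b ^ m = b ^ (m % 3) := pow_eq_pow_mod m hb
  rcases (show m % 3 = 1 ∨ m % 3 = 2 by omega) with h | h
  · left; rw [h1, h, pow_one]
  · right; rw [h1, h, ← pow_mul, show 2 * 2 = 3 + 1 by norm_num, pow_succ, hb, one_mul]

/-- Every element of a group of order nine of exponent three is a word in two independent
elements. -/
theorem exists_coords [Finite G] {P : Subgroup G} (hP : Nat.card P = 9) {x b : G} (hx : x ∈ P)
    (hb : b ∈ P) (hx1 : x ≠ 1) (hx3 : x ^ 3 = 1) (hb3 : b ^ 3 = 1)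
    (hbx : b ∉ Subgroup.zpowers x) :
    ∀ p ∈ P, ∃ i j : ℕ, i < 3 ∧ j < 3 ∧ p = x ^ i * b ^ j := by
  have : Fact (Nat.Prime 3) := ⟨Nat.prime_three⟩
  have hxo : orderOf x = 3 := orderOf_eq_prime hx3 hx1
  let f : Fin 3 × Fin 3 → P := fun q =>
    ⟨x ^ (q.1 : ℕ) * b ^ (q.2 : ℕ), mul_mem (pow_mem hx _) (pow_mem hb _)⟩
  have hf : Function.Injective f := by
    rintro ⟨i, j⟩ ⟨k, l⟩ e
    have e1 : x ^ (i : ℕ) * b ^ (j : ℕ) = x ^ (k : ℕ) * b ^ (l : ℕ) := congrArg Subtype.val e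
    have hjl : j = l := by
      by_contra hne
      have hmem : b ^ ((j : ℕ) + 2 * l) ∈ Subgroup.zpowers x := by
        have e2 : b ^ ((j : ℕ) + 2 * l) = (x ^ (i : ℕ))⁻¹ * x ^ (k : ℕ) := by
          have h3 : b ^ (l : ℕ) * b ^ (2 * (l : ℕ)) = 1 := by
            rw [← pow_add, show (l : ℕ) + 2 * l = 3 * l by ring, pow_mul, hb3, one_pow]
          rw [pow_add, show b ^ (j : ℕ) = (x ^ (i : ℕ))⁻¹ * (x ^ (k : ℕ) * b ^ (l : ℕ)) by
            rw [← e1, inv_mul_cancel_left], mul_assoc, mul_assoc, h3, mul_one]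
        rw [e2]
        exact mul_mem (inv_mem (Subgroup.npow_mem_zpowers _ _)) (Subgroup.npow_mem_zpowers _ _)
      have hjl' : (j : ℕ) ≠ l := fun h => hne (Fin.ext h)
      have h3 : ¬ 3 ∣ (j : ℕ) + 2 * l := by
        have := j.isLt
        have := l.isLt
        omega
      rcases pow_three_eq hb3 h3 with h | h
      · exact hbx (h ▸ hmem)
      · exact hbx (h ▸ pow_mem hmem 2)
    subst hjl
    have h4 : x ^ (i : ℕ) = x ^ (k : ℕ) := mul_right_cancel e1
    rw [pow_inj_mod, hxo, Nat.mod_eq_of_lt i.isLt, Nat.mod_eq_of_lt k.isLt] at h4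
    rw [Fin.ext h4]
  have hbij : Function.Bijective f :=
    (Nat.bijective_iff_injective_and_card f).mpr ⟨hf, by rw [hP]; simp⟩
  intro p hp
  obtain ⟨⟨i, j⟩, hq⟩ := hbij.2 ⟨p, hp⟩
  exact ⟨i, j, i.isLt, j.isLt, (congrArg Subtype.val hq).symm⟩

/-- An element of `P` outside a subgroup of order three. -/
theorem exists_not_mem_zpowers [Finite G] {P : Subgroup G} (hP : Nat.card P = 9) {x : G}
    (hx3 : x ^ 3 = 1) : ∃ b ∈ P, b ∉ Subgroup.zpowers x := by
  by_contra h
  simp only [not_exists, not_and, not_not] at h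
  have h1 := Subgroup.card_le_of_le (show P ≤ Subgroup.zpowers x from h)
  rw [hP, Nat.card_zpowers] at h1
  have := orderOf_le_of_pow_eq_one (by norm_num) hx3
  omega

variable [Finite G] {P H : Subgroup G}

/-- A 2-element of order dividing four centralising `P` is trivial. -/
theorem eq_one_of_centralizes (hP : Nat.card P = 9)
    (hC : Subgroup.centralizer (P : Set G) = P) {h : G} (h4 : h ^ 4 = 1)
    (hf : ∀ p ∈ P, h * p * h⁻¹ = p) : h = 1 := by
  have hmem : h ∈ Subgroup.centralizer (P : Set G) := by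
    rw [Subgroup.mem_centralizer_iff]
    intro p hp
    exact (mul_inv_eq_iff_eq_mul.mp (hf p hp)).symm
  rw [hC] at hmem
  have h9 : h ^ 9 = 1 := by
    have := pow_card_eq_one' (x := (⟨h, hmem⟩ : P))
    rw [hP] at this
    simpa using congrArg Subtype.val this
  rw [show 9 = 4 * 2 + 1 by norm_num, pow_succ, pow_mul, h4, one_pow, one_mul] at h9
  exact h9

/-- Fixing two independent elements means centralising. -/
theorem centralizes_of_fix (hP : Nat.card P = 9) {x b : G} (hx : x ∈ P) (hb : b ∈ P) (hx1 : x ≠ 1)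
    (hexp : ∀ p ∈ P, p ^ 3 = 1) (hbx : b ∉ Subgroup.zpowers x) {h : G}
    (e1 : h * x * h⁻¹ = x) (e2 : h * b * h⁻¹ = b) : ∀ p ∈ P, h * p * h⁻¹ = p := by
  intro p hp
  obtain ⟨i, j, -, -, rfl⟩ := exists_coords hP hx hb hx1 (hexp x hx) (hexp b hb) hbx p hp
  rw [conj_word, e1, e2]

/-- A subgroup of order four of the normalizer fixes no element of order three. -/
theorem not_fix_of_card_four (hP : Nat.card P = 9) (hcomm : ∀ p ∈ P, ∀ q ∈ P, p * q = q * p)
    (hexp : ∀ p ∈ P, p ^ 3 = 1) (hC : Subgroup.centralizer (P : Set G) = P)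
    (hHN : H ≤ Subgroup.normalizer (P : Set G)) (hH : Nat.card H = 4) {x : G} (hx : x ∈ P)
    (hx1 : x ≠ 1) (hfix : ∀ h ∈ H, h * x * h⁻¹ = x) : False := by
  classical
  have h4 : ∀ h ∈ H, h ^ 4 = 1 := fun h hh => by
    have := pow_card_eq_one' (x := (⟨h, hh⟩ : H))
    rw [hH] at this
    simpa using congrArg Subtype.val this
  obtain ⟨b, hb, hbx⟩ := exists_not_mem_zpowers hP (hexp x hx)
  have hconj : ∀ h ∈ H, ∀ p ∈ P, h * p * h⁻¹ ∈ P := fun h hh p hp =>
    (Subgroup.mem_normalizer_iff.mp (hHN hh) p).mp hp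
  have hone : ∀ h ∈ H, ∀ i : ℕ, h * b * h⁻¹ = x ^ i * b → h = 1 := by
    intro h hh i e
    refine eq_one_of_centralizes hP hC (h4 h hh)
      (centralizes_of_fix hP hx hb hx1 hexp hbx (hfix h hh) ?_)
    have key : ∀ n : ℕ, h ^ n * b * (h ^ n)⁻¹ = x ^ (n * i) * b := by
      intro n
      induction n with
      | zero => simp
      | succ n ih =>
        calc h ^ (n + 1) * b * (h ^ (n + 1))⁻¹ = h * (h ^ n * b * (h ^ n)⁻¹) * h⁻¹ := by
              rw [pow_succ']; group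
          _ = (h * x * h⁻¹) ^ (n * i) * (h * b * h⁻¹) := by rw [ih, conj_pow, conj_mul]
          _ = x ^ ((n + 1) * i) * b := by rw [hfix h hh, e, ← mul_assoc, ← pow_add]; ring_nf
    have h5 := key 4
    rw [h4 h hh, one_mul, inv_one, mul_one, right_eq_mul] at h5
    have h6 : x ^ i = 1 := by
      have h7 : x ^ (4 * i) = x ^ i := by
        rw [show 4 * i = 3 * i + i by ring, pow_add, pow_mul, hexp x hx, one_pow, one_mul]
      rw [← h7, h5]
    rw [e, h6, one_mul]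
  have htwo : ∀ h ∈ H, h ≠ 1 → ∃ i : ℕ, h * b * h⁻¹ = x ^ i * b ^ 2 := by
    intro h hh hne
    obtain ⟨i, j, -, hj, e⟩ :=
      exists_coords hP hx hb hx1 (hexp x hx) (hexp b hb) hbx _ (hconj h hh b hb)
    interval_cases j
    · refine absurd ?_ hbx
      rw [pow_zero, mul_one] at e
      have h8 : b = x ^ i := by
        have h9 : h * b * h⁻¹ = h * x ^ i * h⁻¹ := by rw [e, ← conj_pow, hfix h hh]
        exact mul_left_cancel (mul_right_cancel h9)
      rw [h8]
      exact Subgroup.npow_mem_zpowers _ _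
    · rw [pow_one] at e
      exact absurd (hone h hh i e) hne
    · exact ⟨i, e⟩
  have hprod : ∀ h ∈ H, ∀ k ∈ H, h ≠ 1 → k ≠ 1 → h * k = 1 := by
    intro h hh k hk h1 k1
    obtain ⟨i, ei⟩ := htwo h hh h1
    obtain ⟨l, el⟩ := htwo k hk k1
    refine hone _ (mul_mem hh hk) (l + 2 * i) ?_
    have hc : Commute (x ^ i) (b ^ 2) := hcomm _ (pow_mem hx i) _ (pow_mem hb 2)
    have hb4 : b ^ (2 * 2) = b := by
      rw [show 2 * 2 = 3 + 1 by norm_num, pow_succ, hexp b hb, one_mul]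
    calc h * k * b * (h * k)⁻¹ = h * (k * b * k⁻¹) * h⁻¹ := by group
      _ = (h * x * h⁻¹) ^ l * (h * b * h⁻¹) ^ 2 := by rw [el, conj_word]
      _ = x ^ (l + 2 * i) * b := by
        rw [hfix h hh, ei, hc.mul_pow, ← pow_mul, ← pow_mul, hb4, ← mul_assoc, ← pow_add]
        ring_nf
  have hsmall : ∀ h ∈ H, ∀ k ∈ H, h ≠ 1 → k ≠ 1 → h = k := fun h hh k hk h1 k1 =>
    mul_left_cancel ((hprod h hh h hh h1 h1).trans (hprod h hh k hk h1 k1).symm)
  by_cases hex : ∃ h ∈ H, h ≠ 1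
  · obtain ⟨h, hh, h1⟩ := hex
    have h2 : Nat.card H ≤ 2 := by
      refine (Nat.card_le_card_of_injective (fun k : H => decide ((k : G) = 1)) ?_).trans
        (by simp)
      intro k l e
      have e' : ((k : G) = 1) ↔ ((l : G) = 1) := by simpa using e
      apply Subtype.ext
      by_cases hk : (k : G) = 1
      · rw [hk, e'.mp hk]
      · exact hsmall k k.2 l l.2 hk fun hl => hk (e'.mpr hl)
    omega
  · simp only [not_exists, not_and, not_not] at hex
    have h2 := Subgroup.card_le_of_le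
      (show H ≤ (⊥ : Subgroup G) from fun h hh => Subgroup.mem_bot.mpr (hex h hh))
    rw [hH, Subgroup.card_bot] at h2
    omega

/-- An element inverting two independent elements inverts the whole group. -/
theorem inverts_of_inverts (hP : Nat.card P = 9) (hcomm : ∀ p ∈ P, ∀ q ∈ P, p * q = q * p)
    (hexp : ∀ p ∈ P, p ^ 3 = 1) {x b : G} (hx : x ∈ P) (hb : b ∈ P) (hx1 : x ≠ 1)
    (hbx : b ∉ Subgroup.zpowers x) {h : G} (e1 : h * x * h⁻¹ = x⁻¹) (e2 : h * b * h⁻¹ = b⁻¹) :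
    ∀ p ∈ P, h * p * h⁻¹ = p⁻¹ := by
  intro p hp
  obtain ⟨i, j, -, -, rfl⟩ := exists_coords hP hx hb hx1 (hexp x hx) (hexp b hb) hbx p hp
  rw [conj_word, e1, e2, inv_pow, inv_pow, mul_inv_rev]
  exact hcomm _ (inv_mem (pow_mem hx i)) _ (inv_mem (pow_mem hb j))

/-- A subgroup of order four of the normalizer contains an involution inverting `P`. -/
theorem exists_inverting (hP : Nat.card P = 9) (hcomm : ∀ p ∈ P, ∀ q ∈ P, p * q = q * p)
    (hexp : ∀ p ∈ P, p ^ 3 = 1) (hC : Subgroup.centralizer (P : Set G) = P)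
    (hHN : H ≤ Subgroup.normalizer (P : Set G)) (hH : Nat.card H = 4) :
    ∃ s ∈ H, orderOf s = 2 ∧ ∀ p ∈ P, s * p * s⁻¹ = p⁻¹ := by
  classical
  have : Fact (Nat.Prime 2) := ⟨Nat.prime_two⟩
  have h4 : ∀ h ∈ H, h ^ 4 = 1 := fun h hh => by
    have := pow_card_eq_one' (x := (⟨h, hh⟩ : H))
    rw [hH] at this
    simpa using congrArg Subtype.val this
  have hHcomm : ∀ a ∈ H, ∀ c ∈ H, a * c = c * a := fun a ha c hc =>
    congrArg Subtype.val (IsPGroup.commutative_of_card_eq_prime_sq (p := 2) (G := H)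
      (by rw [hH]; norm_num) ⟨a, ha⟩ ⟨c, hc⟩)
  obtain ⟨x₀, hx₀, hx₀1⟩ := P.bot_or_exists_ne_one.resolve_left fun h => by
    rw [h, Subgroup.card_bot] at hP; omega
  have hinv : ∀ h ∈ H, (∀ p ∈ P, h * p * h⁻¹ = p⁻¹) →
      ∃ s ∈ H, orderOf s = 2 ∧ ∀ p ∈ P, s * p * s⁻¹ = p⁻¹ := by
    intro h hh hi
    refine ⟨h, hh, orderOf_eq_prime ?_ fun h1 => ?_, hi⟩
    · refine eq_one_of_centralizes hP hC (h := h ^ 2)
        (by rw [← pow_mul, show 2 * 4 = 4 * 2 by norm_num, pow_mul, h4 h hh, one_pow]) fun p hp => ?_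
      calc h ^ 2 * p * (h ^ 2)⁻¹ = h * (h * p * h⁻¹) * h⁻¹ := by rw [pow_two]; group
        _ = p := by rw [hi p hp, ← conj_inv, hi p hp, inv_inv]
    · have h2 := hi x₀ hx₀
      rw [h1, one_mul, inv_one, mul_one] at h2
      refine hx₀1 ?_
      calc x₀ = x₀ ^ 3 * (x₀ * x₀)⁻¹ := by rw [pow_three]; group
        _ = 1 := by rw [hexp x₀ hx₀]; nth_rewrite 2 [h2]; simp
  obtain ⟨s', hs'⟩ := exists_prime_orderOf_dvd_card' (G := H) 2 (by rw [hH]; norm_num)
  set s : G := (s' : G) with hs_def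
  have hs : orderOf s = 2 := by rw [hs_def, Subgroup.orderOf_coe, hs']
  have hsH : s ∈ H := s'.2
  by_cases hall : ∀ p ∈ P, s * p * s⁻¹ = p⁻¹
  · exact ⟨s, hsH, hs, hall⟩
  simp only [not_forall] at hall
  obtain ⟨y, hy, hyne⟩ := hall
  have hs1 : s ≠ 1 := fun h => by rw [h, orderOf_one] at hs; omega
  have hs2 : s * s = 1 := by rw [← pow_two, ← hs, pow_orderOf_eq_one]
  have hconj : ∀ h ∈ H, ∀ p ∈ P, h * p * h⁻¹ ∈ P := fun h hh p hp =>
    (Subgroup.mem_normalizer_iff.mp (hHN hh) p).mp hp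
  have hss : ∀ p : G, s * (s * p * s⁻¹) * s⁻¹ = p := fun p => by
    calc s * (s * p * s⁻¹) * s⁻¹ = (s * s) * p * (s * s)⁻¹ := by group
      _ = p := by rw [hs2]; group
  set x := y * (s * y * s⁻¹) with hx_def
  have hx : x ∈ P := mul_mem hy (hconj s hsH y hy)
  have hx1 : x ≠ 1 := fun h => hyne (eq_inv_of_mul_eq_one_right h)
  have hsx : s * x * s⁻¹ = x := by
    rw [hx_def, ← conj_mul, hss y]
    exact hcomm _ (hconj s hsH y hy) _ hy
  obtain ⟨c, hc, hcne⟩ : ∃ c ∈ P, s * c * s⁻¹ ≠ c := by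
    by_contra h
    simp only [not_exists, not_and, not_not] at h
    exact hs1 (eq_one_of_centralizes hP hC (h4 s hsH) h)
  set b := c⁻¹ * (s * c * s⁻¹) with hb_def
  have hb : b ∈ P := mul_mem (inv_mem hc) (hconj s hsH c hc)
  have hb1 : b ≠ 1 := fun h => hcne (inv_mul_eq_one.mp h).symm
  have hsb : s * b * s⁻¹ = b⁻¹ := by
    rw [hb_def, ← conj_mul, hss c]; group
  have hb2 : ∀ j : ℕ, (b ^ j)⁻¹ = b ^ j → b ^ j = 1 := fun j h => by
    have h2 : b ^ j * b ^ j = 1 := by nth_rewrite 2 [← h]; exact mul_inv_cancel _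
    have h3 := hexp _ (pow_mem hb j)
    rwa [pow_three, h2, mul_one] at h3
  have hbx : b ∉ Subgroup.zpowers x := by
    intro h
    obtain ⟨k, hk⟩ := Subgroup.mem_zpowers_iff.mp h
    have h1 : s * b * s⁻¹ = b := by rw [← hk, ← conj_zpow, hsx]
    rw [hsb] at h1
    exact hb1 (by simpa using hb2 1 (by simpa using h1))
  obtain ⟨t, ht, ht1, hts⟩ : ∃ t ∈ H, t ≠ 1 ∧ t ≠ s := by
    by_contra h
    simp only [not_exists, not_and, not_not] at h
    have h2 : Nat.card H ≤ 2 := by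
      refine (Nat.card_le_card_of_injective (fun k : H => decide ((k : G) = 1)) ?_).trans
        (by simp)
      intro k l e
      have e' : ((k : G) = 1) ↔ ((l : G) = 1) := by simpa using e
      apply Subtype.ext
      by_cases hk : (k : G) = 1
      · rw [hk, e'.mp hk]
      · rw [h k k.2 hk, h l l.2 fun hl => hk (e'.mpr hl)]
    omega
  have hst : ∀ p, s * (t * p * t⁻¹) * s⁻¹ = t * (s * p * s⁻¹) * t⁻¹ := fun p => by
    calc s * (t * p * t⁻¹) * s⁻¹ = (s * t) * p * (s * t)⁻¹ := by group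
      _ = (t * s) * p * (t * s)⁻¹ := by rw [hHcomm s hsH t ht]
      _ = t * (s * p * s⁻¹) * t⁻¹ := by group
  obtain ⟨i, j, hi, hj, etx⟩ :=
    exists_coords hP hx hb hx1 (hexp x hx) (hexp b hb) hbx _ (hconj t ht x hx)
  obtain ⟨k, l, hk, hl, etb⟩ :=
    exists_coords hP hx hb hx1 (hexp x hx) (hexp b hb) hbx _ (hconj t ht b hb)
  have hbj : b ^ j = 1 := by
    refine hb2 j ?_
    have h1 := hst x
    rw [hsx, etx, conj_word, hsx, hsb, inv_pow] at h1
    exact mul_left_cancel h1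
  rw [hbj, mul_one] at etx
  have hxk : x ^ k = 1 := by
    have h1 := hst b
    rw [hsb, ← conj_inv, etb, conj_word, hsx, hsb, inv_pow, mul_inv_rev,
      hcomm _ (inv_mem (pow_mem hb l)) _ (inv_mem (pow_mem hx k))] at h1
    have h2 : x ^ k = (x ^ k)⁻¹ := mul_right_cancel h1
    have h3 : x ^ k * x ^ k = 1 := by nth_rewrite 2 [h2]; exact mul_inv_cancel _
    have h4 := hexp _ (pow_mem hx k)
    rwa [pow_three, h3, mul_one] at h4
  rw [hxk, one_mul] at etb
  have hxi : x ^ i = x ∨ x ^ i = x⁻¹ := by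
    interval_cases i
    · rw [pow_zero] at etx
      exact absurd (conj_eq_one_iff.mp etx) hx1
    · exact Or.inl (pow_one x)
    · exact Or.inr (eq_inv_of_mul_eq_one_left (by rw [← pow_succ, hexp x hx]))
  have hbl : b ^ l = b ∨ b ^ l = b⁻¹ := by
    interval_cases l
    · rw [pow_zero] at etb
      exact absurd (conj_eq_one_iff.mp etb) hb1
    · exact Or.inl (pow_one b)
    · exact Or.inr (eq_inv_of_mul_eq_one_left (by rw [← pow_succ, hexp b hb]))
  have htS : t * s ∈ H := mul_mem ht hsH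
  rcases hxi with e1 | e1 <;> rcases hbl with e2 | e2 <;> rw [e1] at etx <;> rw [e2] at etb
  · exact absurd (eq_one_of_centralizes hP hC (h4 t ht)
      (centralizes_of_fix hP hx hb hx1 hexp hbx etx etb)) ht1
  · have h1 : t * s = 1 := by
      refine eq_one_of_centralizes hP hC (h4 _ htS) (centralizes_of_fix hP hx hb hx1 hexp hbx ?_ ?_)
      · calc t * s * x * (t * s)⁻¹ = t * (s * x * s⁻¹) * t⁻¹ := by group
          _ = x := by rw [hsx, etx]
      · calc t * s * b * (t * s)⁻¹ = t * (s * b * s⁻¹) * t⁻¹ := by group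
          _ = b := by rw [hsb, ← conj_inv, etb, inv_inv]
    exact absurd (mul_right_cancel (h1.trans hs2.symm)) hts
  · refine hinv _ htS (inverts_of_inverts hP hcomm hexp hx hb hx1 hbx ?_ ?_)
    · calc t * s * x * (t * s)⁻¹ = t * (s * x * s⁻¹) * t⁻¹ := by group
        _ = x⁻¹ := by rw [hsx, etx]
    · calc t * s * b * (t * s)⁻¹ = t * (s * b * s⁻¹) * t⁻¹ := by group
        _ = b⁻¹ := by rw [hsb, ← conj_inv, etb]
  · exact hinv _ ht (inverts_of_inverts hP hcomm hexp hx hb hx1 hbx etx etb)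

end Cfsg.Agent.H30.Nine
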