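import Cfsg.Agent.H30.M11Facts
import Cfsg.Agent.H30.M11ThreeGroup

/-!
# Sylow 3-subgroups of a simple group of order 7920
-/

set_option autoImplicit false
set_option synthInstance.maxSize 4096
set_option maxHeartbeats 1000000

namespace Cfsg.Agent.H30.Order7920

open Finset MulAction

variable {G : Type*} [Group G] [Fintype G] [IsSimpleGroup G]
variable {z y : G} {d : Cfsg.IrrCharacter G → ℕ} {K : Finset (Cfsg.IrrCharacter G)}

omit [IsSimpleGroup G] in
/-- An element of order three is centralised by a subgroup of order dividing 144. -/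
theorem Facts.centralizer_three_dvd (F : Facts z y d K) {x : G} (hx : orderOf x = 3) :
    Nat.card (Subgroup.centralizer ({x} : Set G)) ∣ 144 := by
  have key : ∀ q : ℕ, q.Prime → q ≠ 3 →
      (∀ w : G, orderOf w = q → Nat.card (Subgroup.centralizer ({w} : Set G)) = q) →
      ¬ q ∣ Nat.card (Subgroup.centralizer ({x} : Set G)) := by
    intro q hq h3 hw hdvd
    have : Fact q.Prime := ⟨hq⟩
    obtain ⟨w, hwo⟩ := exists_prime_orderOf_dvd_card' q hdvd
    have hx' : x ∈ Subgroup.centralizer ({(w : G)} : Set G) :=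
      Subgroup.mem_centralizer_singleton_iff.mpr (Subgroup.mem_centralizer_singleton_iff.mp w.2).symm
    have h2 := Subgroup.orderOf_dvd_natCard _ hx'
    rw [hx, hw w (by rw [Subgroup.orderOf_coe, hwo])] at h2
    exact h3 ((Nat.prime_dvd_prime_iff_eq Nat.prime_three hq).mp h2).symm
  have h7920 : Nat.card (Subgroup.centralizer ({x} : Set G)) ∣ 144 * (5 * 11) :=
    (show 144 * (5 * 11) = Nat.card G by rw [F.card]) ▸ Subgroup.card_subgroup_dvd_card _
  refine (Nat.Coprime.mul_right ?_ ?_).dvd_of_dvd_mul_right h7920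
  · exact ((Nat.Prime.coprime_iff_not_dvd (by norm_num)).mpr
      (key 5 (by norm_num) (by norm_num) F.five)).symm
  · exact ((Nat.Prime.coprime_iff_not_dvd (by norm_num)).mpr
      (key 11 (by norm_num) (by norm_num) F.eleven)).symm

omit [IsSimpleGroup G] in
theorem Facts.card_three (F : Facts z y d K) (P : Sylow 3 G) : Nat.card (P : Subgroup G) = 9 :=
  (H30.card_sylow_subgroup P (a := 2) (m := 880) (by rw [F.card]; norm_num) (by norm_num)).trans
    (by norm_num)

omit [IsSimpleGroup G] in
theorem Facts.comm_three (F : Facts z y d K) (P : Sylow 3 G) :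
    ∀ p ∈ (P : Subgroup G), ∀ q ∈ (P : Subgroup G), p * q = q * p := fun p hp q hq =>
  congrArg Subtype.val (IsPGroup.commutative_of_card_eq_prime_sq (p := 3) (G := (P : Subgroup G))
    (by rw [F.card_three P]; norm_num) ⟨p, hp⟩ ⟨q, hq⟩)

omit [IsSimpleGroup G] in
theorem Facts.self_centralizing (F : Facts z y d K) (P : Sylow 3 G) :
    Subgroup.centralizer ((P : Subgroup G) : Set G) = P := by
  have : Fact (Nat.Prime 3) := ⟨Nat.prime_three⟩
  have : Fact (Nat.Prime 2) := ⟨Nat.prime_two⟩
  set C := Subgroup.centralizer ((P : Subgroup G) : Set G) with hC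
  have hle : (P : Subgroup G) ≤ C := fun p hp =>
    Subgroup.mem_centralizer_iff.mpr fun q hq => F.comm_three P q hq p hp
  obtain ⟨x, hx⟩ := exists_prime_orderOf_dvd_card' (G := (P : Subgroup G)) 3
    (by rw [F.card_three P]; norm_num)
  have hdvd : Nat.card C ∣ 144 :=
    (Subgroup.card_dvd_of_le fun c hc => Subgroup.mem_centralizer_singleton_iff.mpr
      (Subgroup.mem_centralizer_iff.mp hc (x : G) x.2).symm).trans
      (F.centralizer_three_dvd (x := (x : G)) (by rw [Subgroup.orderOf_coe, hx]))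
  have h2 : ¬ 2 ∣ Nat.card C := by
    intro h
    obtain ⟨v, hv⟩ := exists_prime_orderOf_dvd_card' 2 h
    have hv' : orderOf (v : G) = 2 := by rw [Subgroup.orderOf_coe, hv]
    have h9 := Subgroup.card_dvd_of_le (show (P : Subgroup G) ≤ Subgroup.centralizer {(v : G)} from
      fun p hp => Subgroup.mem_centralizer_singleton_iff.mpr
        (Subgroup.mem_centralizer_iff.mp v.2 p hp))
    rw [F.card_three P, (F.inv _ hv').card] at h9
    norm_num at h9
  have hcop : Nat.Coprime (Nat.card C) 16 :=
    (Nat.Coprime.pow_right 4 ((Nat.Prime.coprime_iff_not_dvd Nat.prime_two).mpr h2).symm :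
      Nat.Coprime (Nat.card C) (2 ^ 4))
  have h9 : Nat.card C ∣ 9 := hcop.dvd_of_dvd_mul_left (show Nat.card C ∣ 16 * 9 from hdvd)
  exact (Subgroup.eq_of_le_of_card_ge hle
    ((Nat.le_of_dvd (by norm_num) h9).trans (F.card_three P).ge)).symm

omit [IsSimpleGroup G] in
/-- No element of order five or eleven normalises a Sylow 3-subgroup. -/
theorem Facts.normalizer_order_ne (F : Facts z y d K) (P : Sylow 3 G) {w : G}
    (hw : w ∈ Subgroup.normalizer ((P : Subgroup G) : Set G)) :
    orderOf w ≠ 5 ∧ orderOf w ≠ 11 := by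
  classical
  have : Fact (Nat.Prime 3) := ⟨Nat.prime_three⟩
  have key : ∀ q : ℕ, q.Prime → q ≠ 3 → q ≠ 2 →
      (∀ v : G, orderOf v = q → Nat.card (Subgroup.centralizer ({v} : Set G)) = q) →
      orderOf w ≠ q := by
    intro q hq h3 h2 hv hwq
    have : Fact q.Prime := ⟨hq⟩
    let α := {p : G // p ∈ (P : Subgroup G) ∧ p ≠ 1}
    have hiff : ∀ p : G, ((MulAut.conj w).toEquiv p ∈ (P : Subgroup G) ∧
        (MulAut.conj w).toEquiv p ≠ 1) ↔ (p ∈ (P : Subgroup G) ∧ p ≠ 1) := fun p => by
      show (w * p * w⁻¹ ∈ (P : Subgroup G) ∧ w * p * w⁻¹ ≠ 1) ↔ _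
      rw [← Subgroup.mem_normalizer_iff.mp hw p, Ne, conj_eq_one_iff]
    let σ : Equiv.Perm α := Equiv.Perm.subtypePerm (MulAut.conj w).toEquiv hiff
    have hσ : ∀ (n : ℕ) (a : α), ((σ ^ n) a : G) = w ^ n * a * (w ^ n)⁻¹ := by
      intro n
      induction n with
      | zero => intro a; simp
      | succ n ih =>
        intro a
        rw [pow_succ', Equiv.Perm.mul_apply]
        show w * ((σ ^ n) a : G) * w⁻¹ = _
        rw [ih, pow_succ']
        group
    have hα : Fintype.card α = 8 := by
      have h1 : Fintype.card α + 1 = Fintype.card (P : Subgroup G) := by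
        rw [← Fintype.card_option]
        refine Fintype.card_congr
          { toFun := fun o => o.elim 1 fun a => ⟨a.1, a.2.1⟩
            invFun := fun p => if h : (p : G) = 1 then none else some ⟨p, p.2, h⟩
            left_inv := fun o => ?_
            right_inv := fun p => ?_ }
        · cases o with
          | none => simp
          | some a => simp [a.2.2]
        · by_cases h : (p : G) = 1
          · simp [h]; exact Subtype.ext h.symm
          · simp [h]
      rw [← Nat.card_eq_fintype_card (α := (P : Subgroup G)), F.card_three P] at h1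
      omega
    obtain ⟨a, ha⟩ := Equiv.Perm.exists_fixed_point_of_prime (p := q) (n := 1) (σ := σ)
      (fun hdvd => h2 ((Nat.prime_dvd_prime_iff_eq hq Nat.prime_two).mp
        (hq.dvd_of_dvd_pow (n := 3) (by rw [hα] at hdvd; exact hdvd))))
      (Equiv.ext fun a => Subtype.ext (by
        rw [hσ, pow_one, ← hwq, pow_orderOf_eq_one]; simp))
    have ha' : w * (a : G) * w⁻¹ = a := by
      have := hσ 1 a
      rw [pow_one, pow_one, ha] at this
      exact this.symm
    have h9 : (a : G) ∈ Subgroup.centralizer ({w} : Set G) :=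
      Subgroup.mem_centralizer_singleton_iff.mpr (mul_inv_eq_iff_eq_mul.mp ha').symm
    have h10 := Subgroup.orderOf_dvd_natCard _ h9
    rw [hv w hwq] at h10
    have h11 : orderOf (a : G) ∣ 9 := by
      rw [← F.card_three P]; exact Subgroup.orderOf_dvd_natCard _ a.2.1
    have h12 : orderOf (a : G) ∣ Nat.gcd q (3 ^ 2) := Nat.dvd_gcd h10 h11
    rw [Nat.Coprime.gcd_eq_one (Nat.Coprime.pow_right 2
      ((Nat.coprime_primes hq Nat.prime_three).mpr h3))] at h12
    exact a.2.2 (orderOf_eq_one_iff.mp (Nat.dvd_one.mp h12))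
  exact ⟨key 5 (by norm_num) (by norm_num) (by norm_num) F.five,
    key 11 (by norm_num) (by norm_num) (by norm_num) F.eleven⟩

omit [IsSimpleGroup G] in
theorem Facts.nine_mul_pow (P : Sylow 3 G) (hP : Nat.card (P : Subgroup G) = 9) {H : Subgroup G}
    (hle : (P : Subgroup G) ≤ H) (hdvd : Nat.card H ∣ 144) :
    ∃ i, i ≤ 4 ∧ Nat.card H = 9 * 2 ^ i := by
  obtain ⟨m, hm⟩ := (dvd_of_eq hP.symm).trans (Subgroup.card_dvd_of_le hle)
  rw [hm] at hdvd
  obtain ⟨i, hi, rfl⟩ := (Nat.dvd_prime_pow Nat.prime_two (m := 4)).mp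
    (Nat.dvd_of_mul_dvd_mul_left (k := 9) (by norm_num) hdvd)
  exact ⟨i, hi, hm⟩

/-- The order of the normalizer of a Sylow 3-subgroup. -/
theorem Facts.card_normalizer (F : Facts z y d K) (P : Sylow 3 G) :
    Nat.card (Subgroup.normalizer ((P : Subgroup G) : Set G)) = 36 ∨
      Nat.card (Subgroup.normalizer ((P : Subgroup G) : Set G)) = 144 := by
  have : Fact (Nat.Prime 3) := ⟨Nat.prime_three⟩
  have hG : ¬ IsMulCommutative G := Order7920.nonComm F.card
  set N := Subgroup.normalizer ((P : Subgroup G) : Set G) with hN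
  have h7920 : Nat.card N ∣ 144 * (5 * 11) :=
    (show 144 * (5 * 11) = Nat.card G by rw [F.card]) ▸ Subgroup.card_subgroup_dvd_card _
  have key : ∀ q : ℕ, q.Prime → (∀ w ∈ N, orderOf w ≠ q) → Nat.Coprime (Nat.card N) q := by
    intro q hq hne
    refine ((Nat.Prime.coprime_iff_not_dvd hq).mpr fun h => ?_).symm
    have : Fact q.Prime := ⟨hq⟩
    obtain ⟨w, hw⟩ := exists_prime_orderOf_dvd_card' q h
    exact hne w w.2 (by rw [Subgroup.orderOf_coe, hw])
  have hdvd : Nat.card N ∣ 144 := ((key 5 (by norm_num) fun w hw => (F.normalizer_order_ne P hw).1).mul_right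
    (key 11 (by norm_num) fun w hw => (F.normalizer_order_ne P hw).2)).dvd_of_dvd_mul_right h7920
  obtain ⟨i, hi, hcard⟩ :=
    Facts.nine_mul_pow P (F.card_three P) Subgroup.le_normalizer (H := N) hdvd
  have hmul := H30.card_sylow_mul_normalizer 3 P
  rw [← hN, hcard, F.card] at hmul
  have hmod : Nat.card (Sylow 3 G) % 3 = 1 := card_sylow_modEq_one 3 G
  have hi0 : i ≠ 0 := by
    rintro rfl
    refine H30.not_normalizer_le_centralizer hG 3 (by rw [F.card]; norm_num) P ?_
    rw [F.self_centralizing P]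
    exact le_of_eq (Subgroup.eq_of_le_of_card_ge Subgroup.le_normalizer
      (hcard.trans (by rw [F.card_three P]; norm_num)).le).symm
  generalize Nat.card (Sylow 3 G) = n at hmul hmod
  rw [hcard]
  interval_cases i <;> norm_num at hmul ⊢ <;>
    omega

/-- Sylow 3-subgroups have exponent three. -/
theorem Facts.exponent_three (F : Facts z y d K) (P : Sylow 3 G) :
    ∀ p ∈ (P : Subgroup G), p ^ 3 = 1 := by
  intro p hp
  by_contra h
  have h9 : orderOf p = 9 := by
    have h1 : orderOf p ∣ 3 ^ 2 := by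
      rw [show 3 ^ 2 = 9 by norm_num, ← F.card_three P]; exact Subgroup.orderOf_dvd_natCard _ hp
    obtain ⟨i, hi, hi'⟩ := (Nat.dvd_prime_pow Nat.prime_three).mp h1
    interval_cases i
    · exact absurd (show p ^ 3 = 1 by rw [orderOf_eq_one_iff.mp (show orderOf p = 1 by simpa using hi'), one_pow]) h
    · exact absurd (show p ^ 3 = 1 by rw [← show orderOf p = 3 by simpa using hi', pow_orderOf_eq_one]) h
    · simpa using hi'
  have : IsCyclic (P : Subgroup G) := isCyclic_of_orderOf_eq_card ⟨p, hp⟩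
    (by rw [Subgroup.orderOf_mk, h9, F.card_three P])
  have h1 := H30.relIndex_centralizer_dvd_card_mulAut (P : Subgroup G)
  rw [IsCyclic.card_mulAut, F.card_three P, F.self_centralizing P,
    show Nat.totient 9 = 6 from by decide +kernel] at h1
  have h2 := Subgroup.relIndex_mul_relIndex (⊥ : Subgroup G) (P : Subgroup G)
    (Subgroup.normalizer ((P : Subgroup G) : Set G)) bot_le Subgroup.le_normalizer
  rw [Subgroup.relIndex_bot_left, Subgroup.relIndex_bot_left, F.card_three P] at h2
  have := Nat.le_of_dvd (by norm_num) h1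
  generalize (P : Subgroup G).relIndex (Subgroup.normalizer ((P : Subgroup G) : Set G)) = r at *
  rcases F.card_normalizer P with e | e <;> rw [e] at h2
  · have : r = 4 := by omega
    subst this
    norm_num at h1
  · omega

omit [IsSimpleGroup G] in
/-- A subgroup whose order is divisible by four has a subgroup of order four. -/
theorem exists_subgroup_four {H : Subgroup G} (h : 4 ∣ Nat.card H) :
    ∃ A ≤ H, Nat.card A = 4 := by
  have : Fact (Nat.Prime 2) := ⟨Nat.prime_two⟩
  obtain ⟨A, hA⟩ := Sylow.exists_subgroup_card_pow_prime (G := H) 2 (n := 2) (by simpa using h)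
  refine ⟨A.map H.subtype, Subgroup.map_subtype_le A, ?_⟩
  rw [← Nat.card_congr (A.equivMapOfInjective H.subtype H.subtype_injective).toEquiv, hA]
  norm_num

/-- Some involution of the normalizer inverts the Sylow 3-subgroup. -/
theorem Facts.exists_inverting (F : Facts z y d K) (P : Sylow 3 G) :
    ∃ s : G, orderOf s = 2 ∧ ∀ p ∈ (P : Subgroup G), s * p * s⁻¹ = p⁻¹ := by
  obtain ⟨H, hle, hH⟩ := exists_subgroup_four
    (H := Subgroup.normalizer ((P : Subgroup G) : Set G))
    (by rcases F.card_normalizer P with e | e <;> rw [e] <;> norm_num)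
  obtain ⟨s, -, hs, hinv⟩ := Nine.exists_inverting (F.card_three P) (F.comm_three P)
    (F.exponent_three P) (F.self_centralizing P) hle hH
  exact ⟨s, hs, hinv⟩

omit [IsSimpleGroup G] in
theorem Facts.le_centralizer (F : Facts z y d K) (P : Sylow 3 G) {x : G}
    (hx : x ∈ (P : Subgroup G)) : (P : Subgroup G) ≤ Subgroup.centralizer {x} :=
  fun p hp => Subgroup.mem_centralizer_singleton_iff.mpr (F.comm_three P p hp x hx)

/-- Centralizers of elements of order three have even order. -/
theorem Facts.card_centralizer_three (F : Facts z y d K) (P : Sylow 3 G) {x : G}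
    (hx : x ∈ (P : Subgroup G)) (hx1 : x ≠ 1) :
    ∃ i, 1 ≤ i ∧ i ≤ 4 ∧ Nat.card (Subgroup.centralizer ({x} : Set G)) = 9 * 2 ^ i := by
  have hxo : orderOf x = 3 := orderOf_eq_prime (F.exponent_three P x hx) hx1
  obtain ⟨i, hi, hcard⟩ := Facts.nine_mul_pow P (F.card_three P) (F.le_centralizer P hx)
    (F.centralizer_three_dvd hxo)
  refine ⟨i, Nat.pos_of_ne_zero fun h0 => ?_, hi, hcard⟩
  obtain ⟨s, hs, hinv⟩ := F.exists_inverting P
  exact centralizer_three_ne_nine F hxo hs (hinv x hx) (by rw [hcard, h0]; norm_num)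

omit [IsSimpleGroup G] in
theorem Facts.le_normalizer_inf (F : Facts z y d K) (P : Sylow 3 G) {x : G}
    (hx : x ∈ (P : Subgroup G)) :
    (P : Subgroup G) ≤ Subgroup.normalizer ((P : Subgroup G) : Set G) ⊓ Subgroup.centralizer {x} :=
  le_inf Subgroup.le_normalizer (F.le_centralizer P hx)

/-- The centralizer within the normalizer of a nontrivial element of `P` has order 9 or 18. -/
theorem Facts.card_normalizer_centralizer (F : Facts z y d K) (P : Sylow 3 G) {x : G}
    (hx : x ∈ (P : Subgroup G)) (hx1 : x ≠ 1) :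
    Nat.card ↥(Subgroup.normalizer ((P : Subgroup G) : Set G) ⊓ Subgroup.centralizer {x}) = 9 ∨
    Nat.card ↥(Subgroup.normalizer ((P : Subgroup G) : Set G) ⊓ Subgroup.centralizer {x}) = 18 := by
  have hxo : orderOf x = 3 := orderOf_eq_prime (F.exponent_three P x hx) hx1
  obtain ⟨i, hi, hcard⟩ := Facts.nine_mul_pow P (F.card_three P) (F.le_normalizer_inf P hx)
    ((Subgroup.card_dvd_of_le inf_le_right).trans (F.centralizer_three_dvd hxo))
  by_cases h2 : 2 ≤ i
  · exfalso
    obtain ⟨A, hle, hA⟩ := exists_subgroup_four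
      (H := Subgroup.normalizer ((P : Subgroup G) : Set G) ⊓ Subgroup.centralizer {x}) (by
      rw [hcard]
      obtain ⟨j, rfl⟩ := Nat.exists_eq_add_of_le h2
      exact ⟨9 * 2 ^ j, by ring⟩)
    refine Nine.not_fix_of_card_four (F.card_three P) (F.comm_three P) (F.exponent_three P)
      (F.self_centralizing P) (hle.trans inf_le_left) hA hx hx1 fun h hh => ?_
    rw [Subgroup.mem_centralizer_singleton_iff.mp (hle hh).2, mul_inv_cancel_right]
  · rw [hcard]
    rcases (show i = 0 ∨ i = 1 by omega) with rfl | rfl <;> norm_num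

/-- The conjugates of `x` under a subgroup. -/
def conjBy (N : Subgroup G) (x : G) : Set G := {g | ∃ n ∈ N, n * x * n⁻¹ = g}

omit [IsSimpleGroup G] in
theorem card_conjBy (N : Subgroup G) {x : G} (hx : x ∈ N) :
    Nat.card (conjBy N x) * Nat.card ↥(N ⊓ Subgroup.centralizer {x}) = Nat.card N := by
  have h := H31.card_class_mul_centralizer (⟨x, hx⟩ : N)
  have e1 : Nat.card {g : N // IsConj (⟨x, hx⟩ : N) g} = Nat.card (conjBy N x) := by
    refine Nat.card_congr (Equiv.ofBijective (fun g => ⟨(g.1 : G), ?_⟩) ⟨?_, ?_⟩)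
    · obtain ⟨c, hc⟩ := isConj_iff.mp g.2
      exact ⟨c, c.2, congrArg Subtype.val hc⟩
    · intro a b e
      exact Subtype.ext (Subtype.ext (congrArg Subtype.val e :))
    · rintro ⟨g, n, hn, rfl⟩
      exact ⟨⟨⟨n * x * n⁻¹, mul_mem (mul_mem hn hx) (inv_mem hn)⟩,
        isConj_iff.mpr ⟨⟨n, hn⟩, rfl⟩⟩, rfl⟩
  have e2 : Nat.card ↥(Subgroup.centralizer ({(⟨x, hx⟩ : N)} : Set N)) =
      Nat.card ↥(N ⊓ Subgroup.centralizer {x}) := by
    refine Nat.card_congr
      { toFun := fun c => ⟨(c.1 : G), c.1.2, ?_⟩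
        invFun := fun c => ⟨⟨c.1, c.2.1⟩, ?_⟩
        left_inv := fun c => rfl
        right_inv := fun c => rfl }
    · exact Subgroup.mem_centralizer_singleton_iff.mpr
        (congrArg Subtype.val (Subgroup.mem_centralizer_singleton_iff.mp c.2))
    · exact Subgroup.mem_centralizer_singleton_iff.mpr
        (Subtype.ext (Subgroup.mem_centralizer_singleton_iff.mp c.2.2))
  rw [e1, e2] at h
  exact h

omit [IsSimpleGroup G] in
theorem Facts.card_nonidentity (F : Facts z y d K) (P : Sylow 3 G) :
    Nat.card ↥(((P : Subgroup G) : Set G) \ {1}) = 8 := by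
  rw [Nat.card_coe_set_eq, Set.ncard_sdiff_singleton_of_mem (one_mem (P : Subgroup G)),
    ← Nat.card_coe_set_eq, SetLike.coe_sort_coe, F.card_three P]

omit [IsSimpleGroup G] in
theorem conjBy_subset (P : Sylow 3 G) {x : G} (hx : x ∈ (P : Subgroup G)) (hx1 : x ≠ 1) :
    conjBy (Subgroup.normalizer ((P : Subgroup G) : Set G)) x ⊆
      ((P : Subgroup G) : Set G) \ {1} := by
  rintro g ⟨n, hn, rfl⟩
  exact ⟨(Subgroup.mem_normalizer_iff.mp hn x).mp hx, fun h => hx1 (conj_eq_one_iff.mp h)⟩

omit [IsSimpleGroup G] in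
/-- Fusion in an abelian Sylow subgroup is controlled by the normalizer. -/
theorem Facts.mem_conjBy_of_isConj (F : Facts z y d K) (P : Sylow 3 G) {x w : G}
    (hx : x ∈ (P : Subgroup G)) (hw : w ∈ (P : Subgroup G)) (h : IsConj x w) :
    w ∈ conjBy (Subgroup.normalizer ((P : Subgroup G) : Set G)) x := by
  have : Fact (Nat.Prime 3) := ⟨Nat.prime_three⟩
  have : IsMulCommutative (P : Subgroup G) :=
    ⟨⟨fun a b => Subtype.ext (F.comm_three P a a.2 b b.2)⟩⟩
  obtain ⟨g, rfl⟩ := isConj_iff.mp h
  obtain ⟨n, hn, e⟩ := P.conj_eq_normalizer_conj_of_mem x g⁻¹ hx (by rw [inv_inv]; exact hw)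
  rw [inv_inv] at e
  exact ⟨n⁻¹, inv_mem hn, by rw [inv_inv, e]⟩

omit [IsSimpleGroup G] [Fintype G] in
theorem pow_four_mul_involution {x v : G} (hx : x ^ 3 = 1) (hv : v * v = 1) (h : Commute x v) :
    (x * v) ^ 4 = x := by
  rw [h.mul_pow, show 4 = 3 + 1 by norm_num, pow_succ, hx, one_mul, pow_succ, pow_three, hv,
    mul_one, hv, mul_one]

omit [IsSimpleGroup G] [Fintype G] in
theorem not_isConj_mul_involution {x x' v v' : G} (hx : x ^ 3 = 1) (hv : v * v = 1)
    (h : Commute x v) (hx' : x' ^ 3 = 1) (hv' : v' * v' = 1) (h' : Commute x' v')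
    (hne : ¬ IsConj x x') : ¬ IsConj (x * v) (x' * v') := by
  intro hc
  obtain ⟨g, hg⟩ := isConj_iff.mp hc
  refine hne (isConj_iff.mpr ⟨g, ?_⟩)
  rw [← pow_four_mul_involution hx hv h, ← conj_pow, hg, pow_four_mul_involution hx' hv' h']

omit [IsSimpleGroup G] [Fintype G] in
theorem orderOf_mul_involution {x v : G} (hx : orderOf x = 3) (hv : orderOf v = 2)
    (h : Commute x v) : orderOf (x * v) = 6 := by
  rw [h.orderOf_mul_eq_mul_orderOf_of_coprime (by rw [hx, hv]; norm_num), hx, hv]

omit [Fintype G] [IsSimpleGroup G] in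
theorem orderOf_eq_of_isConj {a b : G} (h : IsConj a b) : orderOf a = orderOf b := by
  obtain ⟨g, rfl⟩ := isConj_iff.mp h
  exact (orderOf_injective (MulAut.conj g).toMonoidHom (MulAut.conj g).injective a).symm

/-- An involution in the centralizer of a nontrivial element of `P`. -/
theorem Facts.exists_commuting_involution (F : Facts z y d K) (P : Sylow 3 G) {x : G}
    (hx : x ∈ (P : Subgroup G)) (hx1 : x ≠ 1) : ∃ v : G, orderOf v = 2 ∧ Commute x v := by
  have : Fact (Nat.Prime 2) := ⟨Nat.prime_two⟩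
  obtain ⟨i, hi, -, hcard⟩ := F.card_centralizer_three P hx hx1
  obtain ⟨v, hv⟩ := exists_prime_orderOf_dvd_card' (G := Subgroup.centralizer ({x} : Set G)) 2
    (by rw [hcard]; exact (dvd_pow_self 2 (by omega)).mul_left 9)
  exact ⟨v, by rw [Subgroup.orderOf_coe, hv],
    (Subgroup.mem_centralizer_singleton_iff.mp v.2).symm⟩

/-- At most two classes of elements of order three meet `P`. -/
theorem Facts.no_three_classes (F : Facts z y d K) (P : Sylow 3 G) {x₁ x₂ x₃ : G}
    (h1 : x₁ ∈ (P : Subgroup G)) (h2 : x₂ ∈ (P : Subgroup G)) (h3 : x₃ ∈ (P : Subgroup G))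
    (n1 : x₁ ≠ 1) (n2 : x₂ ≠ 1) (n3 : x₃ ≠ 1) (h12 : ¬ IsConj x₁ x₂) (h13 : ¬ IsConj x₁ x₃)
    (h23 : ¬ IsConj x₂ x₃) : False := by
  classical
  have : Fact (Nat.Prime 2) := ⟨Nat.prime_two⟩
  have e1 := F.exponent_three P x₁ h1
  have e2 := F.exponent_three P x₂ h2
  have e3 := F.exponent_three P x₃ h3
  obtain ⟨v₁, hv1, c1⟩ := F.exists_commuting_involution P h1 n1
  obtain ⟨v₂, hv2, c2⟩ := F.exists_commuting_involution P h2 n2
  obtain ⟨v₃, hv3, c3⟩ := F.exists_commuting_involution P h3 n3
  have sq : ∀ {v : G}, orderOf v = 2 → v * v = 1 := fun {v} hv => by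
    rw [← pow_two, ← hv, pow_orderOf_eq_one]
  let rep : Fin 11 → G :=
    ![1, v₁, y, z, z⁻¹, x₁, x₂, x₃, x₁ * v₁, x₂ * v₂, x₃ * v₃]
  let o : Fin 11 → ℕ := ![1, 2, 5, 11, 11, 3, 3, 3, 6, 6, 6]
  have ho : ∀ i, orderOf (rep i) = o i := by
    intro i
    fin_cases i <;> dsimp [rep, o]
    · exact orderOf_one
    · exact hv1
    · exact F.order5
    · exact F.order11
    · rw [orderOf_inv]; exact F.order11
    · exact orderOf_eq_prime e1 n1
    · exact orderOf_eq_prime e2 n2
    · exact orderOf_eq_prime e3 n3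
    · exact orderOf_mul_involution (orderOf_eq_prime e1 n1) hv1 c1
    · exact orderOf_mul_involution (orderOf_eq_prime e2 n2) hv2 c2
    · exact orderOf_mul_involution (orderOf_eq_prime e3 n3) hv3 c3
  have m12 := not_isConj_mul_involution e1 (sq hv1) c1 e2 (sq hv2) c2 h12
  have m13 := not_isConj_mul_involution e1 (sq hv1) c1 e3 (sq hv3) c3 h13
  have m23 := not_isConj_mul_involution e2 (sq hv2) c2 e3 (sq hv3) c3 h23
  have hne : ∀ i j, i < j → o i = o j → ¬ IsConj (rep i) (rep j) := by
    intro i j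
    fin_cases i <;> fin_cases j <;> intro hlt ho' <;>
      first
      | exact absurd hlt (by decide)
      | exact absurd ho' (by decide)
      | exact F.zreal
      | assumption
  have hinj : Function.Injective fun i => ConjClasses.mk (rep i) := by
    intro i j e
    have hc : IsConj (rep i) (rep j) := ConjClasses.mk_eq_mk_iff_isConj.mp e
    have he : o i = o j := by rw [← ho i, ← ho j]; exact orderOf_eq_of_isConj hc
    rcases lt_trichotomy i j with h | h | h
    · exact absurd hc (hne i j h he)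
    · exact h
    · exact absurd hc.symm (hne j i h he.symm)
  have := Nat.card_le_card_of_injective _ hinj
  rw [Nat.card_eq_fintype_card, Fintype.card_fin, F.classes] at this
  omega

omit [IsSimpleGroup G] in
theorem card_class_le {g : G} (hcard : Nat.card G = 7920) {k m : ℕ}
    (hk : k ≤ Nat.card (Subgroup.centralizer ({g} : Set G))) (hm : 7920 ≤ k * m) (hk0 : 0 < k) :
    Nat.card {h : G // IsConj g h} ≤ m := by
  have h := H31.card_class_mul_centralizer g
  rw [hcard] at h
  by_contra hlt
  have := Nat.mul_le_mul (Nat.succ_le_of_lt (not_le.mp hlt)) hk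
  nlinarith

/-- Every nonidentity element has a centralizer of order at least four. -/
theorem Facts.four_le_centralizer (F : Facts z y d K) {g : G} (hg : g ≠ 1) :
    4 ≤ Nat.card (Subgroup.centralizer ({g} : Set G)) := by
  have : Fact (Nat.Prime 3) := ⟨Nat.prime_three⟩
  have hpos : 0 < Nat.card (Subgroup.centralizer ({g} : Set G)) := Nat.card_pos
  have hdvd : orderOf g ∣ Nat.card (Subgroup.centralizer ({g} : Set G)) :=
    Subgroup.orderOf_dvd_natCard _ (Subgroup.mem_centralizer_singleton_iff.mpr rfl)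
  have hle := Nat.le_of_dvd hpos hdvd
  have h0 : orderOf g ≠ 0 := (orderOf_pos g).ne'
  have h1 : orderOf g ≠ 1 := fun h => hg (orderOf_eq_one_iff.mp h)
  by_cases h2 : orderOf g = 2
  · rw [(F.inv g h2).card]; norm_num
  by_cases h3 : orderOf g = 3
  · obtain ⟨P, hP⟩ := (IsPGroup.of_card (p := 3) (n := 1) (G := Subgroup.zpowers g)
      (by rw [Nat.card_zpowers, h3, pow_one])).exists_le_sylow
    have := Subgroup.card_le_of_le (F.le_centralizer P (hP (Subgroup.mem_zpowers g)))
    rw [F.card_three P] at this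
    omega
  omega

/-- The normalizer of a Sylow 3-subgroup has order 144. -/
theorem Facts.card_normalizer_eq (F : Facts z y d K) (P : Sylow 3 G) :
    Nat.card (Subgroup.normalizer ((P : Subgroup G) : Set G)) = 144 := by
  classical
  have : Fact (Nat.Prime 2) := ⟨Nat.prime_two⟩
  have : Fact (Nat.Prime 3) := ⟨Nat.prime_three⟩
  refine (F.card_normalizer P).resolve_left fun h36 => ?_
  set N := Subgroup.normalizer ((P : Subgroup G) : Set G) with hN
  have hPN : (P : Subgroup G) ≤ N := Subgroup.le_normalizer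
  have horb : ∀ x ∈ (P : Subgroup G), x ≠ 1 → Nat.card (conjBy N x) ≤ 4 ∧
      (Nat.card (conjBy N x) = 4 →
        Nat.card ↥(N ⊓ Subgroup.centralizer {x}) = 9) := by
    intro x hx hx1
    have h := card_conjBy N (hPN hx)
    rw [h36] at h
    rcases F.card_normalizer_centralizer P hx hx1 with e | e <;> rw [← hN] at e <;> rw [e] at h ⊢ <;>
      constructor <;> intros <;> omega
  have hS := F.card_nonidentity P
  rw [Nat.card_coe_set_eq] at hS
  obtain ⟨x₁, hx₁, n₁⟩ : ∃ x ∈ (P : Subgroup G), x ≠ 1 :=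
    (P : Subgroup G).bot_or_exists_ne_one.resolve_left fun h => by
      have := F.card_three P; rw [h, Subgroup.card_bot] at this; omega
  obtain ⟨h1le, h1eq⟩ := horb x₁ hx₁ n₁
  rw [Nat.card_coe_set_eq] at h1le h1eq
  obtain ⟨x₂, ⟨hx₂, n₂⟩, hx₂'⟩ : ∃ x ∈ ((P : Subgroup G) : Set G) \ {1}, x ∉ conjBy N x₁ :=
    Set.exists_mem_notMem_of_ncard_lt_ncard (by omega)
  replace n₂ : x₂ ≠ 1 := n₂
  have h12 : ¬ IsConj x₁ x₂ := fun h => hx₂' (F.mem_conjBy_of_isConj P hx₁ hx₂ h)
  obtain ⟨h2le, h2eq⟩ := horb x₂ hx₂ n₂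
  rw [Nat.card_coe_set_eq] at h2le h2eq
  have hsum : (conjBy N x₁ ∪ conjBy N x₂).ncard = 8 := by
    refine le_antisymm ?_ ?_
    · exact hS ▸ Set.ncard_le_ncard
        (Set.union_subset (conjBy_subset P hx₁ n₁) (conjBy_subset P hx₂ n₂))
    · by_contra hlt
      obtain ⟨x₃, ⟨hx₃, n₃⟩, hx₃'⟩ :
          ∃ x ∈ ((P : Subgroup G) : Set G) \ {1}, x ∉ conjBy N x₁ ∪ conjBy N x₂ :=
        Set.exists_mem_notMem_of_ncard_lt_ncard (by omega)
      simp only [Set.mem_union, not_or] at hx₃'
      exact F.no_three_classes P hx₁ hx₂ hx₃ n₁ n₂ n₃ h12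
        (fun h => hx₃'.1 (F.mem_conjBy_of_isConj P hx₁ hx₃ h))
        (fun h => hx₃'.2 (F.mem_conjBy_of_isConj P hx₂ hx₃ h))
  have hunion := Set.ncard_union_le (conjBy N x₁) (conjBy N x₂)
  have hc1 := h1eq (by omega)
  have hc2 := h2eq (by omega)
  -- centralizers of order at least 36, and of order at least 12 for the elements of order six
  have key : ∀ x ∈ (P : Subgroup G), x ≠ 1 → Nat.card ↥(N ⊓ Subgroup.centralizer {x}) = 9 →
      36 ≤ Nat.card (Subgroup.centralizer ({x} : Set G)) ∧
      ∃ v : G, orderOf v = 2 ∧ Commute x v ∧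
        12 ≤ Nat.card (Subgroup.centralizer ({x * v} : Set G)) := by
    intro x hx hx1 hc
    obtain ⟨i, hi, hi4, hcard⟩ := F.card_centralizer_three P hx hx1
    have hPC := F.le_centralizer P hx
    have hi2 : 2 ≤ i := by
      by_contra hlt
      have hi1 : i = 1 := by omega
      have hrel : ((P : Subgroup G).subgroupOf (Subgroup.centralizer {x})).index = 2 := by
        have h2 := Subgroup.relIndex_mul_relIndex (⊥ : Subgroup G) (P : Subgroup G)
          (Subgroup.centralizer {x}) bot_le hPC
        rw [Subgroup.relIndex_bot_left, Subgroup.relIndex_bot_left, F.card_three P, hcard, hi1,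
          pow_one] at h2
        show (P : Subgroup G).relIndex (Subgroup.centralizer {x}) = 2
        omega
      have hn := Subgroup.normal_of_index_eq_two hrel
      have hle : Subgroup.centralizer ({x} : Set G) ≤ N :=
        (Subgroup.normal_subgroupOf_iff_le_normalizer hPC).mp hn
      rw [inf_eq_right.mpr hle, hcard, hi1] at hc
      norm_num at hc
    refine ⟨?_, ?_⟩
    · rw [hcard]
      have : 2 ^ 2 ≤ 2 ^ i := Nat.pow_le_pow_right (by norm_num) hi2
      omega
    obtain ⟨A, hA, hA4⟩ := exists_subgroup_four (H := Subgroup.centralizer ({x} : Set G)) (by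
      rw [hcard]
      exact (pow_dvd_pow 2 hi2).mul_left 9)
    obtain ⟨v, hv⟩ := exists_prime_orderOf_dvd_card' (G := A) 2 (by rw [hA4]; norm_num)
    have hxv : Commute x v := (Subgroup.mem_centralizer_singleton_iff.mp (hA v.2)).symm
    refine ⟨v, by rw [Subgroup.orderOf_coe, hv], hxv, ?_⟩
    have hAle : A ≤ Subgroup.centralizer ({x * (v : G)} : Set G) := fun a ha => by
      rw [Subgroup.mem_centralizer_singleton_iff]
      have hc' : Commute a (v : G) := congrArg Subtype.val
        (IsPGroup.commutative_of_card_eq_prime_sq (p := 2) (G := A) (by rw [hA4]; norm_num)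
          ⟨a, ha⟩ v)
      exact (show Commute a x from Subgroup.mem_centralizer_singleton_iff.mp (hA ha)).mul_right hc'
    have hxle : x ∈ Subgroup.centralizer ({x * (v : G)} : Set G) :=
      Subgroup.mem_centralizer_singleton_iff.mpr ((Commute.refl x).mul_right hxv)
    have d4 := Subgroup.card_dvd_of_le hAle
    rw [hA4] at d4
    have d3 := Subgroup.orderOf_dvd_natCard _ hxle
    rw [orderOf_eq_prime (F.exponent_three P x hx) hx1] at d3
    exact Nat.le_of_dvd Nat.card_pos (Nat.Coprime.mul_dvd_of_dvd_of_dvd (by norm_num) d4 d3)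
  obtain ⟨k1, v₁, hv1, c1, k1'⟩ := key x₁ hx₁ n₁ hc1
  obtain ⟨k2, v₂, hv2, c2, k2'⟩ := key x₂ hx₂ n₂ hc2
  have e1 := F.exponent_three P x₁ hx₁
  have e2 := F.exponent_three P x₂ hx₂
  have sq : ∀ {v : G}, orderOf v = 2 → v * v = 1 := fun {v} hv => by
    rw [← pow_two, ← hv, pow_orderOf_eq_one]
  let rep : Fin 9 → G := ![1, v₁, y, z, z⁻¹, x₁, x₂, x₁ * v₁, x₂ * v₂]
  let o : Fin 9 → ℕ := ![1, 2, 5, 11, 11, 3, 3, 6, 6]
  let b : Fin 9 → ℕ := ![1, 165, 1584, 720, 720, 220, 220, 660, 660]
  have ho : ∀ i, orderOf (rep i) = o i := by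
    intro i
    fin_cases i <;> dsimp [rep, o]
    · exact orderOf_one
    · exact hv1
    · exact F.order5
    · exact F.order11
    · rw [orderOf_inv]; exact F.order11
    · exact orderOf_eq_prime e1 n₁
    · exact orderOf_eq_prime e2 n₂
    · exact orderOf_mul_involution (orderOf_eq_prime e1 n₁) hv1 c1
    · exact orderOf_mul_involution (orderOf_eq_prime e2 n₂) hv2 c2
  have m12 := not_isConj_mul_involution e1 (sq hv1) c1 e2 (sq hv2) c2 h12
  have hne : ∀ i j, i < j → o i = o j → ¬ IsConj (rep i) (rep j) := by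
    intro i j
    fin_cases i <;> fin_cases j <;> intro hlt ho' <;>
      first
      | exact absurd hlt (by decide)
      | exact absurd ho' (by decide)
      | exact F.zreal
      | assumption
  have hinj : Function.Injective fun i => ConjClasses.mk (rep i) := by
    intro i j e
    have hc : IsConj (rep i) (rep j) := ConjClasses.mk_eq_mk_iff_isConj.mp e
    have he : o i = o j := by rw [← ho i, ← ho j]; exact orderOf_eq_of_isConj hc
    rcases lt_trichotomy i j with h | h | h
    · exact absurd hc (hne i j h he)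
    · exact h
    · exact absurd hc.symm (hne j i h he.symm)
  set S := Finset.univ.image fun i => ConjClasses.mk (rep i) with hSdef
  set w : ConjClasses G → ℕ := fun C =>
    (univ.filter fun g : G => ConjClasses.mk g = C).card with hw
  have htot : ∑ C, w C = 7920 := by
    rw [hw, ← Finset.card_eq_sum_card_fiberwise (fun g _ => mem_univ _), Finset.card_univ,
      ← Nat.card_eq_fintype_card, F.card]
  have hwmk : ∀ g : G, w (ConjClasses.mk g) = Nat.card {h : G // IsConj g h} := fun g => by
    rw [hw, Nat.card_eq_fintype_card, Fintype.card_subtype]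
    refine congrArg Finset.card (Finset.filter_congr fun h _ => ?_)
    rw [ConjClasses.mk_eq_mk_iff_isConj]
    exact isConj_comm
  have hb : ∀ i, w (ConjClasses.mk (rep i)) ≤ b i := by
    intro i
    rw [hwmk]
    fin_cases i <;> dsimp [rep, b]
    · refine card_class_le F.card (k := 7920) ?_ (by norm_num) (by norm_num)
      rw [← F.card]
      refine le_of_eq ?_
      rw [Subgroup.centralizer_eq_top_iff_subset.mpr (by simp), Subgroup.card_top]
    · exact card_class_le F.card (F.inv _ hv1).card.ge (by norm_num) (by norm_num)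
    · exact card_class_le F.card (F.five y F.order5).ge (by norm_num) (by norm_num)
    · exact card_class_le F.card (F.eleven z F.order11).ge (by norm_num) (by norm_num)
    · exact card_class_le F.card (F.eleven z⁻¹ (by rw [orderOf_inv, F.order11])).ge
        (by norm_num) (by norm_num)
    · exact card_class_le F.card k1 (by norm_num) (by norm_num)
    · exact card_class_le F.card k2 (by norm_num) (by norm_num)
    · exact card_class_le F.card k1' (by norm_num) (by norm_num)
    · exact card_class_le F.card k2' (by norm_num) (by norm_num)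
  have hSsum : ∑ C ∈ S, w C ≤ 4950 := by
    rw [hSdef, Finset.sum_image fun i _ j _ e => hinj e]
    refine (Finset.sum_le_sum fun i _ => hb i).trans ?_
    decide +kernel
  have hrest : ∀ C ∈ univ \ S, w C ≤ 1980 := by
    intro C hC
    obtain ⟨g, rfl⟩ := ConjClasses.exists_rep C
    rw [hwmk]
    refine card_class_le F.card (k := 4) (F.four_le_centralizer fun h => ?_) (by norm_num)
      (by norm_num)
    simp only [hSdef, mem_sdiff, mem_univ, true_and, mem_image, not_exists] at hC
    exact hC 0 (by rw [h]; rfl)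
  have hcardS : (univ \ S).card = 1 := by
    rw [Finset.card_univ_sdiff, hSdef, Finset.card_image_of_injective _ hinj, Finset.card_univ,
      Fintype.card_fin, ← Nat.card_eq_fintype_card, F.classes]
  have h10 : ∑ C ∈ univ \ S, w C ≤ 1980 := by
    simpa [hcardS] using Finset.sum_le_card_nsmul (univ \ S) w 1980 hrest
  have h11 := Finset.sum_sdiff (f := w) (Finset.subset_univ S)
  omega

/-- All nontrivial elements of `P` are conjugate, and each fixes a single Sylow 3-subgroup. -/
theorem Facts.fixed_sylow (F : Facts z y d K) (P : Sylow 3 G) {x : G}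
    (hx : x ∈ (P : Subgroup G)) (hx1 : x ≠ 1) : ∀ Q : Sylow 3 G, x • Q = Q → Q = P := by
  classical
  have : Fact (Nat.Prime 3) := ⟨Nat.prime_three⟩
  set N := Subgroup.normalizer ((P : Subgroup G) : Set G) with hN
  have hPN : (P : Subgroup G) ≤ N := Subgroup.le_normalizer
  have h144 := F.card_normalizer_eq P
  have horb : ∀ a ∈ (P : Subgroup G), a ≠ 1 →
      conjBy N a = ((P : Subgroup G) : Set G) \ {1} ∧
      Nat.card ↥(N ⊓ Subgroup.centralizer {a}) = 18 := by
    intro a ha ha1
    have h := card_conjBy N (hPN ha)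
    have hle : Nat.card (conjBy N a) ≤ 8 := by
      rw [← F.card_nonidentity P, Nat.card_coe_set_eq, Nat.card_coe_set_eq]
      exact Set.ncard_le_ncard (conjBy_subset P ha ha1)
    rw [← hN] at h144
    rw [h144] at h
    rcases F.card_normalizer_centralizer P ha ha1 with e | e <;> rw [← hN] at e <;> rw [e] at h
    · omega
    refine ⟨Set.eq_of_subset_of_ncard_le (conjBy_subset P ha ha1) ?_, e⟩
    rw [← Nat.card_coe_set_eq, ← Nat.card_coe_set_eq, F.card_nonidentity P]
    omega
  -- the number of Sylow subgroups fixed by `a`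
  have hfix : ∀ a ∈ (P : Subgroup G), a ≠ 1 →
      Nat.card (fixedBy (Sylow 3 G) a) * 18 =
        Nat.card (Subgroup.centralizer ({a} : Set G)) := by
    intro a ha ha1
    set C := Subgroup.centralizer ({a} : Set G) with hC
    have hPC := F.le_centralizer P ha
    have heq : fixedBy (Sylow 3 G) a = MulAction.orbit C P := by
      ext Q
      constructor
      · intro hQ
        have haQ : a ∈ (Q : Subgroup G) := by
          have hp : IsPGroup 3 (Subgroup.zpowers a) :=
            IsPGroup.of_card (n := 1) (by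
              rw [Nat.card_zpowers, pow_one]
              exact orderOf_eq_prime (F.exponent_three P a ha) ha1)
          have h1 : a ∈ Subgroup.zpowers a ⊓ Subgroup.normalizer (Q : Set G) :=
            ⟨Subgroup.mem_zpowers a, Sylow.smul_eq_iff_mem_normalizer.mp hQ⟩
          rw [hp.inf_normalizer_sylow Q] at h1
          exact h1.2
        obtain ⟨c, hc⟩ := MulAction.exists_smul_eq C (P.subtype hPC)
          (Q.subtype (F.le_centralizer Q haQ))
        rw [Sylow.smul_subtype] at hc
        exact ⟨c, Sylow.subtype_injective hc⟩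
      · rintro ⟨c, rfl⟩
        show a • ((c : G) • P) = (c : G) • P
        rw [smul_smul, (Subgroup.mem_centralizer_singleton_iff.mp c.2).symm, mul_smul,
          Sylow.smul_eq_iff_mem_normalizer.mpr (hPN ha)]
    have hstab : MulAction.stabilizer C P = N.subgroupOf C := by
      ext c
      rw [MulAction.mem_stabilizer_iff, Subgroup.mem_subgroupOf, Subgroup.smul_def,
        Sylow.smul_eq_iff_mem_normalizer]
      rfl
    have h1 := Subgroup.index_mul_card (MulAction.stabilizer C P)
    rw [MulAction.index_stabilizer, ← Nat.card_coe_set_eq, ← heq, hstab] at h1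
    rw [← h1]
    congr 1
    rw [← (horb a ha ha1).2]
    exact Nat.card_congr
      { toFun := fun c => ⟨⟨c.1, c.2.2⟩, c.2.1⟩
        invFun := fun c => ⟨c.1.1, c.2, c.1.2⟩
        left_inv := fun c => rfl
        right_inv := fun c => rfl }
  obtain ⟨i, hi1, hi4, hi⟩ := F.card_centralizer_three P hx hx1
  set k := Nat.card (fixedBy (Sylow 3 G) x) with hk
  have hkeq : ∀ a ∈ (P : Subgroup G), a ≠ 1 → Nat.card (fixedBy (Sylow 3 G) a) = k := by
    intro a ha ha1
    obtain ⟨n, -, hn⟩ : a ∈ conjBy N x := (horb x hx hx1).1.symm ▸ ⟨ha, ha1⟩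
    have h1 := hfix a ha ha1
    rw [← H26.card_centralizer_eq_of_isConj (isConj_iff.mpr ⟨n, hn⟩ : IsConj x a),
      ← hfix x hx hx1] at h1
    exact Nat.eq_of_mul_eq_mul_right (by norm_num) h1
  have h55 : Nat.card (Sylow 3 G) = 55 := by
    have h := H30.card_sylow_mul_normalizer 3 P
    rw [h144, F.card] at h
    omega
  let _ : Fintype (Sylow 3 G) := Fintype.ofFinite _
  have hB := MulAction.sum_card_fixedBy_eq_card_orbits_mul_card_group (P : Subgroup G)
    (Sylow 3 G)
  have hsum : ∑ a : (P : Subgroup G), Fintype.card (fixedBy (Sylow 3 G) a) = 55 + 8 * k := by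
    rw [← Finset.add_sum_erase _ _ (mem_univ (1 : (P : Subgroup G)))]
    congr 1
    · rw [← Nat.card_eq_fintype_card, ← h55]
      exact Nat.card_congr (Equiv.subtypeUnivEquiv fun Q => one_smul _ Q)
    · rw [Finset.sum_congr rfl fun a ha => (show Fintype.card (fixedBy (Sylow 3 G) a) = k by
        rw [← Nat.card_eq_fintype_card]
        exact hkeq a a.2 fun h => (Finset.mem_erase.mp ha).1 (Subtype.ext h)),
        Finset.sum_const, smul_eq_mul, Finset.card_erase_of_mem (mem_univ _), Finset.card_univ,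
        ← Nat.card_eq_fintype_card, F.card_three P]
  rw [hsum, ← Nat.card_eq_fintype_card (α := (P : Subgroup G)), F.card_three P] at hB
  generalize Fintype.card (Quotient (MulAction.orbitRel (P : Subgroup G) (Sylow 3 G))) = m at hB
  have hk18 := hfix x hx hx1
  rw [← hk, hi] at hk18
  have hk1 : k = 1 := by
    interval_cases i <;>
      simp only [pow_one, Nat.reducePow, Nat.reduceMul] at hk18 <;> omega
  intro Q hQ
  obtain ⟨Q₀, hQ₀⟩ := Nat.card_eq_one_iff_exists.mp (hk ▸ hk1)
  have hP' : x • P = P := Sylow.smul_eq_iff_mem_normalizer.mpr (hPN hx)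
  exact congrArg Subtype.val ((hQ₀ ⟨Q, hQ⟩).trans (hQ₀ ⟨P, hP'⟩).symm)

/-- The Sylow 3-subgroups of a simple group of order 7920. -/
structure ThreeData (G : Type*) [Group G] : Prop where
  card : Nat.card (Sylow 3 G) = 55
  stab : ∀ P : Sylow 3 G, Nat.card (MulAction.stabilizer G P) = 144
  fix : ∀ w : G, w ≠ 1 → w ^ 3 = 1 → ∀ P Q : Sylow 3 G, w • P = P → w • Q = Q → P = Q
  exp : ∀ w : G, w ^ 9 = 1 → w ^ 3 = 1

theorem Facts.threeData (F : Facts z y d K) : ThreeData G := by
  have : Fact (Nat.Prime 3) := ⟨Nat.prime_three⟩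
  refine ⟨?_, fun P => ?_, fun w hw hw3 P Q hP hQ => ?_, fun w hw => ?_⟩
  · have h := H30.card_sylow_mul_normalizer 3 (default : Sylow 3 G)
    rw [F.card_normalizer_eq, F.card] at h
    omega
  · rw [Sylow.stabilizer_eq_normalizer]
    exact F.card_normalizer_eq P
  · obtain ⟨R, hR⟩ := (IsPGroup.of_card (p := 3) (n := 1) (G := Subgroup.zpowers w)
      (by rw [Nat.card_zpowers, pow_one]; exact orderOf_eq_prime hw3 hw)).exists_le_sylow
    have hwR : w ∈ (R : Subgroup G) := hR (Subgroup.mem_zpowers w)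
    exact (F.fixed_sylow R hwR hw P hP).trans (F.fixed_sylow R hwR hw Q hQ).symm
  · obtain ⟨j, -, hj⟩ := (Nat.dvd_prime_pow Nat.prime_three (m := 2)).mp
      (show orderOf w ∣ 3 ^ 2 from orderOf_dvd_of_pow_eq_one hw)
    obtain ⟨R, hR⟩ := (IsPGroup.of_card (p := 3) (n := j) (G := Subgroup.zpowers w)
      (by rw [Nat.card_zpowers, hj])).exists_le_sylow
    exact F.exponent_three R w (hR (Subgroup.mem_zpowers w))

end Cfsg.Agent.H30.Order7920
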