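import Mathlib

/-!
# The eleven cliques of a rank three action on 55 points
-/

set_option autoImplicit false
set_option maxHeartbeats 800000

namespace Cfsg.Agent.H30.Triangle

open MulAction Finset
open scoped Pointwise

variable {G : Type*} [Group G] [Finite G] {Ω : Type*} [MulAction G Ω]

/-- The hypotheses on a rank three action on 55 points. -/
structure Data (G Ω : Type*) [Group G] [MulAction G Ω] : Prop where
  trans : IsPretransitive G Ω
  card : Nat.card Ω = 55
  stab : ∀ a : Ω, Nat.card (stabilizer G a) = 144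
  fix : ∀ w : G, w ≠ 1 → w ^ 3 = 1 → ∀ a b : Ω, w • a = a → w • b = b → a = b
  exp : ∀ w : G, w ^ 9 = 1 → w ^ 3 = 1
  pairs : Nat.card (Quotient (orbitRel G (Ω × Ω))) = 3

/-- The order of the stabiliser of a pair. -/
noncomputable def pairCard (G : Type*) {Ω : Type*} [Group G] [MulAction G Ω] (a b : Ω) : ℕ :=
  Nat.card ↥(stabilizer G a ⊓ stabilizer G b)

/-- The graph given by the shorter suborbit. -/
def Adj (G : Type*) {Ω : Type*} [Group G] [MulAction G Ω] (a b : Ω) : Prop :=
  a ≠ b ∧ pairCard G a b = 8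

omit [Finite G] in
theorem pairCard_comm (a b : Ω) : pairCard G a b = pairCard G b a := by
  rw [pairCard, pairCard, inf_comm]

omit [Finite G] in
theorem pairCard_smul (g : G) (a b : Ω) : pairCard G (g • a) (g • b) = pairCard G a b := by
  rw [pairCard, pairCard, stabilizer_smul_eq_stabilizer_map_conj,
    stabilizer_smul_eq_stabilizer_map_conj,
    ← Subgroup.map_inf _ _ (MulAut.conj g).toMonoidHom (MulAut.conj g).injective]
  exact (Nat.card_congr (Subgroup.equivMapOfInjective _ _ (MulAut.conj g).injective).toEquiv).symm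

omit [Finite G] in
theorem adj_comm {a b : Ω} (h : Adj G a b) : Adj G b a := ⟨h.1.symm, (pairCard_comm (G := G) b a).trans h.2⟩

omit [Finite G] in
theorem adj_smul_iff (g : G) (a b : Ω) : Adj G (g • a) (g • b) ↔ Adj G a b := by
  rw [Adj, Adj, pairCard_smul, Ne, smul_left_cancel_iff]

theorem orbit_mul_pairCard (D : Data G Ω) (a b : Ω) :
    (orbit (stabilizer G a) b).ncard * pairCard G a b = 144 := by
  have h := Subgroup.index_mul_card (stabilizer (stabilizer G a) b)
  rw [index_stabilizer, D.stab] at h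
  rw [← h]
  congr 1
  exact Nat.card_congr
    { toFun := fun c => ⟨⟨c.1, c.2.1⟩, c.2.2⟩
      invFun := fun c => ⟨c.1.1, c.1.2, c.2⟩
      left_inv := fun c => rfl
      right_inv := fun c => rfl }

theorem pairCard_dvd (D : Data G Ω) {a b : Ω} (h : a ≠ b) : pairCard G a b ∣ 16 := by
  have : Fact (Nat.Prime 3) := ⟨Nat.prime_three⟩
  have h3 : ¬ 3 ∣ pairCard G a b := by
    intro hd
    obtain ⟨w, hw⟩ := exists_prime_orderOf_dvd_card' (G := ↥(stabilizer G a ⊓ stabilizer G b)) 3 hd
    have hwo : orderOf (w : G) = 3 := by rw [Subgroup.orderOf_coe, hw]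
    exact h (D.fix w (fun e => by rw [e, orderOf_one] at hwo; omega)
      (by rw [← hwo, pow_orderOf_eq_one]) a b w.2.1 w.2.2)
  have hcop : Nat.Coprime (pairCard G a b) 9 :=
    (Nat.Coprime.pow_right 2 ((Nat.Prime.coprime_iff_not_dvd Nat.prime_three).mpr h3).symm :
      Nat.Coprime (pairCard G a b) (3 ^ 2))
  exact hcop.dvd_of_dvd_mul_right
    (Dvd.intro_left _ (orbit_mul_pairCard D a b) : pairCard G a b ∣ 16 * 9)

omit [Finite G] in
theorem orbit_subset_ne {a b : Ω} (h : a ≠ b) : a ∉ orbit (stabilizer G a) b := by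
  rintro ⟨⟨g, hg⟩, e⟩
  change g • b = a at e
  exact h (smul_left_cancel g ((mem_stabilizer_iff.mp hg).trans e.symm))

omit [Finite G] in
theorem pairCard_of_mem_orbit {a b d : Ω} (h : d ∈ orbit (stabilizer G a) b) :
    pairCard G a d = pairCard G a b := by
  obtain ⟨⟨g, hg⟩, rfl⟩ := h
  show pairCard G a (g • b) = _
  nth_rewrite 1 [← mem_stabilizer_iff.mp hg]
  exact pairCard_smul g a b

/-- A point stabiliser has orbits of lengths 18 and 36 on the other points. -/
theorem exists_suborbits (D : Data G Ω) (a : Ω) :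
    ∃ b c : Ω, Adj G a b ∧ a ≠ c ∧ ¬ Adj G a c ∧ (orbit (stabilizer G a) b).ncard = 18 ∧
      (∀ d, Adj G a d → d ∈ orbit (stabilizer G a) b) ∧
      (∀ d, a ≠ d → ¬ Adj G a d → d ∈ orbit (stabilizer G a) c) := by
  classical
  have := D.trans
  have : Finite Ω := Nat.finite_of_card_ne_zero (by rw [D.card]; norm_num)
  let _ : Fintype (Quotient (orbitRel G (Ω × Ω))) := Fintype.ofFinite _
  let q : Ω × Ω → Quotient (orbitRel G (Ω × Ω)) := Quotient.mk _
  have hq : ∀ b d, q (a, d) = q (a, b) → d ∈ orbit (stabilizer G a) b := by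
    intro b d e
    obtain ⟨g, hg⟩ := MulAction.orbitRel_apply.mp (Quotient.exact e)
    exact ⟨⟨g, congrArg Prod.fst hg⟩, congrArg Prod.snd hg⟩
  have hfirst : ∀ v, ∃ d, q (a, d) = v := by
    intro v
    induction v using Quotient.inductionOn with
    | h p =>
      obtain ⟨g, hg⟩ := MulAction.exists_smul_eq G p.1 a
      exact ⟨g • p.2, Quotient.sound (MulAction.orbitRel_apply.mpr ⟨g, Prod.ext hg rfl⟩)⟩
  obtain ⟨b, hb⟩ : ∃ b, q (a, b) ≠ q (a, a) := by
    by_contra h
    simp only [not_exists, not_not] at h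
    have h1 : ∀ v, v = q (a, a) := fun v => by obtain ⟨d, rfl⟩ := hfirst v; exact h d
    have h3 := D.pairs
    have : Subsingleton (Quotient (orbitRel G (Ω × Ω))) := ⟨fun v w => (h1 v).trans (h1 w).symm⟩
    have := Finite.card_le_one_iff_subsingleton.mpr this
    omega
  obtain ⟨c, hca, hcb⟩ : ∃ c, q (a, c) ≠ q (a, a) ∧ q (a, c) ≠ q (a, b) := by
    by_contra h
    simp only [not_exists, not_and, not_not] at h
    have h1 : ∀ v, v = q (a, a) ∨ v = q (a, b) := fun v => by
      obtain ⟨d, rfl⟩ := hfirst v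
      by_cases e : q (a, d) = q (a, a)
      · exact Or.inl e
      · exact Or.inr (h d e)
    have h2 : (Finset.univ : Finset (Quotient (orbitRel G (Ω × Ω)))) ⊆ {q (a, a), q (a, b)} :=
      fun v _ => by simpa using h1 v
    have := (Finset.card_le_card h2).trans Finset.card_le_two
    rw [Finset.card_univ, ← Nat.card_eq_fintype_card, D.pairs] at this
    omega
  have hab : a ≠ b := fun e => hb (e ▸ rfl)
  have hac : a ≠ c := fun e => hca (e ▸ rfl)
  have hall : ∀ d, a ≠ d → d ∈ orbit (stabilizer G a) b ∨ d ∈ orbit (stabilizer G a) c := by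
    intro d hd
    have h3 : ({q (a, a), q (a, b), q (a, c)} : Finset _) =
        (Finset.univ : Finset (Quotient (orbitRel G (Ω × Ω)))) := by
      apply Finset.eq_univ_of_card
      rw [← Nat.card_eq_fintype_card, D.pairs]
      exact Finset.card_eq_three.mpr ⟨_, _, _, hb.symm, hca.symm, hcb.symm, rfl⟩
    have h4 : q (a, d) ∈ ({q (a, a), q (a, b), q (a, c)} : Finset _) := h3 ▸ Finset.mem_univ _
    simp only [Finset.mem_insert, Finset.mem_singleton] at h4
    rcases h4 with e | e | e
    · obtain ⟨⟨g, hg⟩, e'⟩ := hq a d e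
      exact absurd ((mem_stabilizer_iff.mp hg).symm.trans e') hd
    · exact Or.inl (hq b d e)
    · exact Or.inr (hq c d e)
  have hdisj : Disjoint (orbit (stabilizer G a) b) (orbit (stabilizer G a) c) := by
    rw [Set.disjoint_left]
    intro d hdb hdc
    obtain ⟨g, rfl⟩ := hdb
    obtain ⟨h, hh⟩ := hdc
    refine hcb (Quotient.sound (MulAction.orbitRel_apply.mpr ⟨((h⁻¹ * g : stabilizer G a) : G), ?_⟩))
    have e1 : (h⁻¹ * g) • b = c := by rw [mul_smul, inv_smul_eq_iff]; exact hh.symm
    exact Prod.ext (mem_stabilizer_iff.mp (h⁻¹ * g).2) e1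
  have hsum : (orbit (stabilizer G a) b).ncard + (orbit (stabilizer G a) c).ncard = 54 := by
    rw [← Set.ncard_union_eq hdisj,
      show orbit (stabilizer G a) b ∪ orbit (stabilizer G a) c = {a}ᶜ from ?_,
      Set.ncard_compl, Set.ncard_singleton, D.card]
    ext d
    constructor
    · rintro (hd | hd) e <;> rw [Set.mem_singleton_iff] at e <;> subst e
      · exact orbit_subset_ne hab hd
      · exact orbit_subset_ne hac hd
    · exact fun hd => hall d fun e => hd e.symm
  have key : ∀ d, a ≠ d → (orbit (stabilizer G a) d).ncard = 18 ∧ pairCard G a d = 8 ∨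
      (orbit (stabilizer G a) d).ncard ∈ [9, 36, 72, 144] ∧ pairCard G a d ≠ 8 := by
    intro d hd
    have h := orbit_mul_pairCard D a d
    obtain ⟨i, hi, e⟩ := (Nat.dvd_prime_pow Nat.prime_two (m := 4)).mp (pairCard_dvd D hd)
    rw [e] at h ⊢
    simp only [List.mem_cons, List.not_mem_nil, or_false]
    interval_cases i <;> norm_num at h ⊢ <;> omega
  have fin : ∀ b c : Ω, a ≠ b → a ≠ c →
      (orbit (stabilizer G a) b).ncard + (orbit (stabilizer G a) c).ncard = 54 →
      (orbit (stabilizer G a) b).ncard = 18 → pairCard G a b = 8 →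
      (∀ d, a ≠ d → d ∈ orbit (stabilizer G a) b ∨ d ∈ orbit (stabilizer G a) c) →
      ∃ b c : Ω, Adj G a b ∧ a ≠ c ∧ ¬ Adj G a c ∧ (orbit (stabilizer G a) b).ncard = 18 ∧
        (∀ d, Adj G a d → d ∈ orbit (stabilizer G a) b) ∧
        (∀ d, a ≠ d → ¬ Adj G a d → d ∈ orbit (stabilizer G a) c) := by
    intro b c hb hc hs h18 h8 hall
    have hc8 : pairCard G a c ≠ 8 := by
      rcases key c hc with ⟨e, -⟩ | ⟨-, e⟩
      · omega
      · exact e
    exact ⟨b, c, ⟨hb, h8⟩, hc, fun h => hc8 h.2, h18,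
      fun d hd => (hall d hd.1).resolve_right fun h => hc8 (pairCard_of_mem_orbit h ▸ hd.2),
      fun d hd hn => (hall d hd).resolve_left fun h =>
        hn ⟨hd, (pairCard_of_mem_orbit h).trans h8⟩⟩
  rcases key b hab with ⟨eb, pb⟩ | ⟨eb, -⟩
  · exact fin b c hab hac hsum eb pb hall
  · rcases key c hac with ⟨ec, pc⟩ | ⟨ec, -⟩
    · exact fin c b hac hab (by omega) ec pc fun d hd => (hall d hd).symm
    · simp only [List.mem_cons, List.not_mem_nil, or_false] at eb ec
      omega

section Graph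

variable [Fintype Ω] [DecidableEq Ω]

/-- The neighbours of a point. -/
noncomputable def nb (G : Type*) {Ω : Type*} [Group G] [MulAction G Ω] [Fintype Ω] (a : Ω) :
    Finset Ω := by
  classical exact univ.filter (Adj G a)

omit [Finite G] [DecidableEq Ω] in
theorem mem_nb {a b : Ω} : b ∈ nb G a ↔ Adj G a b := by simp [nb]

omit [DecidableEq Ω] in
theorem card_nb (D : Data G Ω) (a : Ω) : (nb G a).card = 18 := by
  obtain ⟨b, c, hb, -, -, h18, hall, -⟩ := exists_suborbits D a
  rw [← h18, ← Set.ncard_coe_finset]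
  congr 1
  ext d
  rw [Finset.mem_coe, mem_nb]
  exact ⟨hall d, fun h => ⟨fun e => orbit_subset_ne hb.1 (by
    have h' := h; rw [← e] at h'; exact h'),
    (pairCard_of_mem_orbit h).trans hb.2⟩⟩

omit [Finite G] in
theorem card_common_smul (g : G) (a b : Ω) :
    (nb G (g • a) ∩ nb G (g • b)).card = (nb G a ∩ nb G b).card := by
  refine (Finset.card_equiv (MulAction.toPerm g) fun w => ?_).symm
  simp only [mem_inter, mem_nb, MulAction.toPerm_apply, adj_smul_iff]

/-- Both kinds of pairs have constant numbers of common neighbours. -/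
theorem exists_params (D : Data G Ω) : ∃ l m : ℕ,
    (∀ a b : Ω, Adj G a b → (nb G a ∩ nb G b).card = l) ∧
    (∀ a b : Ω, a ≠ b → ¬ Adj G a b → (nb G a ∩ nb G b).card = m) ∧
    18 + 18 * l + 36 * m = 324 := by
  classical
  have := D.trans
  obtain ⟨a₀⟩ : Nonempty Ω := Finite.card_pos_iff.mp (by rw [D.card]; norm_num)
  obtain ⟨b₀, c₀, hb₀, -, -, -, hb, hc⟩ := exists_suborbits D a₀
  have key : ∀ (e₀ p q : Ω) (g : G), g • p = a₀ → g • q ∈ orbit (stabilizer G a₀) e₀ →
      (nb G p ∩ nb G q).card = (nb G a₀ ∩ nb G e₀).card := by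
    intro e₀ p q g hg hmem
    obtain ⟨⟨h, hh⟩, he⟩ := hmem
    change h • e₀ = g • q at he
    rw [← card_common_smul g p q, hg, ← he]
    nth_rewrite 1 [← mem_stabilizer_iff.mp hh]
    rw [card_common_smul]
  set l := (nb G a₀ ∩ nb G b₀).card with hl
  set m := (nb G a₀ ∩ nb G c₀).card with hm
  have h1 : ∀ p q : Ω, Adj G p q → (nb G p ∩ nb G q).card = l := by
    intro p q h
    obtain ⟨g, hg⟩ := MulAction.exists_smul_eq G p a₀
    exact key b₀ p q g hg (hb _ (hg ▸ (adj_smul_iff g p q).mpr h))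
  have h2 : ∀ p q : Ω, p ≠ q → ¬ Adj G p q → (nb G p ∩ nb G q).card = m := by
    intro p q hne h
    obtain ⟨g, hg⟩ := MulAction.exists_smul_eq G p a₀
    exact key c₀ p q g hg (hc _ (hg ▸ fun e => hne (smul_left_cancel g e))
      (hg ▸ fun e => h ((adj_smul_iff g p q).mp e)))
  refine ⟨l, m, h1, h2, ?_⟩
  have hcount : ∑ x, (nb G a₀ ∩ nb G x).card = 324 := by
    have : ∀ x, (nb G a₀ ∩ nb G x).card = ∑ w ∈ nb G a₀, if Adj G w x then 1 else 0 := by
      intro x
      rw [Finset.sum_boole, Nat.cast_id]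
      congr 1
      ext w
      simp only [mem_inter, mem_nb, mem_filter]
      exact ⟨fun h => ⟨h.1, adj_comm h.2⟩, fun h => ⟨h.1, adj_comm h.2⟩⟩
    rw [Finset.sum_congr rfl fun x _ => this x, Finset.sum_comm]
    have h18 : ∀ w ∈ nb G a₀, (∑ x, if Adj G w x then 1 else 0) = 18 := by
      intro w _
      rw [Finset.sum_boole, Nat.cast_id, ← card_nb D w]
      congr 1
    rw [Finset.sum_congr rfl h18, Finset.sum_const, card_nb D, smul_eq_mul]
  have hval : ∀ x, (nb G a₀ ∩ nb G x).card =
      (if x = a₀ then 18 else 0) + (if x ∈ nb G a₀ then l else 0) +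
        (if x ∈ (univ.erase a₀) \ nb G a₀ then m else 0) := by
    intro x
    by_cases hx : x = a₀
    · subst hx
      simp [card_nb D, mem_nb, Adj]
    by_cases hadj : Adj G a₀ x
    · simp [hx, mem_nb, hadj, h1 _ _ hadj]
    · simp [hx, mem_nb, hadj, h2 _ _ (Ne.symm hx) hadj]
  rw [Finset.sum_congr rfl fun x _ => hval x, Finset.sum_add_distrib, Finset.sum_add_distrib,
    Finset.sum_ite_eq' univ a₀ fun _ => 18, if_pos (mem_univ _), Finset.sum_ite_mem,
    Finset.univ_inter, Finset.sum_ite_mem, Finset.univ_inter, Finset.sum_const, Finset.sum_const,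
    card_nb D, smul_eq_mul, smul_eq_mul, Finset.card_sdiff_of_subset (fun x hx => by
      rw [mem_erase]; exact ⟨fun e => (mem_nb.mp hx).1 e.symm, mem_univ x⟩),
    card_erase_of_mem (mem_univ _), card_univ, ← Nat.card_eq_fintype_card, D.card, card_nb D]
    at hcount
  omega

theorem paramArith : ∀ m : ℕ, m < 9 → ∀ k : ℕ, k < 56 →
    (54 * (17 - 3 * (m : ℤ)) + 36) ^ 2 =
      ((17 - 3 * (m : ℤ)) ^ 2 + 4 * (18 - m)) * (2 * k - 54) ^ 2 → m = 4 := by
  decide +kernel

/-- An idempotent real matrix has trace a natural number at most its size. -/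
theorem exists_nat_trace {n : Type*} [Fintype n] [DecidableEq n] {M : Matrix n n ℝ}
    (hM : IsIdempotentElem M) : ∃ k : ℕ, k ≤ Fintype.card n ∧ M.trace = k := by
  have hlin : IsIdempotentElem (Matrix.toLin' M) := hM.map (Matrix.toLinAlgEquiv' (R := ℝ) (n := n))
  have hk := (LinearMap.IsIdempotentElem.isProj_range _ hlin).trace
  rw [Matrix.trace_toLin'_eq] at hk
  exact ⟨_, (Submodule.finrank_le _).trans (Module.finrank_fintype_fun_eq_card ℝ).le, hk⟩

/-- The parameters are those of the triangular graph on 55 points. -/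
theorem params_eq (D : Data G Ω) :
    (∀ a b : Ω, Adj G a b → (nb G a ∩ nb G b).card = 9) ∧
    (∀ a b : Ω, a ≠ b → ¬ Adj G a b → (nb G a ∩ nb G b).card = 4) := by
  classical
  obtain ⟨l, m, h1, h2, hlm⟩ := exists_params D
  let A : Matrix Ω Ω ℝ := Matrix.of fun i j => if Adj G i j then 1 else 0
  let J : Matrix Ω Ω ℝ := Matrix.of fun _ _ => 1
  have hcard : Fintype.card Ω = 55 := by rw [← Nat.card_eq_fintype_card, D.card]
  have hrow : ∀ i, ∑ j, A i j = 18 := fun i => by
    simp only [A, Matrix.of_apply, Finset.sum_boole]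
    rw [← show ((nb G i).card : ℝ) = 18 from by rw [card_nb D]; norm_num]
    congr 2
  have hA2 : A * A = (18 - (m : ℝ)) • 1 + ((l : ℝ) - m) • A + (m : ℝ) • J := by
    ext i j
    have h : (A * A) i j = ((nb G i ∩ nb G j).card : ℝ) := by
      simp only [Matrix.mul_apply, A, Matrix.of_apply, mul_ite, mul_one, mul_zero]
      rw [Finset.sum_congr rfl fun w _ => (by
        by_cases h₁ : Adj G w j <;> by_cases h₂ : Adj G i w <;> simp [h₁, h₂] :
        (if Adj G w j then (if Adj G i w then (1 : ℝ) else 0) else 0) =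
          if Adj G i w ∧ Adj G w j then 1 else 0), Finset.sum_boole]
      congr 2
      ext w
      simp only [mem_filter, mem_univ, true_and, mem_inter, mem_nb]
      exact ⟨fun h => ⟨h.1, adj_comm h.2⟩, fun h => ⟨h.1, adj_comm h.2⟩⟩
    rw [h]
    simp only [Matrix.add_apply, Matrix.smul_apply, Matrix.one_apply, A, J, Matrix.of_apply,
      smul_eq_mul]
    by_cases hij : i = j
    · subst hij
      simp [card_nb D, Adj]
    by_cases hadj : Adj G i j
    · simp [hij, hadj, h1 _ _ hadj]
    · simp [hij, hadj, h2 _ _ hij hadj]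
  have hAJ : A * J = (18 : ℝ) • J := by
    ext i j
    simp [Matrix.mul_apply, J, hrow]
  have hJA : J * A = (18 : ℝ) • J := by
    ext i j
    simp only [Matrix.mul_apply, J, Matrix.of_apply, one_mul, Matrix.smul_apply, smul_eq_mul,
      mul_one]
    rw [← hrow j]
    refine Finset.sum_congr rfl fun w _ => ?_
    simp only [A, Matrix.of_apply]
    by_cases h : Adj G w j
    · rw [if_pos h, if_pos (adj_comm h)]
    · rw [if_neg h, if_neg fun e => h (adj_comm e)]
  have hJJ : J * J = (55 : ℝ) • J := by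
    ext i j
    simp [Matrix.mul_apply, J, hcard]
  set b : ℝ := (l : ℝ) - m with hb
  set δ : ℝ := b ^ 2 + 4 * (18 - m) with hδ
  have hl : (l : ℝ) = 17 - 2 * m := by
    have h : (18 : ℝ) + 18 * l + 36 * m = 324 := by exact_mod_cast hlm
    linarith
  have hδpos : 0 < δ := by
    have hm9 : (m : ℝ) ≤ 9 := by exact_mod_cast (show m ≤ 9 by omega)
    have := sq_nonneg b
    rw [hδ]; linarith
  set B : Matrix Ω Ω ℝ := (2 : ℝ) • A - b • 1 - ((36 - b) / 55) • J with hB
  set E : Matrix Ω Ω ℝ := 1 - (1 / 55 : ℝ) • J with hE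
  have hBB : B * B = δ • E := by
    simp only [hB, hE, sub_mul, mul_sub, smul_mul_assoc, mul_smul_comm, one_mul, mul_one, hA2,
      hAJ, hJA, hJJ, smul_add, smul_sub, smul_smul]
    rw [hδ, hb, hl]
    module
  have hBE : B * E = B := by
    simp only [hB, hE, sub_mul, mul_sub, smul_mul_assoc, mul_smul_comm, one_mul, mul_one,
      hAJ, hJJ, smul_sub, smul_smul]
    module
  have hEB : E * B = B := by
    simp only [hB, hE, sub_mul, mul_sub, smul_mul_assoc, mul_smul_comm, one_mul, mul_one,
      hJA, hJJ, smul_sub, smul_smul]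
    module
  have hEE : E * E = E := by
    simp only [hE, sub_mul, mul_sub, smul_mul_assoc, mul_smul_comm, one_mul, mul_one,
      hJJ, smul_sub, smul_smul]
    module
  set s := Real.sqrt δ with hs
  have hs2 : s * s = δ := Real.mul_self_sqrt hδpos.le
  have hs0 : s ≠ 0 := (Real.sqrt_pos.mpr hδpos).ne'
  set M : Matrix Ω Ω ℝ := (1 / (2 * s)) • B + (1 / 2 : ℝ) • E with hM
  have hMM : IsIdempotentElem M := by
    show M * M = M
    simp only [hM, add_mul, mul_add, smul_mul_assoc, mul_smul_comm, hBB, hBE, hEB, hEE, smul_add,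
      smul_smul]
    rw [show (1 / (2 * s)) * ((1 / (2 * s)) * δ) = 1 / 4 by rw [← hs2]; field_simp; ring]
    module
  obtain ⟨k, hk55, hk⟩ := exists_nat_trace hMM
  have htA : A.trace = 0 := by simp [Matrix.trace, A, Adj]
  have htJ : J.trace = 55 := by simp [Matrix.trace, J, hcard]
  have ht : (1 / (2 * s)) * (-(54 * b) - 36) + 27 = k := by
    rw [← hk, hM, hB, hE]
    simp only [Matrix.trace_add, Matrix.trace_sub, Matrix.trace_smul, Matrix.trace_one, htA, htJ,
      hcard, smul_eq_mul]
    push_cast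
    ring
  have hreal : (54 * b + 36) ^ 2 = δ * (2 * (k : ℝ) - 54) ^ 2 := by
    have : -(54 * b) - 36 = s * (2 * (k : ℝ) - 54) := by
      have h' := ht
      field_simp at h'
      linarith
    rw [← hs2]
    linear_combination (-(54 * b) - 36 + s * (2 * (k : ℝ) - 54)) * this
  rw [hδ, hb, hl] at hreal
  have hm8 : m < 9 := by omega
  have hint : (54 * (17 - 3 * (m : ℤ)) + 36) ^ 2 =
      ((17 - 3 * (m : ℤ)) ^ 2 + 4 * (18 - m)) * (2 * k - 54) ^ 2 := by
    have h' : ((54 * (17 - 3 * (m : ℤ)) + 36) ^ 2 : ℝ) =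
        (((17 - 3 * (m : ℤ)) ^ 2 + 4 * (18 - m)) * (2 * k - 54) ^ 2 : ℝ) := by
      push_cast
      ring_nf at hreal ⊢
      linarith
    exact_mod_cast h'
  have hm4 := paramArith m hm8 k (by omega) hint
  subst hm4
  have hl9 : l = 9 := by omega
  subst hl9
  exact ⟨h1, h2⟩

/-- A set of pairwise adjacent points. -/
def Clique (G : Type*) {Ω : Type*} [Group G] [MulAction G Ω] (s : Finset Ω) : Prop :=
  ∀ a ∈ s, ∀ b ∈ s, a ≠ b → Adj G a b

/-- No three pairwise non-adjacent points in a neighbourhood. -/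
theorem no_coclique (D : Data G Ω) {a x y w : Ω} (hx : Adj G a x) (hy : Adj G a y)
    (hw : Adj G a w) (nxy : x ≠ y) (nxw : x ≠ w) (nyw : y ≠ w) (axy : ¬ Adj G x y)
    (axw : ¬ Adj G x w) (ayw : ¬ Adj G y w) : False := by
  classical
  obtain ⟨h9, h4⟩ := params_eq D
  have hsub : ∀ p ∈ ({x, y, w} : Finset Ω),
      nb G a ∩ nb G p ⊆ nb G a \ {x, y, w} := by
    intro p hp v hv
    rw [mem_inter, mem_nb, mem_nb] at hv
    rw [mem_sdiff, mem_nb]
    refine ⟨hv.1, fun hv' => ?_⟩
    simp only [mem_insert, mem_singleton] at hp hv'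
    rcases hp with rfl | rfl | rfl <;> rcases hv' with rfl | rfl | rfl <;>
      first
      | exact hv.2.1 rfl
      | exact axy hv.2
      | exact axw hv.2
      | exact ayw hv.2
      | exact axy (adj_comm hv.2)
      | exact axw (adj_comm hv.2)
      | exact ayw (adj_comm hv.2)
  have hint : ∀ p q, Adj G a p → Adj G a q → p ≠ q → ¬ Adj G p q →
      ((nb G a ∩ nb G p) ∩ (nb G a ∩ nb G q)).card ≤ 3 := by
    intro p q hp hq hpq hn
    have hs : (nb G a ∩ nb G p) ∩ (nb G a ∩ nb G q) ⊆ (nb G p ∩ nb G q).erase a := by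
      intro v hv
      simp only [mem_inter] at hv
      exact mem_erase.mpr ⟨fun e => (mem_nb.mp hv.1.1).1 e.symm, mem_inter.mpr ⟨hv.1.2, hv.2.2⟩⟩
    refine (card_le_card hs).trans ?_
    rw [card_erase_of_mem (mem_inter.mpr ⟨mem_nb.mpr (adj_comm hp), mem_nb.mpr (adj_comm hq)⟩),
      h4 p q hpq hn]
  set X := nb G a ∩ nb G x
  set Y := nb G a ∩ nb G y
  set W := nb G a ∩ nb G w
  have e1 := card_union_add_card_inter X Y
  have e2 := card_union_add_card_inter (X ∪ Y) W
  have e3 : ((X ∪ Y) ∩ W).card ≤ 6 := by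
    rw [union_inter_distrib_right]
    exact (card_union_le _ _).trans
      (Nat.add_le_add (hint x w hx hw nxw axw) (hint y w hy hw nyw ayw))
  have e4 : (X ∩ Y).card ≤ 3 := hint x y hx hy nxy axy
  have e5 : (X ∪ Y ∪ W).card ≤ 15 := by
    have hs : X ∪ Y ∪ W ⊆ nb G a \ {x, y, w} :=
      union_subset (union_subset (hsub x (by simp)) (hsub y (by simp))) (hsub w (by simp))
    refine (card_le_card hs).trans ?_
    rw [card_sdiff_of_subset (by
      intro v hv
      simp only [mem_insert, mem_singleton] at hv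
      rw [mem_nb]
      rcases hv with rfl | rfl | rfl <;> assumption), card_nb D,
      card_eq_three.mpr ⟨x, y, w, nxy, nxw, nyw, rfl⟩]
  have ex : X.card = 9 := h9 a x hx
  have ey : Y.card = 9 := h9 a y hy
  have ew : W.card = 9 := h9 a w hw
  omega

/-- A neighbourhood splits into two cliques of nine points. -/
theorem exists_split (D : Data G Ω) (a : Ω) : ∃ A B : Finset Ω, A.card = 9 ∧ B.card = 9 ∧
    Disjoint A B ∧ A ∪ B = nb G a ∧ Clique G A ∧ Clique G B ∧
    (∀ p ∈ A, ∀ q ∈ B, ∀ q' ∈ B, Adj G p q → Adj G p q' → q = q') ∧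
    (∀ q ∈ B, ∀ p ∈ A, ∀ p' ∈ A, Adj G q p → Adj G q p' → p = p') := by
  classical
  have : Fact (Nat.Prime 3) := ⟨Nat.prime_three⟩
  obtain ⟨h9, -⟩ := params_eq D
  obtain ⟨P, hP⟩ := Sylow.exists_subgroup_card_pow_prime (G := stabilizer G a) 3 (n := 2)
    (by rw [D.stab]; norm_num)
  let _ : Fintype P := Fintype.ofFinite _
  have hP9 : Fintype.card P = 9 := by rw [← Nat.card_eq_fintype_card, hP]; norm_num
  have hfixa : ∀ p : P, ((p : stabilizer G a) : G) • a = a := fun p =>
    mem_stabilizer_iff.mp p.1.2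
  have hexp : ∀ p : P, ((p : stabilizer G a) : G) ^ 3 = 1 := fun p => D.exp _ (by
    have h := pow_card_eq_one (x := p)
    rw [hP9] at h
    simpa using congrArg (fun q : P => ((q : stabilizer G a) : G)) h)
  have hnb : ∀ (p : P) (d : Ω), d ∈ nb G a → ((p : stabilizer G a) : G) • d ∈ nb G a := by
    intro p d hd
    rw [mem_nb] at hd ⊢
    conv_lhs => rw [← hfixa p]
    exact (adj_smul_iff _ a d).mpr hd
  have hfree : ∀ (p : P) (d : Ω), d ∈ nb G a → p ≠ 1 → ((p : stabilizer G a) : G) • d ≠ d := by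
    intro p d hd hp e
    exact (mem_nb.mp hd).1 (D.fix _ (fun h => hp (Subtype.ext (Subtype.ext h))) (hexp p) a d
      (hfixa p) e)
  have hadj : ∀ (p : P) (d : Ω), d ∈ nb G a → p ≠ 1 → Adj G d (((p : stabilizer G a) : G) • d) := by
    intro p d hd hp
    set x := ((p : stabilizer G a) : G) with hx
    by_contra hn
    have hne1 : x • d ≠ d := hfree p d hd hp
    have hne2 : x • x • d ≠ x • d := fun e => hne1 (smul_left_cancel x e)
    have hne3 : x • x • d ≠ d := by
      intro e
      apply hne1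
      conv_rhs => rw [← one_smul G d, ← hexp p, ← hx, pow_three, mul_smul, mul_smul]
      rw [e]
    refine no_coclique D (mem_nb.mp hd) (mem_nb.mp (hnb p d hd))
      (mem_nb.mp (hnb p _ (hnb p d hd))) hne1.symm hne3.symm hne2.symm hn ?_ ?_
    · intro e
      have e' := (adj_smul_iff x d (x • x • d)).mpr e
      rw [← mul_smul x x d, ← mul_smul x (x * x) d, ← pow_three, hx, hexp p, one_smul] at e'
      exact hn (adj_comm e')
    · exact fun e => hn ((adj_smul_iff x d (x • d)).mp e)
  let O : Ω → Finset Ω := fun d => univ.image fun p : P => ((p : stabilizer G a) : G) • d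
  have hO : ∀ d ∈ nb G a, (O d).card = 9 ∧ O d ⊆ nb G a ∧ Clique G (O d) := by
    intro d hd
    refine ⟨?_, ?_, ?_⟩
    · rw [card_image_of_injective, card_univ, hP9]
      intro p q e
      by_contra hne
      refine hfree (q⁻¹ * p) d hd (fun h => hne (inv_mul_eq_one.mp h).symm) ?_
      simp only [Subgroup.coe_mul, Subgroup.coe_inv, mul_smul, inv_smul_eq_iff]
      exact e
    · intro v hv
      obtain ⟨p, -, rfl⟩ := mem_image.mp hv
      exact hnb p d hd
    · intro v hv w hw hvw
      obtain ⟨p, -, rfl⟩ := mem_image.mp hv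
      obtain ⟨q, -, rfl⟩ := mem_image.mp hw
      have h := hadj (p⁻¹ * q) d hd fun h => hvw (by rw [inv_mul_eq_one.mp h])
      rw [← adj_smul_iff ((p : stabilizer G a) : G), ← mul_smul, ← Subgroup.coe_mul,
        ← Subgroup.coe_mul, mul_inv_cancel_left] at h
      exact h
  obtain ⟨d, hd⟩ := card_pos.mp (show 0 < (nb G a).card by rw [card_nb D]; norm_num)
  obtain ⟨hA9, hAs, hAc⟩ := hO d hd
  have hrest : (nb G a \ O d).card = 9 := by rw [card_sdiff_of_subset hAs, card_nb D, hA9]
  obtain ⟨e, he⟩ := card_pos.mp (show 0 < (nb G a \ O d).card by omega)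
  rw [mem_sdiff] at he
  obtain ⟨hB9, hBs, hBc⟩ := hO e he.1
  have hdisj : Disjoint (O d) (O e) := by
    rw [Finset.disjoint_left]
    intro v hvd hve
    obtain ⟨p, -, rfl⟩ := mem_image.mp hvd
    obtain ⟨q, -, hq⟩ := mem_image.mp hve
    refine he.2 (mem_image.mpr ⟨q⁻¹ * p, mem_univ _, ?_⟩)
    simp only [Subgroup.coe_mul, Subgroup.coe_inv, mul_smul, inv_smul_eq_iff]
    exact hq.symm
  have hunion : O d ∪ O e = nb G a := eq_of_subset_of_card_le (union_subset hAs hBs) (by
    rw [card_union_of_disjoint hdisj, hA9, hB9, card_nb D])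
  have hone : ∀ X Y : Finset Ω, X.card = 9 → Disjoint X Y → X ⊆ nb G a → Y ⊆ nb G a →
      Clique G X → ∀ p ∈ X, ∀ q ∈ Y, ∀ q' ∈ Y, Adj G p q → Adj G p q' → q = q' := by
    intro X Y hX hXY hXs hYs hXc p hp q hq q' hq' hpq hpq'
    by_contra hne
    have hs : X.erase p ∪ {q, q'} ⊆ nb G a ∩ nb G p := by
      intro v hv
      rw [mem_inter, mem_nb, mem_nb]
      simp only [mem_union, mem_erase, mem_insert, mem_singleton] at hv
      rcases hv with ⟨hvp, hv⟩ | rfl | rfl
      · exact ⟨mem_nb.mp (hXs hv), hXc p hp v hv (Ne.symm hvp)⟩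
      · exact ⟨mem_nb.mp (hYs hq), hpq⟩
      · exact ⟨mem_nb.mp (hYs hq'), hpq'⟩
    have h := card_le_card hs
    rw [card_union_of_disjoint (by
      rw [Finset.disjoint_left]
      intro v hv hv'
      simp only [mem_insert, mem_singleton] at hv'
      rcases hv' with rfl | rfl
      · exact Finset.disjoint_left.mp hXY (mem_of_mem_erase hv) hq
      · exact Finset.disjoint_left.mp hXY (mem_of_mem_erase hv) hq'),
      card_erase_of_mem hp, hX, card_pair hne, h9 a p (mem_nb.mp (hXs hp))] at h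
    omega
  exact ⟨O d, O e, hA9, hB9, hdisj, hunion, hAc, hBc, hone _ _ hA9 hdisj hAs hBs hAc,
    hone _ _ hB9 hdisj.symm hBs hAs hBc⟩

/-- The cliques of ten points. -/
noncomputable def cliques (G Ω : Type*) [Group G] [MulAction G Ω] [Fintype Ω] :
    Finset (Finset Ω) := by
  classical exact univ.filter fun c => c.card = 10 ∧ Clique G c

omit [Finite G] [DecidableEq Ω] in
theorem mem_cliques {c : Finset Ω} : c ∈ cliques G Ω ↔ c.card = 10 ∧ Clique G c := by
  simp [cliques]

/-- Each point lies in exactly two cliques of ten points. -/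
theorem card_cliques_at (D : Data G Ω) (a : Ω) :
    ((cliques G Ω).filter fun c => a ∈ c).card = 2 := by
  classical
  obtain ⟨A, B, hA, hB, hdisj, hAB, hAc, hBc, hone, hone'⟩ := exists_split D a
  have hAs : A ⊆ nb G a := hAB ▸ subset_union_left
  have hBs : B ⊆ nb G a := hAB ▸ subset_union_right
  have hnot : ∀ X : Finset Ω, X ⊆ nb G a → a ∉ X := fun X hX h => (mem_nb.mp (hX h)).1 rfl
  have hins : ∀ X : Finset Ω, X.card = 9 → X ⊆ nb G a → Clique G X →
      insert a X ∈ cliques G Ω := by
    intro X hX hXs hXc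
    rw [mem_cliques, card_insert_of_notMem (hnot X hXs), hX]
    refine ⟨rfl, fun p hp q hq hpq => ?_⟩
    rw [mem_insert] at hp hq
    rcases hp with rfl | hp <;> rcases hq with rfl | hq
    · exact absurd rfl hpq
    · exact mem_nb.mp (hXs hq)
    · exact adj_comm (mem_nb.mp (hXs hp))
    · exact hXc p hp q hq hpq
  have hne : insert a A ≠ insert a B := by
    intro e
    obtain ⟨p, hp⟩ := card_pos.mp (show 0 < A.card by omega)
    have h : p ∈ insert a B := e ▸ mem_insert_of_mem hp
    rw [mem_insert] at h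
    rcases h with rfl | h
    · exact hnot A hAs hp
    · exact Finset.disjoint_left.mp hdisj hp h
  rw [show (cliques G Ω).filter (fun c => a ∈ c) = {insert a A, insert a B} from ?_, card_pair hne]
  ext c
  rw [mem_filter, mem_insert, mem_singleton]
  constructor
  · rintro ⟨hc, hac⟩
    obtain ⟨h10, hcl⟩ := mem_cliques.mp hc
    have hsub : c.erase a ⊆ A ∪ B := fun v hv => by
      rw [hAB, mem_nb]
      exact hcl a hac v (mem_of_mem_erase hv) (Ne.symm (ne_of_mem_erase hv))
    have h9 : (c.erase a).card = 9 := by rw [card_erase_of_mem hac, h10]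
    by_cases hBe : c.erase a ⊆ A
    · left
      rw [← insert_erase hac, eq_of_subset_of_card_le hBe (by rw [h9, hA])]
    right
    obtain ⟨q, hq, hqA⟩ := Finset.not_subset.mp hBe
    have hqB : q ∈ B := (mem_union.mp (hsub hq)).resolve_left hqA
    by_cases hAe : c.erase a ⊆ B
    · rw [← insert_erase hac, eq_of_subset_of_card_le hAe (by rw [h9, hB])]
    exfalso
    obtain ⟨p, hp, hpB⟩ := Finset.not_subset.mp hAe
    have hpA : p ∈ A := (mem_union.mp (hsub hp)).resolve_right hpB
    have hs : c.erase a ⊆ {p, q} := by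
      intro v hv
      rw [mem_insert, mem_singleton]
      rcases mem_union.mp (hsub hv) with hvA | hvB
      · left
        by_contra hvp
        exact hvp (hone' q hqB v hvA p hpA
          (hcl q (mem_of_mem_erase hq) v (mem_of_mem_erase hv) fun e => hqA (e ▸ hvA))
          (hcl q (mem_of_mem_erase hq) p (mem_of_mem_erase hp) fun e => hqA (e ▸ hpA)))
      · right
        by_contra hvq
        exact hvq (hone p hpA v hvB q hqB
          (hcl p (mem_of_mem_erase hp) v (mem_of_mem_erase hv) fun e => hpB (e ▸ hvB))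
          (hcl p (mem_of_mem_erase hp) q (mem_of_mem_erase hq) fun e => hpB (e ▸ hqB)))
    have := (card_le_card hs).trans card_le_two
    omega
  · rintro (rfl | rfl)
    · exact ⟨hins A hA hAs hAc, mem_insert_self _ _⟩
    · exact ⟨hins B hB hBs hBc, mem_insert_self _ _⟩

theorem card_cliques (D : Data G Ω) : (cliques G Ω).card = 11 := by
  classical
  have h1 : ∑ a : Ω, ((cliques G Ω).filter fun c => a ∈ c).card = 110 := by
    rw [Finset.sum_congr rfl fun a _ => card_cliques_at D a, sum_const, card_univ,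
      ← Nat.card_eq_fintype_card, D.card, smul_eq_mul]
  simp only [card_filter] at h1
  rw [sum_comm] at h1
  have h2 : ∀ c ∈ cliques G Ω, (∑ a : Ω, if a ∈ c then 1 else 0) = 10 := fun c hc => by
    rw [sum_ite_mem, univ_inter, sum_const, (mem_cliques.mp hc).1, smul_eq_mul, mul_one]
  rw [sum_congr rfl h2, sum_const, smul_eq_mul] at h1
  omega

omit [Finite G] in
theorem smul_mem_cliques (g : G) {c : Finset Ω} (hc : c ∈ cliques G Ω) :
    g • c ∈ cliques G Ω := by
  obtain ⟨h10, hcl⟩ := mem_cliques.mp hc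
  rw [mem_cliques, card_smul_finset]
  refine ⟨h10, fun v hv w hw hvw => ?_⟩
  rw [mem_smul_finset] at hv hw
  obtain ⟨v', hv', rfl⟩ := hv
  obtain ⟨w', hw', rfl⟩ := hw
  exact (adj_smul_iff g v' w').mpr (hcl v' hv' w' hw' fun e => hvw (by rw [e]))

/-- A nontrivial action on eleven points. -/
theorem exists_hom (D : Data G Ω) :
    ∃ f : G →* Equiv.Perm (Fin 11), f ≠ 1 := by
  classical
  have := D.trans
  let f₀ : G → Equiv.Perm {c // c ∈ cliques G Ω} := fun g =>
    { toFun := fun c => ⟨g • c.1, smul_mem_cliques g c.2⟩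
      invFun := fun c => ⟨g⁻¹ • c.1, smul_mem_cliques g⁻¹ c.2⟩
      left_inv := fun c => Subtype.ext (inv_smul_smul g c.1)
      right_inv := fun c => Subtype.ext (smul_inv_smul g c.1) }
  let f : G →* Equiv.Perm {c // c ∈ cliques G Ω} :=
    { toFun := f₀
      map_one' := Equiv.ext fun c => Subtype.ext (one_smul G c.1)
      map_mul' := fun g h => Equiv.ext fun c => Subtype.ext (mul_smul g h c.1) }
  let e : {c // c ∈ cliques G Ω} ≃ Fin 11 :=
    Fintype.equivFinOfCardEq (by rw [Fintype.card_coe, card_cliques D])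
  refine ⟨e.permCongrHom.toMonoidHom.comp f, fun h => ?_⟩
  obtain ⟨c, hc⟩ := card_pos.mp (show 0 < (cliques G Ω).card by rw [card_cliques D]; norm_num)
  obtain ⟨a, ha⟩ := card_pos.mp (show 0 < c.card by rw [(mem_cliques.mp hc).1]; norm_num)
  obtain ⟨b, hb⟩ : ∃ b, b ∉ c := by
    by_contra hall
    simp only [not_exists, not_not] at hall
    have := (mem_cliques.mp hc).1
    rw [eq_univ_of_forall hall, card_univ, ← Nat.card_eq_fintype_card, D.card] at this
    omega
  obtain ⟨g, hg⟩ := MulAction.exists_smul_eq G a b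
  have h1 : f g = 1 := e.permCongrHom.injective
    ((DFunLike.congr_fun h g).trans (map_one e.permCongrHom).symm)
  have h2 : g • c = c := congrArg Subtype.val (Equiv.ext_iff.mp h1 ⟨c, hc⟩)
  exact hb (h2 ▸ hg ▸ smul_mem_smul_finset ha)

end Graph

end Cfsg.Agent.H30.Triangle
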