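import Cfsg.Agent.H30.M11RankThree
import Cfsg.Agent.H30.TriangleCliques
import Cfsg.Agent.H36.DegreeElevenMain

/-!
# Simple groups of order 7920 are isomorphic
-/

set_option autoImplicit false
set_option synthInstance.maxSize 4096
set_option maxHeartbeats 1000000

namespace Cfsg.Agent.H30.MElevenUnique

open Cfsg.Agent.H36.Eleven

theorem three_pow : (3 : Z) ^ 5 = 1 := by decide

/-- The model of the group. -/
def model : Subgroup (Equiv.Perm Z) :=
  Subgroup.closure {sP, mP, wP 3 three_pow}

theorem conj_sP : nP * sP * nP⁻¹ = sP⁻¹ := by decide +kernel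

theorem conj_mP : nP * mP * nP⁻¹ = mP := by decide +kernel

theorem conj_wP : mP * (nP * wP 4 (by decide) * nP⁻¹) = wP 3 three_pow := by decide +kernel

theorem model_le (H : Subgroup (Equiv.Perm Z)) (hs : sP ∈ H) (hm : mP ∈ H)
    (hw : wP 3 three_pow ∈ H) : model ≤ H := by
  rw [model, Subgroup.closure_le]
  intro x hx
  simp only [Set.mem_insert_iff, Set.mem_singleton_iff] at hx
  rcases hx with rfl | rfl | rfl <;> assumption

theorem card_model_ge : 7920 ≤ Nat.card model :=
  (sharp_of_good model (Subgroup.subset_closure (Set.mem_insert _ _))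
    (Subgroup.subset_closure (Set.mem_insert_of_mem _ (Set.mem_insert _ _)))
    (c := 3) (hc := three_pow)
    (Subgroup.subset_closure (Set.mem_insert_of_mem _ (Set.mem_insert_of_mem _ rfl)))
    (Or.inl rfl)).1

theorem eq_model (H : Subgroup (Equiv.Perm Z)) (hH : Nat.card H = 7920) (hs : sP ∈ H)
    (hm : mP ∈ H) (hw : wP 3 three_pow ∈ H) : H = model :=
  (Subgroup.eq_of_le_of_card_ge (model_le H hs hm hw) (hH.le.trans card_model_ge)).symm

/-- A simple group of order 7920 is isomorphic to the model. -/
theorem nonempty_mulEquiv_model {G : Type*} [Group G] [Fintype G] [IsSimpleGroup G]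
    (hcard : Nat.card G = 7920) : Nonempty (G ≃* model) := by
  classical
  have : Fact (Nat.Prime 3) := ⟨Nat.prime_three⟩
  have : Fact (Nat.Prime 11) := ⟨by norm_num⟩
  obtain ⟨z, y, d, K, F⟩ := Order7920.exists_facts hcard
  have T := F.threeData
  let _ : Fintype (Sylow 3 G) := Fintype.ofFinite _
  obtain ⟨f, hf⟩ := Triangle.exists_hom (G := G) (Ω := Sylow 3 G)
    { trans := inferInstance
      card := T.card
      stab := T.stab
      fix := T.fix
      exp := T.exp
      pairs := F.rank_three T }
  have hinj : Function.Injective f := by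
    rw [← MonoidHom.ker_eq_bot_iff]
    exact (IsSimpleGroup.eq_bot_or_eq_top_of_normal f.ker inferInstance).resolve_right
      fun h => hf (MonoidHom.ext fun g => MonoidHom.mem_ker.mp (h ▸ Subgroup.mem_top g))
  have hσ : orderOf (f z) = 11 := (orderOf_injective f hinj z).trans F.order11
  obtain ⟨e, he⟩ := H36.exists_zmod_numbering (by rw [Fintype.card_fin]) hσ
  let φ : Equiv.Perm (Fin 11) ≃* Equiv.Perm Z := e.symm.permCongrHom
  let g : G →* Equiv.Perm Z := φ.toMonoidHom.comp f
  have hgi : Function.Injective g := φ.injective.comp hinj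
  let ψ : G ≃* g.range := MonoidHom.ofInjective hgi
  let K' : Subgroup (Equiv.Perm Z) := g.range
  have hK : Nat.card K' = 7920 := (Nat.card_congr ψ.toEquiv).symm.trans hcard
  have hgz : g z = sP := Equiv.ext fun x => by
    show e.symm (f z (e x)) = x + 1
    have h1 : f z (e x) = e (x + 1) := by simpa using he 1 x
    rw [h1, Equiv.symm_apply_apply]
  have hs : sP ∈ K' := ⟨z, hgz⟩
  have : IsSimpleGroup K' := ψ.symm.isSimpleGroup
  have hns : ¬ Group.IsSolvable K' := by
    intro h
    have h' : Group.IsSolvable G :=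
      Group.isSolvable_of_isSolvable_injective (f := ψ.toMonoidHom) ψ.injective
    exact Order7920.nonComm hcard ⟨⟨IsSimpleGroup.comm_iff_isSolvable.mpr h'⟩⟩
  have hA : ¬ alternatingGroup Z ≤ K' := by
    intro h
    have h1 := Subgroup.card_le_of_le h
    have h2 := two_mul_nat_card_alternatingGroup (α := Z)
    rw [Nat.card_perm, Nat.card_eq_fintype_card (α := Z), ZMod.card] at h2
    simp only [Nat.factorial] at h2
    omega
  obtain ⟨P, hP⟩ := exists_sylow_of_translation K' hs
  have hN : Nat.card (Subgroup.normalizer ((P : Subgroup K') : Set K')) = 55 := by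
    obtain ⟨z', hz', hC', hE'⟩ := Order7920.exists_eleven (G := G) hcard
    have hGN : Nat.card (Subgroup.normalizer (Subgroup.zpowers z' : Set G)) = 55 := by
      rw [H30.card_normalizer_zpowers (p := 11) hz' hC', hE']
    have hmult : 11 ^ (Nat.card G).factorization 11 = 11 := by
      have h3 := H30.card_sylow_subgroup (default : Sylow 11 G) (a := 1) (m := 720)
        (by rw [hcard]; norm_num) (by norm_num)
      rw [Sylow.card_eq_multiplicity, pow_one] at h3
      exact h3
    let Q : Sylow 11 G := Sylow.ofCard (Subgroup.zpowers z')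
      (by rw [Nat.card_zpowers, hz', hmult])
    let Q₀ : Sylow 11 G := Sylow.ofCard (Subgroup.zpowers z)
      (by rw [Nat.card_zpowers, F.order11, hmult])
    have e1 := H30.card_sylow_mul_normalizer 11 Q
    have e2 := H30.card_sylow_mul_normalizer 11 Q₀
    rw [← e1] at e2
    have e3 := Nat.eq_of_mul_eq_mul_left Nat.card_pos e2
    change Nat.card (Subgroup.normalizer (Subgroup.zpowers z : Set G)) =
      Nat.card (Subgroup.normalizer (Subgroup.zpowers z' : Set G)) at e3
    rw [hGN] at e3
    have hPψ : (P : Subgroup K') = (Subgroup.zpowers z).map ψ.toMonoidHom := by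
      rw [hP, MonoidHom.map_zpowers]
      congr 1
      exact Subtype.ext (hgz.symm.trans (MonoidHom.ofInjective_apply hgi).symm)
    rw [← e3, hPψ, ← Subgroup.map_equiv_normalizer_eq]
    exact Nat.card_congr (Subgroup.equivMapOfInjective _ ψ.toMonoidHom ψ.injective).toEquiv.symm
  obtain ⟨-, -, h660 | ⟨-, hm, c, hc, hw, hgood⟩⟩ := core K' hs hns hA P hP hN
  · omega
  rcases hgood with rfl | rfl
  · exact ⟨ψ.trans (MulEquiv.subgroupCongr (eq_model K' hK hs hm hw))⟩
  · set K'' := K'.map (MulAut.conj nP).toMonoidHom with hK''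
    have hs' : sP ∈ K'' := by
      have h1 : nP * sP⁻¹ * nP⁻¹ = sP := by rw [← conj_inv, conj_sP, inv_inv]
      exact ⟨sP⁻¹, inv_mem hs, h1⟩
    have hm' : mP ∈ K'' := ⟨mP, hm, conj_mP⟩
    have hw' : wP 3 three_pow ∈ K'' :=
      conj_wP ▸ mul_mem hm' ⟨_, hw, rfl⟩
    let θ : K' ≃* K'' := K'.equivMapOfInjective _ (MulAut.conj nP).injective
    have hK2 : Nat.card K'' = 7920 := (Nat.card_congr θ.toEquiv).symm.trans hK
    exact ⟨(ψ.trans θ).trans (MulEquiv.subgroupCongr (eq_model K'' hK2 hs' hm' hw'))⟩

/-- Two simple groups of order 7920 are isomorphic. -/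
theorem nonempty_mulEquiv {G H : Type*} [Group G] [Group H] [IsSimpleGroup G] [IsSimpleGroup H]
    (hG : Nat.card G = 7920) (hH : Nat.card H = 7920) : Nonempty (G ≃* H) := by
  have : Finite G := Nat.finite_of_card_ne_zero (by omega)
  have : Finite H := Nat.finite_of_card_ne_zero (by omega)
  let _ := Fintype.ofFinite G
  let _ := Fintype.ofFinite H
  obtain ⟨e⟩ := nonempty_mulEquiv_model hG
  obtain ⟨f⟩ := nonempty_mulEquiv_model hH
  exact ⟨e.trans f.symm⟩

end Cfsg.Agent.H30.MElevenUnique
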