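import Cfsg.Agent.H30.Order7920Main

/-!
# Centralizers in a simple group of order 7920
-/

set_option autoImplicit false
set_option synthInstance.maxSize 4096
set_option maxHeartbeats 1000000

namespace Cfsg.Agent.H30.Order7920

open Finset
open scoped ComplexConjugate

variable {G : Type*} [Group G] [Fintype G] [IsSimpleGroup G]

/-- The value at an involution is congruent to the degree modulo four, as the determinant is
trivial. -/
theorem exists_value_mod_four (hG : ¬ IsMulCommutative G) {u : G} (hu : orderOf u = 2)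
    (χ : Cfsg.IrrCharacter G) (d : ℕ) (hd : χ.1 1 = (d : ℂ)) :
    ∃ a : ℤ, χ.1 u = (a : ℂ) ∧ (4 : ℤ) ∣ (d : ℤ) - a ∧ (χ ≠ H26.oneIrr G → |a| < d) := by
  classical
  obtain ⟨a, ha, hab⟩ := exists_int_value_involution hG hu χ d hd
  refine ⟨a, ha, ?_, hab⟩
  obtain ⟨n, ρ, hρ, e⟩ := χ.2
  obtain ⟨b, μ, hb, hμ, hsum⟩ := H25.exists_eigenbasis ρ u
  rw [hu] at hμ
  have hdn : d = Module.finrank ℂ (Fin n → ℂ) := by
    have h1 : χ.1 1 = (Module.finrank ℂ (Fin n → ℂ) : ℂ) := by rw [← e, ρ.char_one]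
    exact_mod_cast hd.symm.trans h1
  let δ : G →* ℂ := (LinearMap.det).comp ρ
  have hδ1 : ∀ g, δ g = 1 := by
    have hk : δ.toHomUnits.ker = ⊤ := by
      refine (IsSimpleGroup.eq_bot_or_eq_top_of_normal δ.toHomUnits.ker inferInstance).resolve_left
        fun h => ?_
      exact hG ⟨⟨fun x y => (MonoidHom.ker_eq_bot_iff _).mp h (by simp only [map_mul, mul_comm])⟩⟩
    intro g
    exact congrArg Units.val (MonoidHom.mem_ker.mp (hk ▸ Subgroup.mem_top g : g ∈ δ.toHomUnits.ker))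
  have hdet : δ u = ∏ i, μ i := by
    show LinearMap.det (ρ u) = _
    rw [← LinearMap.det_toMatrix b,
      show LinearMap.toMatrix b b (ρ u) = Matrix.diagonal μ from ?_, Matrix.det_diagonal]
    ext i j
    rw [LinearMap.toMatrix_apply, hb, map_smul, Finsupp.smul_apply, b.repr_self, smul_eq_mul,
      Finsupp.single_apply, Matrix.diagonal_apply]
    by_cases h : i = j
    · subst h; simp
    · rw [if_neg (Ne.symm h), if_neg h, mul_zero]
  set M := univ.filter fun i => μ i ≠ 1 with hM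
  have hval : ∀ i, μ i = if i ∈ M then -1 else 1 := fun i => by
    rcases sq_eq_one_iff.mp (hμ i) with h | h <;> simp [hM, h]
  have heven : Even M.card := by
    rw [hδ1, Finset.prod_congr rfl fun i _ => hval i, Finset.prod_ite, Finset.prod_const_one,
      mul_one, Finset.prod_const] at hdet
    have hf : (univ.filter fun i => i ∈ M) = M := by ext; simp
    rw [hf] at hdet
    exact neg_one_pow_eq_one_iff_even (by norm_num : (-1 : ℂ) ≠ 1) |>.mp hdet.symm
  obtain ⟨m, hm⟩ := heven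
  refine ⟨m, ?_⟩
  have hs : (((d : ℤ) - a : ℤ) : ℂ) = ((4 * (m : ℤ) : ℤ) : ℂ) := by
    have h2 : χ.1 u = ∑ i, μ i := by rw [← congrFun e u, hsum]
    rw [Int.cast_sub, Int.cast_natCast, ← ha, h2, hdn, Finset.sum_congr rfl fun i _ => hval i,
      Finset.sum_ite, Finset.sum_const, Finset.sum_const]
    have hf : (univ.filter fun i => i ∈ M) = M := by ext; simp
    have hc := Finset.card_filter_add_card_filter_not (s := (univ : Finset (Fin (Module.finrank ℂ (Fin n → ℂ))))) (fun i => i ∈ M)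
    rw [hf, Finset.card_univ, Fintype.card_fin] at hc
    rw [hf, hm]
    rw [hm] at hc
    generalize (univ.filter fun i => i ∉ M).card = r at hc ⊢
    rw [← hc]
    simp only [nsmul_eq_mul]
    push_cast
    ring
  exact_mod_cast hs

theorem uArith : ∀ t ∈ [(-3 : ℤ), -2, -1, 0, 1, 2, 3], ∀ f ∈ [(-13 : ℤ), -9, -5, -1, 3, 7, 11],
    ∀ a ∈ [(-3 : ℤ), -1, 1, 3], ∀ b ∈ [(-3 : ℤ), -1, 1, 3], ∀ c ∈ [(-3 : ℤ), -1, 1, 3],
      5 - 5 * t * t - 2 * (a * a + b * b + c * c) + f * f = 0 →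
      1 - 2 * (a + b + c) + 3 * f - 4 * t = 0 →
      t = 0 ∧ f = -1 ∧ a * a = 1 ∧ b * b = 1 ∧ c * c = 1 ∧ a + b + c = -1 := by
  decide +kernel

/-- Values at an involution. -/
structure InvValues (d : Cfsg.IrrCharacter G → ℕ) (u : G) : Prop where
  card : Nat.card (Subgroup.centralizer ({u} : Set G)) = 48
  sq10 : ∀ χ, d χ = 10 → χ.1 u = 2 ∨ χ.1 u = -2
  sum10 : ∑ χ ∈ ofDegree d 10, χ.1 u = -2
  at45 : ∀ χ, d χ = 45 → χ.1 u = -3
  at16 : ∀ χ, d χ = 16 → χ.1 u = 0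
  at11 : ∀ χ, d χ = 11 → χ.1 u = 3
  at44 : ∀ χ, d χ = 44 → χ.1 u = 4
  at55 : ∀ χ, d χ = 55 → χ.1 u = -1

/-- The characters outside the principal block. -/
theorem sum_eleven {d : Cfsg.IrrCharacter G → ℕ}
    (hcount : ∀ n : ℕ, (univ.filter fun χ => d χ = n).card =
        (if n = 1 ∨ n = 11 ∨ n = 44 ∨ n = 45 ∨ n = 55 then 1 else if n = 10 then 3
          else if n = 16 then 2 else 0))
    {χ₁ χ₂ χ₃ : Cfsg.IrrCharacter G} (h1 : d χ₁ = 11) (h2 : d χ₂ = 44) (h3 : d χ₃ = 55)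
    {M : Type*} [AddCommMonoid M] (f : Cfsg.IrrCharacter G → M) :
    ∑ χ ∈ univ.filter (fun χ => 11 ∣ d χ), f χ = f χ₁ + f χ₂ + f χ₃ := by
  classical
  have huniq : ∀ n, (n = 11 ∨ n = 44 ∨ n = 55) → ∀ a b, d a = n → d b = n → a = b := by
    intro n hn a b ha hb
    have h := hcount n
    rw [if_pos (by omega)] at h
    exact Finset.card_le_one.mp h.le a (by simp [ha]) b (by simp [hb])
  have heq : univ.filter (fun χ => 11 ∣ d χ) = {χ₁, χ₂, χ₃} := by
    ext χ
    simp only [mem_filter, mem_univ, true_and, mem_insert, mem_singleton]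
    constructor
    · intro h
      have hc := hcount (d χ)
      have hpos : 0 < (univ.filter fun ψ => d ψ = d χ).card :=
        Finset.card_pos.mpr ⟨χ, by simp⟩
      have : d χ = 11 ∨ d χ = 44 ∨ d χ = 55 := by
        by_contra hn
        split_ifs at hc with e1 e2 e3 <;> omega
      rcases this with e | e | e
      · exact Or.inl (huniq 11 (by simp) _ _ e h1)
      · exact Or.inr (Or.inl (huniq 44 (by simp) _ _ e h2))
      · exact Or.inr (Or.inr (huniq 55 (by simp) _ _ e h3))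
    · rintro (rfl | rfl | rfl) <;> simp [h1, h2, h3]
  have n12 : χ₁ ≠ χ₂ := fun e => by rw [e] at h1; omega
  have n13 : χ₁ ≠ χ₃ := fun e => by rw [e] at h1; omega
  have n23 : χ₂ ≠ χ₃ := fun e => by rw [e] at h2; omega
  rw [heq, Finset.sum_insert (by simp [n12, n13]), Finset.sum_pair n23, add_assoc]

/-- Two conjugates of an involution multiply to a real element. -/
theorem isConj_inv_of_mul {u a b : G} (hu : orderOf u = 2) (ha : IsConj u a) (hb : IsConj u b) :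
    IsConj (a * b) (a * b)⁻¹ := by
  have hsq : ∀ c : G, IsConj u c → c * c = 1 := by
    intro c hc
    obtain ⟨g, hg⟩ := isConj_iff.mp hc
    rw [← pow_two, ← hg, conj_pow, ← hu, pow_orderOf_eq_one, mul_one, mul_inv_cancel]
  refine isConj_iff.mpr ⟨a, ?_⟩
  rw [mul_inv_rev, inv_eq_of_mul_eq_one_right (hsq a ha), inv_eq_of_mul_eq_one_right (hsq b hb),
    ← mul_assoc a a b, hsq a ha, one_mul]

/-- The values at every involution. -/
theorem involution_values (hcard : Nat.card G = 7920) {z y : G}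
    {d : Cfsg.IrrCharacter G → ℕ} {K : Finset (Cfsg.IrrCharacter G)} (hz : orderOf z = 11)
    (hzr : ¬ IsConj z z⁻¹) (B : BlockData z d K 16) (hy : orderOf y = 5)
    (hcount : ∀ n : ℕ, (univ.filter fun χ => d χ = n).card =
        (if n = 1 ∨ n = 11 ∨ n = 44 ∨ n = 45 ∨ n = 55 then 1 else if n = 10 then 3
          else if n = 16 then 2 else 0))
    (hval : ∀ χ, (d χ = 10 ∨ d χ = 45 ∨ d χ = 55 → χ.1 y = 0) ∧
        (d χ = 16 ∨ d χ = 11 → χ.1 y = 1) ∧ (d χ = 44 → χ.1 y = -1))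
    {u : G} (hu : orderOf u = 2) : InvValues d u := by
  classical
  have hG := nonComm hcard
  choose a ha ha4 hab using fun χ => exists_value_mod_four hG hu χ (d χ) (B.deg χ)
  have hne : ∀ χ, d χ ≠ 1 → χ ≠ H26.oneIrr G := fun χ h e => h ((B.one χ).mpr e)
  obtain ⟨θ, hθ, hrel⟩ := B.rel u (not_isConj_pow hz hu Nat.prime_two (by norm_num))
  have h10 : (ofDegree d 10).card = 3 := by simpa [ofDegree] using hcount 10
  have h12 : ofDegree d 12 = ∅ := by
    rw [← card_eq_zero]; simpa [ofDegree] using hcount 12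
  obtain ⟨p₁, p₂, p₃, n12, n13, n23, hF10⟩ := card_eq_three.mp h10
  obtain ⟨χ₄, hF45⟩ := card_eq_one.mp (show (ofDegree d 45).card = 1 by
    simpa [ofDegree] using hcount 45)
  obtain ⟨χ₅, h5⟩ := card_pos.mp (show 0 < (univ.filter fun χ => d χ = 11).card by
    rw [hcount]; norm_num)
  obtain ⟨χ₆, h6⟩ := card_pos.mp (show 0 < (univ.filter fun χ => d χ = 44).card by
    rw [hcount]; norm_num)
  obtain ⟨χ₇, h7⟩ := card_pos.mp (show 0 < (univ.filter fun χ => d χ = 55).card by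
    rw [hcount]; norm_num)
  simp only [mem_filter, mem_univ, true_and] at h5 h6 h7
  have hd10 : ∀ χ ∈ ({p₁, p₂, p₃} : Finset (Cfsg.IrrCharacter G)), d χ = 10 := fun χ h => by
    rw [← hF10] at h
    simpa [ofDegree] using h
  have hd4 : d χ₄ = 45 := by
    simpa [ofDegree] using (show χ₄ ∈ ofDegree d 45 by simp [hF45])
  obtain ⟨k, hk⟩ := card_pos.mp (show 0 < K.card by rw [B.cardK]; norm_num)
  have hdk : d k = 16 := (B.memK k).mp hk
  have hθk : θ = (a k : ℂ) := by rw [← hθ k hk, ha]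
  -- splitting of sums
  have split : ∀ f : Cfsg.IrrCharacter G → ℂ, ∀ v : ℂ, (∀ x ∈ K, f x = v) → ∑ χ, f χ =
      f (H26.oneIrr G) + 2 * v + (f p₁ + f p₂ + f p₃) + f χ₄ + (f χ₅ + f χ₆ + f χ₇) := by
    intro f v hv
    rw [sum_split B, Finset.sum_congr rfl hv, Finset.sum_const, B.cardK, hF10, h12, hF45,
      sum_eleven hcount h5 h6 h7, Finset.sum_empty, Finset.sum_singleton,
      Finset.sum_insert (by simp [n12, n13]), Finset.sum_pair n23]
    simp only [nsmul_eq_mul, Nat.cast_ofNat]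
    ring
  -- the relation against `z`
  rw [hF10, h12, hF45, Finset.sum_empty, Finset.sum_singleton,
    Finset.sum_insert (by simp [n12, n13]), Finset.sum_pair n23, ha, ha, ha, ha, hθk] at hrel
  have eZ : (1 : ℤ) - (a p₁ + a p₂ + a p₃) + a χ₄ - a k = 0 := by
    have : (((1 : ℤ) - (a p₁ + a p₂ + a p₃) + a χ₄ - a k : ℤ) : ℂ) = ((0 : ℤ) : ℂ) := by
      push_cast; linear_combination hrel
    exact_mod_cast this
  -- pairs of involutions
  obtain ⟨n₀, hn₀, hn₀'⟩ := exists_count u u z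
  rw [hn₀'.mpr fun x w hx hw e => hzr (e ▸ isConj_inv_of_mul hu hx hw), Nat.cast_zero, zero_mul,
    hcard] at hn₀
  have hS : ∑ χ : Cfsg.IrrCharacter G, χ.1 u * χ.1 u * conj (χ.1 z) / χ.1 1 = 0 :=
    (mul_eq_zero.mp hn₀.symm).resolve_left (by norm_num)
  have eK : ∑ x ∈ K, x.1 u * x.1 u * conj (x.1 z) / x.1 1 = -((a k : ℂ) * a k / 16) := by
    have : ∀ x ∈ K, x.1 u * x.1 u * conj (x.1 z) / x.1 1 = θ * θ / 16 * conj (x.1 z) := by
      intro x hx; rw [hθ x hx, B.deg, (B.memK x).mp hx]; push_cast; ring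
    rw [Finset.sum_congr rfl this, ← Finset.mul_sum, ← map_sum, B.valK, hθk]
    simp
  rw [sum_split B, eK, hF10, h12, hF45, sum_eleven hcount h5 h6 h7, Finset.sum_empty,
    Finset.sum_singleton, Finset.sum_insert (by simp [n12, n13]), Finset.sum_pair n23,
    B.val0 χ₅ (by rw [h5]), B.val0 χ₆ (by rw [h6]; norm_num), B.val0 χ₇ (by rw [h7]; norm_num),
    B.val10 p₁ (hd10 _ (by simp)), B.val10 p₂ (hd10 _ (by simp)), B.val10 p₃ (hd10 _ (by simp)),
    B.val45 χ₄ hd4, H26.oneIrr_val, H26.oneIrr_val, H26.oneIrr_val, B.deg, B.deg, B.deg, B.deg,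
    hd10 p₁ (by simp), hd10 p₂ (by simp), hd10 p₃ (by simp), hd4, ha, ha, ha, ha] at hS
  simp only [map_neg, map_one, map_zero, mul_zero, zero_div] at hS
  have eS : (720 : ℤ) - 45 * (a k * a k) - 72 * (a p₁ * a p₁ + a p₂ * a p₂ + a p₃ * a p₃) +
      16 * (a χ₄ * a χ₄) = 0 := by
    have : (((720 : ℤ) - 45 * (a k * a k) - 72 * (a p₁ * a p₁ + a p₂ * a p₂ + a p₃ * a p₃) +
      16 * (a χ₄ * a χ₄) : ℤ) : ℂ) = ((0 : ℤ) : ℂ) := by
      push_cast at hS ⊢; linear_combination 720 * hS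
    exact_mod_cast this
  -- orthogonality with the columns of `y` and `1`
  have hy1 : ∀ x : G, x = y ∨ x = 1 → H26.classIndicator x u = 0 := fun x hx => if_neg fun h => by
    obtain ⟨g, hg⟩ := isConj_iff.mp h
    have h2 : orderOf x = 2 := by
      rw [← hg, ← hu]; exact orderOf_injective (MulAut.conj g).toMonoidHom (MulAut.conj g).injective u
    rcases hx with rfl | rfl
    · omega
    · rw [orderOf_one] at h2; omega
  have hY := H26.column_orthogonality u y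
  rw [hy1 y (Or.inl rfl), mul_zero, split _ θ (fun x hx => by
    rw [hθ x hx, (hval x).2.1 (Or.inl ((B.memK x).mp hx))]; simp),
    (hval p₁).1 (Or.inl (hd10 _ (by simp))), (hval p₂).1 (Or.inl (hd10 _ (by simp))),
    (hval p₃).1 (Or.inl (hd10 _ (by simp))), (hval χ₄).1 (Or.inr (Or.inl hd4)),
    (hval χ₅).2.1 (Or.inr h5), (hval χ₆).2.2 h6, (hval χ₇).1 (Or.inr (Or.inr h7)),
    H26.oneIrr_val, H26.oneIrr_val, ha χ₅, ha χ₆, hθk] at hY
  simp only [map_zero, mul_zero, map_neg, map_one, add_zero, mul_one, mul_neg] at hY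
  have eY : (1 : ℤ) + 2 * a k + a χ₅ - a χ₆ = 0 := by
    have : (((1 : ℤ) + 2 * a k + a χ₅ - a χ₆ : ℤ) : ℂ) = ((0 : ℤ) : ℂ) := by
      push_cast; linear_combination hY
    exact_mod_cast this
  have hO := H26.column_orthogonality u 1
  rw [hy1 1 (Or.inr rfl), mul_zero, split _ (θ * 16) (fun x hx => by
    rw [hθ x hx, B.deg, (B.memK x).mp hx, map_natCast]; norm_num),
    B.deg, B.deg, B.deg, B.deg, B.deg, B.deg, B.deg, B.deg, (B.one _).mpr rfl, hd10 p₁ (by simp), hd10 p₂ (by simp),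
    hd10 p₃ (by simp), hd4, h5, h6, h7, H26.oneIrr_val, ha p₁, ha p₂, ha p₃,
    ha χ₄, ha χ₅, ha χ₆, ha χ₇, hθk] at hO
  simp only [map_natCast, map_one, mul_one] at hO
  have eO : (1 : ℤ) + 32 * a k + 10 * (a p₁ + a p₂ + a p₃) + 45 * a χ₄ + 11 * a χ₅ + 44 * a χ₆ +
      55 * a χ₇ = 0 := by
    have : (((1 : ℤ) + 32 * a k + 10 * (a p₁ + a p₂ + a p₃) + 45 * a χ₄ + 11 * a χ₅ + 44 * a χ₆ +
      55 * a χ₇ : ℤ) : ℂ) = ((0 : ℤ) : ℂ) := by
      push_cast at hO ⊢; linear_combination hO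
    exact_mod_cast this
  -- solving
  have hbk := abs_lt.mp (hab k (hne k (by omega)))
  have hb4 := abs_lt.mp (hab χ₄ (hne _ (by omega)))
  have hm4 := ha4 χ₄
  have hmk := ha4 k
  rw [hdk] at hbk hmk
  rw [hd4] at hb4 hm4
  push_cast at hbk hmk hb4 hm4
  obtain ⟨t, ht⟩ : (4 : ℤ) ∣ a k := by omega
  have h3e : (3 : ℤ) ∣ a χ₄ := by
    have h9 : (3 : ℤ) ∣ 16 * (a χ₄ * a χ₄) := ⟨-240 + 15 * (a k * a k) +
      24 * (a p₁ * a p₁ + a p₂ * a p₂ + a p₃ * a p₃), by linarith⟩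
    rcases Int.prime_three.dvd_mul.mp h9 with h | h
    · norm_num at h
    · exact (Int.prime_three.dvd_mul.mp h).elim id id
  obtain ⟨f, hf⟩ := h3e
  have hpm : ∀ χ ∈ ({p₁, p₂, p₃} : Finset (Cfsg.IrrCharacter G)),
      ∃ q ∈ [(-3 : ℤ), -1, 1, 3], a χ = 2 * q := by
    intro χ hχ
    have hb := abs_lt.mp (hab χ (hne χ (by rw [hd10 χ hχ]; norm_num)))
    have hm := ha4 χ
    rw [hd10 χ hχ] at hb hm
    push_cast at hb hm
    have h' : a χ = -6 ∨ a χ = -2 ∨ a χ = 2 ∨ a χ = 6 := by omega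
    rcases h' with h | h | h | h
    · exact ⟨-3, by simp, by omega⟩
    · exact ⟨-1, by simp, by omega⟩
    · exact ⟨1, by simp, by omega⟩
    · exact ⟨3, by simp, by omega⟩
  obtain ⟨q₁, hq₁, e1⟩ := hpm p₁ (by simp)
  obtain ⟨q₂, hq₂, e2⟩ := hpm p₂ (by simp)
  obtain ⟨q₃, hq₃, e3⟩ := hpm p₃ (by simp)
  have htm : t ∈ [(-3 : ℤ), -2, -1, 0, 1, 2, 3] := by
    simp only [List.mem_cons, List.not_mem_nil, or_false]; omega
  have hfm : f ∈ [(-13 : ℤ), -9, -5, -1, 3, 7, 11] := by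
    simp only [List.mem_cons, List.not_mem_nil, or_false]; omega
  rw [ht, hf, e1, e2, e3] at eS
  rw [ht, hf, e1, e2, e3] at eZ
  obtain ⟨rfl, rfl, hs1, hs2, hs3, hsum⟩ := uArith t htm f hfm q₁ hq₁ q₂ hq₂ q₃ hq₃
    (by linarith) (by linarith)
  rw [ht] at eY eO
  rw [hf, e1, e2, e3] at eO
  have h44 : a χ₆ = 1 + a χ₅ := by linarith
  have h55 : a χ₇ = 2 - a χ₅ := by linarith
  -- the norm
  have hN := H26.column_orthogonality u u
  rw [show H26.classIndicator u u = 1 from if_pos (IsConj.refl u), mul_one,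
    split _ 0 (fun x hx => by rw [hθ x hx, hθk, ht]; simp), H26.oneIrr_val, map_one, ha p₁, ha p₂,
    ha p₃, ha χ₄, ha χ₅, ha χ₆, ha χ₇, hf, e1, e2, e3, h44, h55] at hN
  simp only [map_intCast] at hN
  have eN : ((Nat.card (Subgroup.centralizer ({u} : Set G)) : ℕ) : ℤ) =
      27 + 3 * (a χ₅ * a χ₅) - 2 * a χ₅ := by
    have h4 : ∀ q : ℤ, q * q = 1 → ((q : ℂ)) * (q : ℂ) = 1 := fun q h => by exact_mod_cast h
    have : (((Nat.card (Subgroup.centralizer ({u} : Set G)) : ℕ) : ℤ) : ℂ) =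
        ((27 + 3 * (a χ₅ * a χ₅) - 2 * a χ₅ : ℤ) : ℂ) := by
      push_cast at hN ⊢
      linear_combination -hN + 4 * h4 q₁ hs1 + 4 * h4 q₂ hs2 + 4 * h4 q₃ hs3
    exact_mod_cast this
  have hb5 := abs_lt.mp (hab χ₅ (hne _ (by omega)))
  have hm5 := ha4 χ₅
  rw [h5] at hb5 hm5
  push_cast at hb5 hm5
  have hdvd : Nat.card (Subgroup.centralizer ({u} : Set G)) ∣ 7920 :=
    hcard ▸ Subgroup.card_subgroup_dvd_card _
  obtain ⟨hh, hC48⟩ : a χ₅ = 3 ∧ Nat.card (Subgroup.centralizer ({u} : Set G)) = 48 := by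
    have h' : a χ₅ = -9 ∨ a χ₅ = -5 ∨ a χ₅ = -1 ∨ a χ₅ = 3 ∨ a χ₅ = 7 := by omega
    generalize Nat.card (Subgroup.centralizer ({u} : Set G)) = N₀ at eN hdvd ⊢
    have hN0 : N₀ = 288 ∨ N₀ = 112 ∨ N₀ = 32 ∨ N₀ = 160 ∨ (a χ₅ = 3 ∧ N₀ = 48) := by
      rcases h' with h | h | h | h | h <;> rw [h] at eN ⊢ <;> norm_num at eN ⊢ <;> omega
    rcases hN0 with rfl | rfl | rfl | rfl | hN
    all_goals first | exact hN | norm_num at hdvd
  have huniq : ∀ n χ ψ, (n = 11 ∨ n = 44 ∨ n = 45 ∨ n = 55) → d χ = n → d ψ = n → χ = ψ := by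
    intro n χ ψ hn h h'
    have hc := hcount n
    rw [if_pos (by omega)] at hc
    exact Finset.card_le_one.mp hc.le χ (by simp [h]) ψ (by simp [h'])
  refine ⟨?_, ?_, ?_, ?_, ?_, ?_, ?_, ?_⟩
  · exact hC48
  · intro χ h
    have : χ ∈ ofDegree d 10 := by simp [ofDegree, h]
    simp only [hF10, mem_insert, mem_singleton] at this
    have h2 : ∀ q : ℤ, q * q = 1 → ((2 * q : ℤ) : ℂ) = 2 ∨ ((2 * q : ℤ) : ℂ) = -2 := fun q h => by
      rcases mul_self_eq_one_iff.mp h with e | e <;> simp [e]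
    rcases this with rfl | rfl | rfl <;> rw [ha]
    · exact e1 ▸ h2 _ hs1
    · exact e2 ▸ h2 _ hs2
    · exact e3 ▸ h2 _ hs3
  · rw [hF10, Finset.sum_insert (by simp [n12, n13]), Finset.sum_pair n23, ha, ha, ha, e1, e2, e3]
    have : ((q₁ + q₂ + q₃ : ℤ) : ℂ) = ((-1 : ℤ) : ℂ) := by rw [hsum]
    push_cast at this ⊢
    linear_combination 2 * this
  · intro χ h; rw [huniq 45 χ χ₄ (by simp) h hd4, ha, hf]; norm_num
  · intro χ h; rw [hθ χ ((B.memK χ).mpr h), hθk, ht]; norm_num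
  · intro χ h; rw [huniq 11 χ χ₅ (by simp) h h5, ha, hh]; norm_num
  · intro χ h; rw [huniq 44 χ χ₆ (by simp) h h6, ha, h44, hh]; norm_num
  · intro χ h; rw [huniq 55 χ χ₇ (by simp) h h7, ha, h55, hh]; norm_num

/-- All involutions are conjugate. -/
theorem isConj_of_values {z : G} {d : Cfsg.IrrCharacter G → ℕ}
    {K : Finset (Cfsg.IrrCharacter G)} (B : BlockData z d K 16)
    (hcount : ∀ n : ℕ, (univ.filter fun χ => d χ = n).card =
        (if n = 1 ∨ n = 11 ∨ n = 44 ∨ n = 45 ∨ n = 55 then 1 else if n = 10 then 3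
          else if n = 16 then 2 else 0))
    {u v : G} (hu : InvValues d u) (hv : InvValues d v) : IsConj u v := by
  classical
  by_contra hnc
  have h := H26.column_orthogonality u v
  rw [show H26.classIndicator v u = 0 from if_neg hnc, mul_zero] at h
  have h12 : ofDegree d 12 = ∅ := by
    rw [← card_eq_zero]; simpa [ofDegree] using hcount 12
  obtain ⟨χ₅, h5⟩ := card_pos.mp (show 0 < (univ.filter fun χ => d χ = 11).card by
    rw [hcount]; norm_num)
  obtain ⟨χ₆, h6⟩ := card_pos.mp (show 0 < (univ.filter fun χ => d χ = 44).card by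
    rw [hcount]; norm_num)
  obtain ⟨χ₇, h7⟩ := card_pos.mp (show 0 < (univ.filter fun χ => d χ = 55).card by
    rw [hcount]; norm_num)
  simp only [mem_filter, mem_univ, true_and] at h5 h6 h7
  have h10 : ∀ χ ∈ ofDegree d 10, χ.1 u * conj (χ.1 v) = 4 ∨ χ.1 u * conj (χ.1 v) = -4 := by
    intro χ hχ
    have hd : d χ = 10 := by simpa [ofDegree] using hχ
    rcases hu.sq10 χ hd with e | e <;> rcases hv.sq10 χ hd with e' | e' <;> rw [e, e'] <;>
      simp [map_ofNat] <;> norm_num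
  have hc10 : (ofDegree d 10).card = 3 := by simpa [ofDegree] using hcount 10
  obtain ⟨p₁, p₂, p₃, n12, n13, n23, hF10⟩ := card_eq_three.mp hc10
  rw [sum_split B, h12, Finset.sum_empty, sum_eleven hcount h5 h6 h7, H26.oneIrr_val,
    H26.oneIrr_val, Finset.sum_congr rfl (fun χ hχ => by
      rw [hu.at16 χ ((B.memK χ).mp hχ), zero_mul] : ∀ χ ∈ K, χ.1 u * conj (χ.1 v) = 0),
    Finset.sum_const_zero, Finset.sum_congr rfl (fun χ hχ => by
      rw [hu.at45 χ (by simpa [ofDegree] using hχ), hv.at45 χ (by simpa [ofDegree] using hχ)] :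
        ∀ χ ∈ ofDegree d 45, χ.1 u * conj (χ.1 v) = (-3 : ℂ) * conj (-3 : ℂ)),
    Finset.sum_const, show (ofDegree d 45).card = 1 by simpa [ofDegree] using hcount 45,
    hu.at11 χ₅ h5, hv.at11 χ₅ h5, hu.at44 χ₆ h6, hv.at44 χ₆ h6, hu.at55 χ₇ h7, hv.at55 χ₇ h7,
    hF10, Finset.sum_insert (by simp [n12, n13]), Finset.sum_pair n23] at h
  rcases h10 p₁ (by simp [hF10]) with e1 | e1 <;> rcases h10 p₂ (by simp [hF10]) with e2 | e2 <;>
    rcases h10 p₃ (by simp [hF10]) with e3 | e3 <;> rw [e1, e2, e3] at h <;>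
    simp [map_ofNat] at h <;> norm_num at h

end Cfsg.Agent.H30.Order7920
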