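import Cfsg.Agent.H30.CentralizerTools
import Cfsg.Agent.H30.PermNormalizer
import Cfsg.Agent.H30.SylowPrimeCases
import Cfsg.Agent.H27.SmallDegree
import Cfsg.Agent.H28.ZStar

/-!
# The Sylow 11-subgroups of a simple group of order 7920
-/

set_option autoImplicit false
set_option synthInstance.maxSize 1024

namespace Cfsg.Agent.H30.Order7920

open Subgroup MulAction

variable {G : Type*} [Group G] [Finite G] [IsSimpleGroup G]

theorem nonComm (h : Nat.card G = 7920) : ¬ IsMulCommutative G :=
  H30.not_comm_of_not_prime (by rw [h]; norm_num)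

/-- There are 144 Sylow 11-subgroups: a self-centralising element of order 11 with five conjugate
exponents. -/
theorem exists_eleven [Fintype G] (h : Nat.card G = 7920) [Fact (Nat.Prime 11)] :
    ∃ z : G, orderOf z = 11 ∧ centralizer ({z} : Set G) = zpowers z ∧
      (H30.conjExps 11 z).card = 5 := by
  classical
  have : Fact (Nat.Prime 2) := ⟨Nat.prime_two⟩
  have hG := nonComm h
  have hfac : Nat.card G = 11 ^ 1 * 720 := by rw [h]; norm_num
  let P : Sylow 11 G := default
  have hP : Nat.card (P : Subgroup G) = 11 := by
    simpa using H30.card_sylow_subgroup (a := 1) (m := 720) P hfac (by norm_num)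
  obtain ⟨e, c, he, h1e, hN, hC⟩ := H30.exists_automizer_of_prime_order hG 11 P hP
  have hmul := H30.card_sylow_mul_normalizer 11 P
  rw [hN, h] at hmul
  have hd : Nat.card (Sylow 11 G) ∣ 720 := H30.card_sylow_dvd hfac (by norm_num)
  have hm : Nat.card (Sylow 11 G) % 11 = 1 := card_sylow_modEq_one 11 G
  have h1 := H30.card_sylow_ne_one hG 11 (by rw [h]; norm_num)
  have hn : Nat.card (Sylow 11 G) = 12 ∨ Nat.card (Sylow 11 G) = 45 ∨
      Nat.card (Sylow 11 G) = 144 :=
    (by decide +kernel : ∀ j ∈ Nat.divisors 720, j % 11 = 1 → j ≠ 1 → j = 12 ∨ j = 45 ∨ j = 144)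
      _ (Nat.mem_divisors.mpr ⟨hd, by norm_num⟩) hm h1
  have he10 : e = 2 ∨ e = 5 ∨ e = 10 := by
    have hle : e ≤ 10 := Nat.le_of_dvd (by norm_num) he
    interval_cases e <;> omega
  set N := normalizer ((P : Subgroup G) : Set G) with hNdef
  set C := centralizer ((P : Subgroup G) : Set G) with hCdef
  rcases hn with hn | hn | hn
  · exfalso
    obtain ⟨f, hf⟩ := H30.exists_hom_alternating hG N (fun ht => h1 (by
      exact P.card_eq_index_normalizer.trans (index_eq_one.mpr (hNdef ▸ ht))))
    have hidx : N.index = 12 := P.card_eq_index_normalizer.symm.trans hn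
    let φ : G →* Equiv.Perm (Fin N.index) := (alternatingGroup (Fin N.index)).subtype.comp f
    have hφ : Function.Injective φ := Subtype.val_injective.comp hf
    obtain ⟨Q, hQ⟩ := (P.2.map φ).exists_le_sylow
    have hcardα : Fintype.card (Fin N.index) = 12 := by rw [Fintype.card_fin, hidx]
    have hQc := H30.card_sylow_perm_lt_two_mul (p := 11) (by omega) (by omega) Q
    have hQeq : (P : Subgroup G).map φ = (Q : Subgroup (Equiv.Perm (Fin N.index))) :=
      eq_of_le_of_card_ge hQ (by
        rw [hQc, ← Nat.card_congr ((P : Subgroup G).equivMapOfInjective φ hφ).toEquiv, hP])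
    have hQN := H30.card_normalizer_sylow_perm (p := 11) (by omega) (by omega) Q
    rw [hcardα] at hQN
    have hdvd : Nat.card N ∣ Nat.card (normalizer ((Q : Subgroup (Equiv.Perm (Fin N.index))) :
        Set (Equiv.Perm (Fin N.index)))) := by
      rw [Nat.card_congr (N.equivMapOfInjective φ hφ).toEquiv]
      refine card_dvd_of_le ?_
      rw [← hQeq]
      exact le_normalizer_map φ
    rw [hQN, hN, show Nat.factorial (12 - 11) = 1 from rfl] at hdvd
    rw [hn] at hmul
    have hle' := Nat.le_of_dvd (by norm_num) hdvd
    rcases he10 with rfl | rfl | rfl <;> omega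
  · exfalso
    rw [hn] at hmul
    obtain ⟨rfl, rfl⟩ : e = 2 ∧ c = 8 := by rcases he10 with rfl | rfl | rfl <;> omega
    have hidx : N.index = 45 := P.card_eq_index_normalizer.symm.trans hn
    -- a Sylow 2-subgroup `T` of `N` meeting `C`
    let SC : Sylow 2 C := default
    have hSC : Nat.card (SC : Subgroup C) = 2 ^ 3 :=
      H30.card_sylow_subgroup SC (m := 11) (by rw [hC]; norm_num) (by norm_num)
    have hCN : C ≤ N := H30.centralizer_le_normalizer _
    obtain ⟨T, hT⟩ := ((SC.2.map C.subtype).comap_subtype (K := N)).exists_le_sylow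
    set T' : Subgroup G := (T : Subgroup N).map N.subtype with hT'
    have hTc : Nat.card T' = 2 ^ 4 := by
      rw [hT', ← Nat.card_congr ((T : Subgroup N).equivMapOfInjective N.subtype
        N.subtype_injective).toEquiv]
      exact H30.card_sylow_subgroup T (m := 11) (by rw [hN]; norm_num) (by norm_num)
    have hT'p : IsPGroup 2 T' := IsPGroup.of_card hTc
    have hT'N : T' ≤ N := map_subtype_le _
    let T₀ : Sylow 2 G := Sylow.ofCard T' (by
      rw [hTc]
      exact (H30.card_sylow_subgroup (default : Sylow 2 G) (m := 495) (by rw [h]; norm_num)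
        (by norm_num)).symm.trans (Sylow.card_eq_multiplicity _))
    -- `C ⊓ T'` is nontrivial and normal in `T'`
    have hne : C.subgroupOf T' ≠ ⊥ := by
      intro hb
      have hle : (SC : Subgroup C).map C.subtype ≤ ⊥ := by
        intro x hx
        have hxC : x ∈ C := map_subtype_le _ hx
        have hxT : x ∈ T' := ⟨⟨x, hCN hxC⟩, hT (by simpa [mem_subgroupOf] using hx), rfl⟩
        have : (⟨x, hxT⟩ : T') ∈ C.subgroupOf T' := mem_subgroupOf.mpr hxC
        rw [hb, mem_bot] at this
        exact mem_bot.mpr (congrArg Subtype.val this)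
      have h8 := card_le_of_le hle
      rw [← Nat.card_congr ((SC : Subgroup C).equivMapOfInjective C.subtype
        C.subtype_injective).toEquiv, hSC, card_bot] at h8
      norm_num at h8
    have hCnorm : (C.subgroupOf N).Normal := by
      rw [hCdef, hNdef, ← normalizerMonoidHom_ker]
      exact MonoidHom.normal_ker _
    have hnorm : (C.subgroupOf T').Normal := ⟨fun x hx g => mem_subgroupOf.mpr
      (mem_subgroupOf.mp (hCnorm.conj_mem ⟨(x : G), hT'N x.2⟩ (mem_subgroupOf.mpr
        (mem_subgroupOf.mp hx)) ⟨(g : G), hT'N g.2⟩))⟩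
    have hmeet := H27.inf_center_ne_bot hT'p (C.subgroupOf T') hne
    obtain ⟨v, ⟨hvC, hvZ⟩, hv1⟩ :=
      ((Subgroup.bot_or_exists_ne_one _).resolve_left hmeet)
    -- an involution among the powers of `v`
    obtain ⟨j, hj⟩ := hT'p v
    have hv' : orderOf v ∣ 2 ^ j := orderOf_dvd_of_pow_eq_one hj
    obtain ⟨i, -, hi⟩ := (Nat.dvd_prime_pow Nat.prime_two).mp hv'
    have hi0 : i ≠ 0 := fun e0 => hv1 (orderOf_eq_one_iff.mp (by rw [hi, e0, pow_zero]))
    set w : T' := v ^ 2 ^ (i - 1) with hw
    have hwo : orderOf w = 2 := by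
      rw [hw, orderOf_pow' v (pow_ne_zero _ two_ne_zero), hi,
        Nat.gcd_eq_right (pow_dvd_pow 2 (by omega)), Nat.pow_div (by omega) two_pos]
      rw [show i - (i - 1) = 1 by omega, pow_one]
    have hwC : (w : G) ∈ C := by
      have := pow_mem hvC (2 ^ (i - 1)); exact mem_subgroupOf.mp this
    have hwZ : w ∈ center T' := pow_mem hvZ _
    have huo : orderOf (w : G) = 2 := by rw [Subgroup.orderOf_coe, hwo]
    set u : G := (w : G) with hu
    set CU := centralizer ({u} : Set G) with hCU
    have hPC : (P : Subgroup G) ≤ CU := fun x hx => mem_centralizer_singleton_iff.mpr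
      (mem_centralizer_iff.mp hwC x hx)
    have hTC : T' ≤ CU := fun x hx => mem_centralizer_singleton_iff.mpr
      (congrArg Subtype.val (mem_center_iff.mp hwZ ⟨x, hx⟩))
    have h176 : 176 ∣ Nat.card CU :=
      Nat.Coprime.mul_dvd_of_dvd_of_dvd (by norm_num : Nat.Coprime 11 16)
        (hP ▸ card_dvd_of_le hPC) ((by rw [hTc]; norm_num : Nat.card T' = 16) ▸ card_dvd_of_le hTC)
    have hu1 : u ≠ 1 := fun e1 => by rw [e1, orderOf_one] at huo; norm_num at huo
    have hci := card_mul_index CU
    rw [h] at hci
    obtain ⟨k, hk⟩ := h176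
    have hCUN : CU = N := by
      have hne9 := H30.index_centralizer_ne_prime_pow hG (q := 3) Nat.prime_three hu1
      have hne5 := H30.index_centralizer_ne_prime_pow hG (q := 5) (by norm_num) hu1
      have h45 : CU.index ∣ 45 := ⟨k, by rw [hk] at hci; nlinarith⟩
      have hmem : CU.index ∈ Nat.divisors 45 := Nat.mem_divisors.mpr ⟨h45, by norm_num⟩
      rcases (by decide : ∀ j ∈ Nat.divisors 45,
        j = 1 ∨ j = 3 ∨ j = 5 ∨ j = 9 ∨ j = 15 ∨ j = 45) _ hmem with e1 | e1 | e1 | e1 | e1 | e1
      · exact absurd e1 (hne9 0)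
      · exact absurd e1 (hne9 1)
      · exact absurd e1 (hne5 1)
      · exact absurd e1 (hne9 2)
      · exfalso
        -- the Sylow subgroup of `CU` would have twelve conjugates in a group of order 528
        have hCUc : Nat.card CU = 528 := by rw [e1] at hci; omega
        let P₁ : Sylow 11 CU := P.subtype hPC
        have hmod : Nat.card (Sylow 11 CU) % 11 = 1 := card_sylow_modEq_one 11 CU
        have hdiv : Nat.card (Sylow 11 CU) ∣ 48 :=
          H30.card_sylow_dvd (a := 1) (by rw [hCUc]; norm_num) (by norm_num)
        have hmul' := H30.card_sylow_mul_normalizer 11 P₁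
        have hle : (N ⊓ CU).subgroupOf CU ≤ normalizer ((P₁ : Subgroup CU) : Set CU) := by
          intro x hx
          rw [mem_normalizer_iff]
          intro y
          exact (mem_normalizer_iff.mp hx.1 (y : G))
        have hdle := card_dvd_of_le hle
        rw [Nat.card_congr (subgroupOfEquivOfLe inf_le_right).toEquiv] at hdle
        have hge : Nat.card (normalizer ((P₁ : Subgroup CU) : Set CU)) ∣ Nat.card N := by
          rw [Nat.card_congr ((normalizer ((P₁ : Subgroup CU) : Set CU)).equivMapOfInjective
            CU.subtype CU.subtype_injective).toEquiv]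
          refine card_dvd_of_le ?_
          refine (le_normalizer_map _).trans (le_of_eq ?_)
          congr
          simp [P₁, map_subgroupOf_eq_of_le hPC]
        have h176' : 176 ∣ Nat.card (N ⊓ CU : Subgroup G) :=
          Nat.Coprime.mul_dvd_of_dvd_of_dvd (by norm_num : Nat.Coprime 11 16)
            (hP ▸ card_dvd_of_le (le_inf le_normalizer hPC))
            ((by rw [hTc]; norm_num : Nat.card T' = 16) ▸ card_dvd_of_le (le_inf hT'N hTC))
        have := h176'.trans hdle
        rw [hN] at hge
        rcases (by decide +kernel : ∀ j ∈ Nat.divisors 48, j % 11 = 1 → j = 1 ∨ j = 12) _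
          (Nat.mem_divisors.mpr ⟨hdiv, by norm_num⟩) hmod with e2 | e2 <;>
          rw [e2, hCUc] at hmul'
        · rw [show Nat.card (normalizer ((P₁ : Subgroup CU) : Set CU)) = 528 by omega] at hge
          norm_num at hge
        · rw [show Nat.card (normalizer ((P₁ : Subgroup CU) : Set CU)) = 44 by omega] at this
          norm_num at this
      · have hCUc : Nat.card CU = 176 := by rw [e1] at hci; omega
        have hle : N ≤ CU := by
          have hNeq : (P : Subgroup G) ⊔ T' = N := by
            refine eq_of_le_of_card_ge (sup_le le_normalizer hT'N) (Nat.le_of_dvd Nat.card_pos ?_)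
            rw [hN, show (11 : ℕ) * 8 * 2 = 11 * 16 by norm_num]
            exact Nat.Coprime.mul_dvd_of_dvd_of_dvd (by norm_num : Nat.Coprime 11 16)
              (hP.symm.dvd.trans (card_dvd_of_le (le_sup_left : (P : Subgroup G) ≤ (P : Subgroup G) ⊔ T')))
              ((show 16 = Nat.card T' by rw [hTc]; norm_num).dvd.trans
                (card_dvd_of_le (le_sup_right : T' ≤ (P : Subgroup G) ⊔ T')))
          exact hNeq ▸ sup_le hPC hTC
        exact (eq_of_le_of_card_ge hle (by rw [hCUc, hN])).symm
    -- `u` is isolated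
    have hiso : ∀ g : G, g * u * g⁻¹ ∈ T₀ → g * u * g⁻¹ = u := by
      intro g hg
      have hgN : g * u * g⁻¹ ∈ N := hT'N hg
      have hcoset : u • ((g : G) : G ⧸ N) = ((g : G) : G ⧸ N) := by
        have hc : u * (g * u * g⁻¹) = (g * u * g⁻¹) * u := by
          rw [← hCUN, hCU, mem_centralizer_singleton_iff] at hgN
          exact hgN.symm
        rw [MulAction.Quotient.smul_coe, smul_eq_mul]
        refine QuotientGroup.eq.mpr ?_
        rw [← hCUN, hCU, mem_centralizer_singleton_iff]
        have hc' := congrArg (fun t => g⁻¹ * t * g) hc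
        simp only [mul_assoc, inv_mul_cancel_left, inv_mul_cancel, mul_one] at hc'
        calc (u * g)⁻¹ * g * u = g⁻¹ * u⁻¹ * (g * u) := by group
          _ = g⁻¹ * u * (g * u) := by
            rw [inv_eq_of_mul_eq_one_right (show u * u = 1 by
              rw [← pow_two, ← huo, pow_orderOf_eq_one])]
          _ = g⁻¹ * (u * (g * u)) := by group
          _ = u * (g⁻¹ * u * g) := by rw [hc']; group
          _ = u * ((u * g)⁻¹ * g) := by
            rw [mul_inv_rev, inv_eq_of_mul_eq_one_right (show u * u = 1 by
              rw [← pow_two, ← huo, pow_orderOf_eq_one])]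
      -- `P` moves the fixed cosets other than the base one
      have hfix : Nat.card (fixedBy (G ⧸ N) u) = 1 := by
        let _ : MulAction (P : Subgroup G) (fixedBy (G ⧸ N) u) :=
          { smul := fun y c => ⟨(y : G) • c.1, by
              have h1 : u * (y : G) = (y : G) * u :=
                (mem_centralizer_iff.mp hwC y.1 y.2).symm
              show u • ((y : G) • c.1) = (y : G) • c.1
              rw [smul_smul, h1, ← smul_smul, (c.2 : u • c.1 = c.1)]⟩
            one_smul := fun c => Subtype.ext (one_smul G c.1)
            mul_smul := fun a b c => Subtype.ext (mul_smul (a : G) (b : G) c.1) }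
        have hm := P.2.card_modEq_card_fixedPoints (fixedBy (G ⧸ N) u)
        have hu1' : u • ((1 : G) : G ⧸ N) = ((1 : G) : G ⧸ N) := by
          rw [MulAction.Quotient.smul_coe, smul_eq_mul, mul_one]
          exact QuotientGroup.eq.mpr (by simpa using inv_mem (hCN hwC))
        have h1' : Nat.card (fixedPoints (P : Subgroup G) (fixedBy (G ⧸ N) u)) = 1 := by
          rw [Nat.card_eq_one_iff_exists]
          refine ⟨⟨⟨_, hu1'⟩, fun y => Subtype.ext ?_⟩, fun c => ?_⟩
          · show (y : G) • ((1 : G) : G ⧸ N) = _
            rw [MulAction.Quotient.smul_coe, smul_eq_mul, mul_one]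
            exact QuotientGroup.eq.mpr (by simpa using inv_mem (show (y : G) ∈ N from le_normalizer y.2))
          · obtain ⟨⟨c, hcu⟩, hcP⟩ := c
            refine Subtype.ext (Subtype.ext ?_)
            show c = ((1 : G) : G ⧸ N)
            induction c using QuotientGroup.induction_on with
            | H x =>
              have h1 : ((x⁻¹ • P : Sylow 11 G) : Subgroup G) ≤ N := by
                intro a ha
                rw [Sylow.coe_subgroup_smul] at ha
                obtain ⟨b, hb, rfl⟩ := ha
                have h2 : b • ((x : G) : G ⧸ N) = ((x : G) : G ⧸ N) :=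
                  congrArg Subtype.val (hcP ⟨b, hb⟩)
                rw [MulAction.Quotient.smul_coe, smul_eq_mul] at h2
                simpa [MulAut.conj_apply, mul_assoc] using QuotientGroup.eq.mp h2.symm
              have h4 : (x⁻¹ • P : Sylow 11 G) = P := by
                apply Sylow.ext
                have h5 : ((x⁻¹ • P : Sylow 11 G) : Subgroup G) ≤ (P : Subgroup G) := by
                  have := IsPGroup.inf_normalizer_sylow (x⁻¹ • P : Sylow 11 G).2 P
                  change ((x⁻¹ • P : Sylow 11 G) : Subgroup G) ⊓ N = _ at this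
                  rw [inf_eq_left.mpr h1] at this
                  exact this.le.trans inf_le_right
                exact ((x⁻¹ • P : Sylow 11 G).3 P.2 h5).symm
              have h6 := Sylow.smul_eq_iff_mem_normalizer.mp h4
              exact QuotientGroup.eq.mpr (show x⁻¹ * 1 ∈ N from (mul_one x⁻¹).symm ▸ (show x⁻¹ ∈ N from h6))
        have hmod4 := H30.card_fixedBy_involution_mod_four hG N
          (show u ^ 2 = 1 by rw [← huo, pow_orderOf_eq_one])
        rw [hidx] at hmod4
        rw [h1'] at hm
        have hle : Nat.card (fixedBy (G ⧸ N) u) ≤ 45 := by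
          rw [← hidx, N.index_eq_card]; exact Finite.card_subtype_le _
        have hne45 : Nat.card (fixedBy (G ⧸ N) u) ≠ 45 := by
          intro e45
          have hall : ∀ x : G ⧸ N, u • x = x := by
            intro x
            have := Set.eq_of_subset_of_ncard_le (Set.subset_univ (fixedBy (G ⧸ N) u))
              (by rw [Set.ncard_univ, ← Nat.card_coe_set_eq, e45, ← N.index_eq_card, hidx])
            exact (show x ∈ fixedBy (G ⧸ N) u from this.symm ▸ Set.mem_univ x)
          have hcore : u ∈ N.normalCore := by
            intro x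
            have := hall ((x⁻¹ : G) : G ⧸ N)
            rw [MulAction.Quotient.smul_coe, smul_eq_mul] at this
            simpa [mul_assoc] using inv_mem (QuotientGroup.eq.mp this)
          rcases IsSimpleGroup.eq_bot_or_eq_top_of_normal N.normalCore inferInstance with h' | h'
          · rw [h', mem_bot] at hcore; exact hu1 hcore
          · have := top_le_iff.mp (h' ▸ N.normalCore_le)
            rw [this, index_top] at hidx; norm_num at hidx
        exact (by decide : ∀ f ≤ 45, f ≠ 45 → f % 11 = 1 → f % 4 = 45 % 4 → f = 1) _ hle hne45 hm hmod4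
      obtain ⟨c0, hc0⟩ := Nat.card_eq_one_iff_exists.mp hfix
      have e1 := congrArg Subtype.val ((hc0 ⟨_, hcoset⟩).trans (hc0 ⟨((1 : G) : G ⧸ N), by
        show u • _ = _
        rw [MulAction.Quotient.smul_coe, smul_eq_mul, mul_one]
        exact QuotientGroup.eq.mpr (by simpa using inv_mem (hCN hwC))⟩).symm)
      have hg' : g ∈ N := by simpa using QuotientGroup.eq.mp e1.symm
      rw [← hCUN, hCU, mem_centralizer_singleton_iff] at hg'
      rw [hg', mul_assoc, mul_inv_cancel, mul_one]
    have hzst := H28.zStar (H28.isIsolatedInvolution_of_sylow T₀ huo hiso)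
    have hcore : Cfsg.pPrimeCore 2 G = ⊥ := by
      have := H19.pPrimeCore_normal 2 G
      refine (IsSimpleGroup.eq_bot_or_eq_top_of_normal _ this).resolve_right fun ht => ?_
      have hcop := H19.pPrimeCore_coprime (G := G) 2
      rw [ht, card_top, h] at hcop
      norm_num at hcop
    have hcen : u ∈ center G := mem_center_iff.mpr fun g => by
      have h2 := hzst g
      rw [hcore, mem_bot, mul_inv_eq_one, mul_inv_eq_iff_eq_mul] at h2
      exact h2.symm
    rcases IsSimpleGroup.eq_bot_or_eq_top_of_normal (center G) inferInstance with h' | h'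
    · rw [h', mem_bot] at hcen; exact hu1 hcen
    · exact hG ⟨⟨fun a b => mem_center_iff.mp (h' ▸ mem_top b) a⟩⟩
  · rw [hn] at hmul
    obtain ⟨rfl, rfl⟩ : e = 5 ∧ c = 1 := by rcases he10 with rfl | rfl | rfl <;> omega
    exact H30.exists_self_centralizing 11 5 P hP (by rw [hC]) (by rw [hN])

end Cfsg.Agent.H30.Order7920
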