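import Mathlib

/-!
# The arithmetic in the determination of the order of Janko's first group
-/

set_option autoImplicit false
set_option maxRecDepth 4000
set_option maxHeartbeats 1000000

namespace Cfsg.Agent.H30.TwoTimesA5

section Numbers

/-- No solution in the first configuration. -/
theorem noFirst (G p q r m : ℤ) (hG : ∃ k : ℤ, G = 840 * k ∧ k % 2 = 1 ∧ 0 < k)
    (hp : p % 8 = 6) (hq : q ≠ 0) (hr : r ≠ 0) (h0 : 1 + p + q + r = 0) (h1 : 1 + 2 * p + m = 0)
    (e1 : (G : ℚ) * (1 + 4 / p + 9 / q + 36 / r) = 144000)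
    (e2 : (G : ℚ) * (1 + 8 / p + 25 / m) = 86400) : False := by
  obtain ⟨k, hGk, hk, hk0⟩ := hG
  obtain rfl : m = -1 - 2 * p := by omega
  obtain rfl : r = -1 - p - q := by omega
  have hp0 : (p : ℚ) ≠ 0 := by exact_mod_cast (show p ≠ 0 by omega)
  have hm0 : ((-1 - 2 * p : ℤ) : ℚ) ≠ 0 := by exact_mod_cast (show -1 - 2 * p ≠ 0 by omega)
  have hq0 : (q : ℚ) ≠ 0 := by exact_mod_cast hq
  have hr0 : ((-1 - p - q : ℤ) : ℚ) ≠ 0 := by exact_mod_cast hr
  have h2 : G * (p - 2) ^ 2 = 43200 * (p * (2 * p + 1)) := by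
    field_simp at e2
    push_cast at e2
    have h : ((G : ℤ) : ℚ) * ((p : ℚ) - 2) ^ 2 = 43200 * ((p : ℚ) * (2 * p + 1)) := by
      linear_combination (-1 / 2 : ℚ) * e2
    exact_mod_cast h
  obtain ⟨u, rfl⟩ : ∃ u, p = 4 * u + 2 := ⟨(p - 2) / 4, by omega⟩
  have h3 : G * (u * u) = 2700 * ((4 * u + 2) * (8 * u + 5)) := by
    have : 16 * (G * (u * u)) = 16 * (2700 * ((4 * u + 2) * (8 * u + 5))) := by
      linear_combination h2
    linarith
  have hu0 : u ≠ 0 := by omega
  have hdvd : u ∣ 27000 := ⟨G * u - 2700 * (32 * u + 36), by linear_combination -h3⟩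
  have hmem : u.natAbs ∈ Nat.divisors 27000 :=
    Nat.mem_divisors.mpr ⟨by simpa using Int.natAbs_dvd_natAbs.mpr hdvd, by norm_num⟩
  have hlist : ∀ n ∈ Nat.divisors 27000, ∀ ε ∈ [(1 : ℤ), -1],
      2700 * ((4 * (ε * n) + 2) * (8 * (ε * n) + 5)) % (840 * ((ε * n) * (ε * n))) = 0 →
      2700 * ((4 * (ε * n) + 2) * (8 * (ε * n) + 5)) / (840 * ((ε * n) * (ε * n))) % 2 = 1 →
      ε * n = 3 ∨ ε * n = -5 := by
    decide +kernel
  obtain ⟨ε, hε, hse⟩ : ∃ ε ∈ [(1 : ℤ), -1], u = ε * u.natAbs := by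
    rcases Int.natAbs_eq u with h | h
    · exact ⟨1, by simp, by rw [one_mul]; exact h⟩
    · exact ⟨-1, by simp, by rw [neg_one_mul]; exact h⟩
  have h840 : 840 * (u * u) ≠ 0 := mul_ne_zero (by norm_num) (mul_ne_zero hu0 hu0)
  have h4 : 2700 * ((4 * u + 2) * (8 * u + 5)) = k * (840 * (u * u)) := by
    rw [← h3, hGk]; ring
  have hc := hlist _ hmem ε hε (by rw [← hse, h4, Int.mul_emod_left])
    (by rw [← hse, h4, Int.mul_ediv_cancel _ h840]; exact hk)
  rw [← hse] at hc
  rcases hc with rfl | rfl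
  · obtain rfl : G = 121800 := by linarith
    field_simp at e1
    push_cast at e1
    have h5 : (q - 123) * (q - 123) = 13824 := by
      have h : ((q : ℚ) - 123) * ((q : ℚ) - 123) = 13824 := by
        linear_combination (-1 / 176400 : ℚ) * e1
      exact_mod_cast h
    rcases le_or_gt 0 (q - 123) with h6 | h6
    · have : 117 < q - 123 := by nlinarith
      have : q - 123 < 118 := by nlinarith
      omega
    · have : q - 123 < -117 := by nlinarith
      have : -118 < q - 123 := by nlinarith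
      omega
  · obtain rfl : G = 68040 := by linarith
    field_simp at e1
    push_cast at e1
    have h5 : 253 * (q * q) + 802 * q + 28917 = 0 := by
      have h : 253 * ((q : ℚ) * q) + 802 * q + 28917 = 0 := by
        linear_combination (-1 / 6480 : ℚ) * e1
      exact_mod_cast h
    nlinarith [mul_self_nonneg (253 * q + 401)]

/-- The check of the finitely many candidates. -/
def candOK (i j : ℕ) : Bool :=
  let p : ℤ := 8 * (i : ℤ) - 645
  let q : ℤ := 8 * (j : ℤ) - 645
  let r : ℤ := -1 - p - q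
  let num := 144000 * (p * q * r)
  let den := 840 * ((r + 1) * (p * q - 9 * r))
  decide (num % den ≠ 0 ∨ num / den % 2 = 0 ∨ num / den ≤ 0 ∨ den = 0 ∨
    (840 * (num / den) = 21000 ∧ r = -7) ∨ (840 * (num / den) = 175560) ∨
    (840 * (num / den) = 189000 ∧ r = -7) ∨
    (840 * (num / den) = 189000 ∧ r = -15 ∧ ((p = 35 ∧ q = -21) ∨ (p = -21 ∧ q = 35))) ∨
    (840 * (num / den) = 511560 ∧ r = 49) ∨ (840 * (num / den) = 861000 ∧ r = 41))

theorem cand_all : (List.range 163).all (fun i => (List.range 163).all fun j => candOK i j) =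
    true := by decide +kernel

theorem cast_dvd_bound {x : ℤ} {c : ℚ} {B : ℕ} (hc : 0 ≤ c) (hB : (B : ℤ) ≤ |x|) (hB0 : 0 < B) :
    -(c / B) ≤ c / x ∧ c / x ≤ c / B := by
  have h : |c / x| ≤ c / B := by
    rw [abs_div, abs_of_nonneg hc]
    refine div_le_div_of_nonneg_left hc (by exact_mod_cast hB0) ?_
    rw [← Int.cast_abs]
    exact_mod_cast hB
  exact abs_le.mp h

/-- The second configuration. -/
theorem second (G p q r m n : ℤ) (hG : ∃ k : ℤ, G = 840 * k ∧ k % 2 = 1 ∧ 0 < k)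
    (hp : p % 8 = 3) (hq : q % 8 = 3) (hr : r % 8 = 1) (hr1 : r ≠ 1) (hm : m ≠ 0) (hn : n ≠ 0)
    (hpG : 2 * (p * p) ≤ G) (hqG : 2 * (q * q) ≤ G)
    (h0 : 1 + p + q + r = 0) (h1 : 1 + r + m + n = 0)
    (e1 : (G : ℚ) * (1 + 9 / p + 9 / q + 1 / r) = 144000)
    (e2 : (G : ℚ) * (1 + 1 / r + 25 / m + 25 / n) = 86400) :
    G = 175560 ∨ (G = 189000 ∧ r = -15 ∧ (p = 35 ∨ p = -21) ∧ (q = 35 ∨ q = -21) ∧
      (m = 35 ∨ m = -21) ∧ (n = 35 ∨ n = -21)) := by
  obtain ⟨k, hGk, hk, hk0⟩ := hG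
  have hG0 : (0 : ℚ) < (G : ℚ) := by exact_mod_cast (show 0 < G by omega)
  have hr7 : 7 ≤ |r| := by
    rcases abs_cases r with ⟨e, h⟩ | ⟨e, h⟩ <;> rw [e] <;> omega
  -- bounds
  have small : ∀ p q : ℤ, p % 8 = 3 → q % 8 = 3 → |p| < 40 → 1 + p + q + r = 0 →
      2 * (q * q) ≤ G → (G : ℚ) * (1 + 9 / p + 9 / q + 1 / r) = 144000 → |q| ≤ 640 := by
    intro p q hp hq hps hs hqG he
    by_contra hb
    have hq' : (640 : ℤ) ≤ |q| := by omega
    have hr' : (500 : ℤ) ≤ |r| := by
      rcases abs_cases p with ⟨a, _⟩ | ⟨a, _⟩ <;> rcases abs_cases q with ⟨b, _⟩ | ⟨b, _⟩ <;>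
        rcases abs_cases r with ⟨c, _⟩ | ⟨c, _⟩ <;> rw [c] <;> rw [a] at hps <;> rw [b] at hq' <;>
        omega
    obtain ⟨b1, b2⟩ := cast_dvd_bound (c := 9) (B := 640) (by norm_num) hq' (by norm_num)
    obtain ⟨c1, c2⟩ := cast_dvd_bound (c := 1) (B := 500) (by norm_num) hr' (by norm_num)
    have hE : 0 < 1 + (9 : ℚ) / p + 9 / q + 1 / r := by
      by_contra h
      nlinarith
    have hp1 : p = -5 ∨ (28 / 100 : ℚ) + 1 / 50 ≤ 1 + 9 / p := by
      by_cases h5 : p = -5
      · exact Or.inl h5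
      · right
        have hp' : p ≤ -13 ∨ 0 < p := by omega
        rcases hp' with h | h
        · have h' : (p : ℚ) ≤ -13 := by exact_mod_cast h
          have : (9 : ℚ) / p ≥ -(9 / 13) := by
            rw [ge_iff_le, le_div_iff_of_neg (by linarith)]
            linarith
          linarith
        · have : (0 : ℚ) < 9 / p := div_pos (by norm_num) (by exact_mod_cast h)
          linarith
    rcases hp1 with rfl | hp1
    · simp only [Nat.cast_ofNat, Int.cast_neg, Int.cast_ofNat] at hE b1 b2 c1 c2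
      linarith
    · have hE' : (28 / 100 : ℚ) ≤ 1 + 9 / p + 9 / q + 1 / r := by
        simp only [Nat.cast_ofNat] at b1 b2 c1 c2
        linarith
      have hGb : (G : ℚ) ≤ 600000 := by
        have := mul_le_mul_of_nonneg_left hE' hG0.le
        linarith
      have hGb' : G ≤ 600000 := by exact_mod_cast hGb
      have : (640 : ℤ) * 640 ≤ q * q := by
        rw [← abs_mul_abs_self q]
        exact mul_le_mul hq' hq' (by norm_num) (abs_nonneg q)
      omega
  have hb : |p| ≤ 640 ∧ |q| ≤ 640 := by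
    by_cases hps : |p| < 40
    · exact ⟨by omega, small p q hp hq hps h0 hqG e1⟩
    by_cases hqs : |q| < 40
    · refine ⟨small q p hq hp hqs (by omega) hpG ?_, by omega⟩
      rw [← e1]; ring
    have hp' : (40 : ℤ) ≤ |p| := by omega
    have hq' : (40 : ℤ) ≤ |q| := by omega
    obtain ⟨a1, -⟩ := cast_dvd_bound (c := 9) (B := 40) (by norm_num) hp' (by norm_num)
    obtain ⟨b1, -⟩ := cast_dvd_bound (c := 9) (B := 40) (by norm_num) hq' (by norm_num)
    obtain ⟨c1, -⟩ := cast_dvd_bound (c := 1) (B := 7) (by norm_num) hr7 (by norm_num)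
    simp only [Nat.cast_ofNat] at a1 b1 c1
    have hE : (40 / 100 : ℚ) ≤ 1 + 9 / p + 9 / q + 1 / r := by linarith
    have hGb : (G : ℚ) ≤ 400000 := by
      have := mul_le_mul_of_nonneg_left hE hG0.le
      linarith
    have hGb' : G ≤ 400000 := by exact_mod_cast hGb
    constructor
    · by_contra h
      have : (640 : ℤ) * 640 ≤ p * p := by
        rw [← abs_mul_abs_self p]
        exact mul_le_mul (by omega) (by omega) (by norm_num) (abs_nonneg p)
      omega
    · by_contra h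
      have : (640 : ℤ) * 640 ≤ q * q := by
        rw [← abs_mul_abs_self q]
        exact mul_le_mul (by omega) (by omega) (by norm_num) (abs_nonneg q)
      omega
  have hpq0 : (p : ℚ) ≠ 0 ∧ (q : ℚ) ≠ 0 ∧ (r : ℚ) ≠ 0 ∧ (m : ℚ) ≠ 0 ∧ (n : ℚ) ≠ 0 := by
    refine ⟨?_, ?_, ?_, ?_, ?_⟩ <;> norm_cast <;> omega
  obtain ⟨p0, q0, r0, m0, n0⟩ := hpq0
  have h3 : 840 * k * ((r + 1) * (p * q - 9 * r)) = 144000 * (p * q * r) := by
    rw [← hGk]
    field_simp at e1
    have h : ((G : ℤ) : ℚ) * (((r : ℚ) + 1) * ((p : ℚ) * q - 9 * r)) = 144000 * (p * q * r) := by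
      have hsum : (p : ℚ) + q + r + 1 = 0 := by
        have : ((1 + p + q + r : ℤ) : ℚ) = 0 := by rw [h0]; norm_num
        push_cast at this
        linarith
      linear_combination e1 - 9 * (G : ℚ) * r * hsum
    exact_mod_cast h
  have hden : 840 * ((r + 1) * (p * q - 9 * r)) ≠ 0 := by
    intro h
    have h4 : 144000 * (p * q * r) = 0 := by rw [← h3]; linear_combination k * h
    simp only [mul_eq_zero] at h4
    omega
  obtain ⟨i, hi⟩ : ∃ i : ℕ, p = 8 * (i : ℤ) - 645 := ⟨((p + 645) / 8).toNat, by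
    rcases abs_le.mp hb.1 with ⟨_, _⟩; omega⟩
  obtain ⟨j, hj⟩ : ∃ j : ℕ, q = 8 * (j : ℤ) - 645 := ⟨((q + 645) / 8).toNat, by
    rcases abs_le.mp hb.2 with ⟨_, _⟩; omega⟩
  have hi' : i < 163 := by rcases abs_le.mp hb.1 with ⟨_, _⟩; omega
  have hj' : j < 163 := by rcases abs_le.mp hb.2 with ⟨_, _⟩; omega
  have hc := List.all_eq_true.mp (List.all_eq_true.mp cand_all i (List.mem_range.mpr hi')) j
    (List.mem_range.mpr hj')
  simp only [candOK, decide_eq_true_eq, ← hi, ← hj] at hc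
  obtain rfl : r = -1 - p - q := by omega
  have hk' : 144000 * (p * q * (-1 - p - q)) = k * (840 * ((-1 - p - q + 1) * (p * q - 9 * (-1 - p - q)))) := by
    linear_combination -h3
  rw [hk', Int.mul_ediv_cancel _ hden, Int.mul_emod_left] at hc
  set r := -1 - p - q with hr_def
  have h5 : (G * (r + 1) - 86400 * r) * (m * n) = 25 * r * G * (r + 1) := by
    field_simp at e2
    have h : ((G : ℚ) * ((r : ℚ) + 1) - 86400 * r) * ((m : ℚ) * n) = 25 * r * G * (r + 1) := by
      have hsum : (m : ℚ) + n + r + 1 = 0 := by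
        have : ((1 + r + m + n : ℤ) : ℚ) = 0 := by rw [h1]; norm_num
        push_cast at this
        linarith
      linear_combination e2 - 25 * (G : ℚ) * r * hsum
    exact_mod_cast h
  obtain h6 | h6 | h6 | h6 | h6 | h6 | h6 | h6 | h6 | h6 := hc
  · exact absurd rfl h6
  · omega
  · omega
  · exact absurd h6 hden
  · obtain ⟨hGv, hrv⟩ := h6
    rw [show G = 21000 by omega, hrv] at h5
    omega
  · exact Or.inl (by omega)
  · obtain ⟨hGv, hrv⟩ := h6
    exfalso
    rw [show G = 189000 by omega, hrv] at h5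
    have h7 : m * n = -375 := by omega
    have h8 : (m - 3) * (m - 3) = 384 := by
      have : n = 6 - m := by omega
      rw [this] at h7
      linear_combination -h7
    rcases le_or_gt 0 (m - 3) with h9 | h9
    · have : 19 < m - 3 := by nlinarith
      have : m - 3 < 20 := by nlinarith
      omega
    · have : m - 3 < -19 := by nlinarith
      have : -20 < m - 3 := by nlinarith
      omega
  · obtain ⟨hGv, hrv, hpqv⟩ := h6
    right
    rw [show G = 189000 by omega, hrv] at h5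
    have h7 : m * n = -735 := by omega
    have h8 : (m - 35) * (m + 21) = 0 := by
      have : n = 14 - m := by omega
      rw [this] at h7
      linear_combination -h7
    refine ⟨by omega, hrv, ?_⟩
    rcases mul_eq_zero.mp h8 with h9 | h9 <;> omega
  · obtain ⟨hGv, hrv⟩ := h6
    rw [show G = 511560 by omega, hrv] at h5
    omega
  · obtain ⟨hGv, hrv⟩ := h6
    rw [show G = 861000 by omega, hrv] at h5
    omega

end Numbers

end Cfsg.Agent.H30.TwoTimesA5
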