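import Cfsg.Agent.H30.TwoTimesA5Data
import Cfsg.Agent.H25.IndRep
import Cfsg.Agent.H26.CharPerm
import Cfsg.Agent.H57.VChar

/-!
# Generalized characters of `C2 × A5` supported on the elements powering to the central involution
-/

set_option autoImplicit false
set_option synthInstance.maxSize 4096
set_option maxHeartbeats 1000000
set_option maxRecDepth 4000

namespace Cfsg.Agent.H30.TwoTimesA5

open scoped ComplexConjugate

/-- A function of the class, living on the nontrivial coset. -/
noncomputable def ofTable (T : Fin 5 → ℂ) (m : M) : ℂ := if m.1 = 1 then 0 else T (cls m.2)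

theorem isClassFunction_ofTable (T : Fin 5 → ℂ) : Cfsg.IsClassFunction M (ofTable T) := by
  intro g x
  simp only [ofTable, Prod.fst_mul, Prod.snd_mul, Prod.fst_inv, Prod.snd_inv, cls_conj]
  rw [show x.1 * g.1 * x.1⁻¹ = g.1 by rw [mul_comm x.1, mul_assoc, mul_inv_cancel, mul_one]]

theorem sum_cls (T : Fin 5 → ℂ) :
    ∑ p : A, T (cls p) = T 0 + 15 * T 1 + 20 * T 2 + 12 * T 3 + 12 * T 4 := by
  have hc : ∀ c : Fin 5, ∑ g ∈ Finset.univ.filter (fun g : A => cls g = c), T (cls g) =
      ((![1, 15, 20, 12, 12] c : ℕ) : ℂ) * T c := fun c =>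
    (Finset.sum_congr rfl fun g hg => congrArg T (Finset.mem_filter.mp hg).2).trans
      ((Finset.sum_const _).trans ((nsmul_eq_mul _ _).trans
        (congrArg (fun n : ℕ => (n : ℂ) * T c) (class_card c))))
  refine ((Finset.sum_fiberwise_of_maps_to (g := cls) (t := Finset.univ)
    (fun g _ => Finset.mem_univ _) fun g => T (cls g)).symm.trans
    (Finset.sum_congr rfl fun c _ => hc c)).trans ?_
  simp only [Fin.sum_univ_five, Matrix.cons_val]
  push_cast
  ring

theorem zmod_sum (F : Multiplicative (ZMod 2) → ℂ) :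
    ∑ a, F a = F 1 + F (Multiplicative.ofAdd 1) := by
  rw [show (Finset.univ : Finset (Multiplicative (ZMod 2))) = {1, Multiplicative.ofAdd 1} by
    decide, Finset.sum_pair (by decide)]

theorem ofAdd_ne : (Multiplicative.ofAdd (1 : ZMod 2)) ≠ 1 := by decide

theorem sum_ofTable (T : Fin 5 → ℂ) :
    ∑ m : M, ofTable T m = T 0 + 15 * T 1 + 20 * T 2 + 12 * T 3 + 12 * T 4 := by
  rw [Fintype.sum_prod_type, zmod_sum]
  simp only [ofTable, if_pos, if_neg ofAdd_ne, Finset.sum_const_zero, zero_add]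
  exact sum_cls T

theorem card_M_cast : ((Nat.card M : ℕ) : ℂ) = 120 := by
  rw [Nat.card_eq_fintype_card, card_M]; norm_num

theorem classInner_ofTable (T U : Fin 5 → ℂ) :
    Cfsg.classInner (ofTable T) (ofTable U) =
      (120 : ℂ)⁻¹ * (T 0 * conj (U 0) + 15 * (T 1 * conj (U 1)) + 20 * (T 2 * conj (U 2)) +
        12 * (T 3 * conj (U 3)) + 12 * (T 4 * conj (U 4))) := by
  rw [Cfsg.classInner, card_M_cast]
  refine congrArg _ ((Finset.sum_congr rfl fun m _ => ?_).trans (sum_ofTable fun c => T c * conj (U c)))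
  simp only [ofTable]
  split_ifs <;> simp

theorem classInner_ofTable_one (T : Fin 5 → ℂ) :
    Cfsg.classInner (ofTable T) (fun _ => 1) =
      (120 : ℂ)⁻¹ * (T 0 + 15 * T 1 + 20 * T 2 + 12 * T 3 + 12 * T 4) := by
  rw [Cfsg.classInner, card_M_cast, ← sum_ofTable T]
  exact congrArg _ (Finset.sum_congr rfl fun m _ => by rw [map_one, mul_one])

theorem sign_mul_tbl : ∀ a b : Multiplicative (ZMod 2),
    (if a * b = 1 then (1 : ℤ) else -1) =
      (if a = 1 then 1 else -1) * (if b = 1 then 1 else -1) := by decide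

/-- The linear character with kernel the alternating group. -/
noncomputable def sgnHom : M →* ℂˣ where
  toFun m := if m.1 = 1 then 1 else -1
  map_one' := if_pos rfl
  map_mul' g h := by
    have := sign_mul_tbl g.1 h.1
    simp only [Prod.fst_mul]
    split_ifs at this ⊢ <;> simp_all

/-- A generalized character of A5 gives one of `C2 × A5` living on the nontrivial coset. -/
theorem gen_twist {α : A → ℂ} (h : Cfsg.IsGeneralizedCharacter A α) (T : Fin 5 → ℂ)
    (hT : ∀ p, 2 * α p = T (cls p)) : Cfsg.IsGeneralizedCharacter M (ofTable T) := by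
  obtain ⟨a, b, ha, hb, rfl⟩ := h
  have hs := H26.irr_isCharacter ⟨_, H26.isIrrCharacter_hom sgnHom⟩
  have ha' := H26.isCharacter_comp ha (MonoidHom.snd (Multiplicative (ZMod 2)) A)
  have hb' := H26.isCharacter_comp hb (MonoidHom.snd (Multiplicative (ZMod 2)) A)
  have e : ofTable T = (fun m : M => a m.2 + (sgnHom m : ℂ) * b m.2) -
      (fun m : M => b m.2 + (sgnHom m : ℂ) * a m.2) := by
    funext m
    have h2 := hT m.2
    simp only [Pi.sub_apply] at h2 ⊢
    simp only [ofTable, sgnHom, MonoidHom.coe_mk, OneHom.coe_mk]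
    split_ifs
    · simp only [Units.val_one, one_mul]; ring
    · simp only [Units.val_neg, Units.val_one, neg_mul, one_mul]
      rw [← h2]; ring
  rw [e]
  exact H57.gen_sub
    (H57.gen_of_char (H26.isCharacter_add ha' (H26.isCharacter_mul hs hb')))
    (H57.gen_of_char (H26.isCharacter_add hb' (H26.isCharacter_mul hs ha')))

/-- An induced character from integral values. -/
theorem indFun_int (K : Subgroup A) [DecidablePred (· ∈ K)] (n : ℕ)
    (hn : (Finset.univ.filter fun g : A => g ∈ K).card = n) (T : Fin 5 → ℤ)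
    (h : ∀ c : Fin 5, (∑ x : A, if x⁻¹ * rep c * x ∈ K then (1 : ℤ) else 0) = (n : ℤ) * T c) :
    Cfsg.indFun K (fun _ : K => (1 : ℂ)) = fun g => (T (cls g) : ℂ) := by
  funext g
  obtain ⟨x, hx⟩ := exists_conj g
  have hc := H25.isClassFunction_indFun K (fun _ : K => (1 : ℂ)) (rep (cls g)) x
  rw [hx] at hc
  rw [hc, H25.indFun_apply, Nat.card_eq_fintype_card, Fintype.card_subtype, hn]
  have hn0 : (n : ℂ) ≠ 0 := by
    rw [← hn, Nat.cast_ne_zero]
    exact Finset.card_ne_zero.mpr ⟨1, by simp [one_mem]⟩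
  have e : ∀ x : A, Cfsg.extendByZero K (fun _ : K => (1 : ℂ)) (x⁻¹ * rep (cls g) * x) =
      (((if x⁻¹ * rep (cls g) * x ∈ K then (1 : ℤ) else 0) : ℤ) : ℂ) := by
    intro x
    by_cases hm : x⁻¹ * rep (cls g) * x ∈ K
    · rw [H25.extendByZero_of_mem _ _ hm, if_pos hm, Int.cast_one]
    · rw [H25.extendByZero_of_notMem _ _ hm, if_neg hm, Int.cast_zero]
  rw [Finset.sum_congr rfl fun x _ => e x, ← Int.cast_sum, h, Int.cast_mul, Int.cast_natCast,
    ← mul_assoc, inv_mul_cancel₀ hn0, one_mul]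

theorem gen_one : Cfsg.IsGeneralizedCharacter A (fun _ => (1 : ℂ)) := by
  have h1 := H26.irr_isCharacter (H26.oneIrr A)
  exact H57.gen_of_char h1

theorem gen_fix : Cfsg.IsGeneralizedCharacter A (fun p => (fixCount p : ℂ)) := by
  classical
  have h := H26.isCharacter_permChar (G := A) (Fin 5)
  have e : H26.permChar (G := A) (Fin 5) = fun p => (fixCount p : ℂ) := by
    funext p
    simp only [H26.permChar, Nat.card_eq_fintype_card]
    congr 1
    exact (Fintype.card_subtype _).trans rfl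
  exact e ▸ H57.gen_of_char h

theorem gen_six : Cfsg.IsGeneralizedCharacter A
    (fun g => ((![6, 2, 0, 1, 1] (cls g) : ℤ) : ℂ)) := by
  rw [← indFun_int dihedral 10 card_dihedral _ dihedral_count]
  refine H57.gen_of_char (H25.isCharacter_indFun _ ?_)
  exact H26.irr_isCharacter (H26.oneIrr dihedral)

theorem idx_one : idx 1 = 0 := by decide +kernel

/-- The character induced from a linear character of the cyclic subgroup of order five. -/
theorem gen_indFive (ζ : ℂ) (hζ : ζ ^ 5 = 1) : Cfsg.IsGeneralizedCharacter A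
    (fun g => ![12, 0, 0, ζ + ζ ^ 4, ζ ^ 2 + ζ ^ 3] (cls g)) := by
  classical
  have h0 : ζ ≠ 0 := fun h => by rw [h] at hζ; norm_num at hζ
  let f : cyclicFive →* ℂˣ :=
    { toFun := fun k => Units.mk0 (ζ ^ idx k) (pow_ne_zero _ h0)
      map_one' := by ext; simp [idx_one]
      map_mul' := fun a b => by
        ext
        simp only [Units.val_mul, Units.val_mk0, Subgroup.coe_mul, idx_mul _ _ a.2 b.2, ← pow_add]
        exact (pow_eq_pow_mod _ hζ).symm }
  have hval : Cfsg.indFun cyclicFive (fun k => ((f k : ℂˣ) : ℂ)) =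
      fun g => ![12, 0, 0, ζ + ζ ^ 4, ζ ^ 2 + ζ ^ 3] (cls g) := by
    funext g
    obtain ⟨x, hx⟩ := exists_conj g
    have hc := H25.isClassFunction_indFun cyclicFive (fun k => ((f k : ℂˣ) : ℂ)) (rep (cls g)) x
    rw [hx] at hc
    rw [hc, H25.indFun_apply, Nat.card_eq_fintype_card, Fintype.card_subtype, card_cyclicFive]
    have e : ∀ x : A, Cfsg.extendByZero cyclicFive (fun k => ((f k : ℂˣ) : ℂ))
        (x⁻¹ * rep (cls g) * x) = ∑ j : Fin 5,
          if x⁻¹ * rep (cls g) * x ∈ cyclicFive ∧ idx (x⁻¹ * rep (cls g) * x) = (j : ℕ) then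
            ζ ^ (j : ℕ) else 0 := by
      intro x
      by_cases hm : x⁻¹ * rep (cls g) * x ∈ cyclicFive
      · rw [H25.extendByZero_of_mem _ _ hm]
        have hlt : idx (x⁻¹ * rep (cls g) * x) < 5 := Fin.is_lt _
        rw [Finset.sum_eq_single (⟨_, hlt⟩ : Fin 5)]
        · rw [if_pos ⟨hm, rfl⟩]; rfl
        · intro j _ hj
          rw [if_neg fun h => hj (Fin.ext h.2.symm)]
        · exact fun h => absurd (Finset.mem_univ _) h
      · rw [H25.extendByZero_of_notMem _ _ hm, Finset.sum_eq_zero]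
        intro j _
        rw [if_neg fun h => hm h.1]
    rw [Finset.sum_congr rfl fun x _ => e x, Finset.sum_comm]
    simp only [← Finset.sum_filter, Finset.sum_const, idx_count, nsmul_eq_mul, Fin.sum_univ_five]
    generalize cls g = c
    fin_cases c <;> simp <;> ring
  rw [← hval]
  exact H57.gen_of_char (H25.isCharacter_indFun _
    (H26.irr_isCharacter ⟨_, H26.isIrrCharacter_hom f⟩))

/-- A table vanishing at the involutions of A5. -/
def Vanishes (T : Fin 5 → ℂ) : Prop := T 1 = 0

/-- The table of `2(1 + 3)`. -/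
noncomputable def Ta (s : ℂ) : Fin 5 → ℂ := ![8, 0, 2, 4 + 2 * s, 2 - 2 * s]

/-- The table of `2(3 - 3')`. -/
noncomputable def Tb (s : ℂ) : Fin 5 → ℂ := ![0, 0, 0, 4 * s + 2, -(4 * s + 2)]

/-- The table of `2(1 - 5)`. -/
noncomputable def Tp : Fin 5 → ℂ := ![-8, 0, 4, 2, 2]

/-- The table of `2 · 4`. -/
noncomputable def Tc : Fin 5 → ℂ := ![8, 0, 2, -2, -2]

/-- The golden data. -/
structure Lattice where
  s : ℂ
  conj_s : conj s = s
  sq_s : s * s = 1 - s
  gena : Cfsg.IsGeneralizedCharacter M (ofTable (Ta s))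
  genb : Cfsg.IsGeneralizedCharacter M (ofTable (Tb s))
  genp : Cfsg.IsGeneralizedCharacter M (ofTable Tp)
  genc : Cfsg.IsGeneralizedCharacter M (ofTable Tc)

theorem exists_lattice : Nonempty Lattice := by
  set ζ : ℂ := Complex.exp (2 * Real.pi * Complex.I / (5 : ℕ)) with hζdef
  have hp : IsPrimitiveRoot ζ 5 := Complex.isPrimitiveRoot_exp 5 (by norm_num)
  have h5 : ζ ^ 5 = 1 := hp.pow_eq_one
  have hsum : 1 + ζ + ζ ^ 2 + ζ ^ 3 + ζ ^ 4 = 0 := by
    have := hp.geom_sum_eq_zero (by norm_num)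
    simp only [Finset.sum_range_succ, Finset.sum_range_zero, zero_add, pow_zero, pow_one] at this
    exact this
  have hcj : conj ζ = ζ ^ 4 := by
    have h1 : conj ζ * ζ = 1 := by
      rw [mul_comm, Complex.mul_conj, Complex.normSq_eq_norm_sq,
        Complex.norm_eq_one_of_pow_eq_one h5 (by norm_num)]
      simp
    calc conj ζ = conj ζ * ζ ^ 5 := by rw [h5, mul_one]
      _ = conj ζ * ζ * ζ ^ 4 := by ring
      _ = _ := by rw [h1, one_mul]
  have hfour : Cfsg.IsGeneralizedCharacter A ((fun p => (fixCount p : ℂ)) - fun _ => (1 : ℂ)) :=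
    H57.gen_sub gen_fix gen_one
  have hfive : Cfsg.IsGeneralizedCharacter A
      ((fun g => ((![6, 2, 0, 1, 1] (cls g) : ℤ) : ℂ)) - fun _ => (1 : ℂ)) :=
    H57.gen_sub gen_six gen_one
  have hthree := H57.gen_sub (H57.gen_sub (gen_indFive ζ h5) hfour) hfive
  have h52 : (ζ ^ 2) ^ 5 = 1 := by rw [← pow_mul, mul_comm, pow_mul, h5, one_pow]
  refine ⟨⟨ζ + ζ ^ 4, ?_, ?_, ?_, ?_, ?_, ?_⟩⟩
  · rw [map_add, map_pow, hcj, ← pow_mul]
    linear_combination (ζ * (ζ ^ 10 + ζ ^ 5 + 1)) * h5
  · linear_combination (ζ ^ 3 + 2) * h5 + hsum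
  · refine gen_twist (H57.gen_add gen_one hthree) _ fun p => ?_
    simp only [Pi.add_apply, Pi.sub_apply, fixCount_table]
    generalize cls p = c
    fin_cases c <;> simp [Ta]
    all_goals first | linear_combination 2 * hsum | ring
  · refine gen_twist (H57.gen_sub (gen_indFive ζ h5) (gen_indFive (ζ ^ 2) h52)) _ fun p => ?_
    simp only [Pi.sub_apply]
    generalize cls p = c
    fin_cases c <;> simp [Tb]
    · linear_combination (-2 * ζ ^ 3) * h5 - 2 * hsum
    · linear_combination (-2 * ζ) * h5 + 2 * hsum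
  · refine gen_twist (H57.gen_sub gen_one hfive) _ fun p => ?_
    simp only [Pi.sub_apply]
    generalize cls p = c
    fin_cases c <;> simp [Tp] <;> norm_num
  · refine gen_twist hfour _ fun p => ?_
    simp only [Pi.sub_apply, fixCount_table]
    generalize cls p = c
    fin_cases c <;> simp [Tc] <;> norm_num

end Cfsg.Agent.H30.TwoTimesA5
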