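import Mathlib

/-!
# Finite computations in the direct product of a group of order two and A5
-/

set_option autoImplicit false
set_option synthInstance.maxSize 4096
set_option maxRecDepth 4000
set_option maxHeartbeats 1000000

namespace Cfsg.Agent.H30.TwoTimesA5

/-- The alternating group of degree five. -/
abbrev A : Type := alternatingGroup (Fin 5)

/-- The group. -/
abbrev M : Type := Multiplicative (ZMod 2) × A

/-- An element of order five. -/
def cA : A := ⟨finRotate 5, by rw [Equiv.Perm.mem_alternatingGroup]; decide⟩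

/-- An element of order three. -/
def rA : A := ⟨Equiv.swap 0 1 * Equiv.swap 1 2, by rw [Equiv.Perm.mem_alternatingGroup]; decide⟩

/-- An involution. -/
def vA : A := ⟨Equiv.swap 0 1 * Equiv.swap 2 3, by rw [Equiv.Perm.mem_alternatingGroup]; decide⟩

/-- The central involution. -/
def τ : M := (Multiplicative.ofAdd 1, 1)

/-- The number of fixed points. -/
def fixCount (p : A) : ℕ := (Finset.univ.filter fun i : Fin 5 => p.1 i = i).card

/-- The parity of the cyclic sequence through `0`. -/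
def seqOdd (p : A) : Bool :=
  (Finset.univ.filter fun q : Fin 4 × Fin 4 =>
    q.1 < q.2 ∧ (p.1 ^ (q.2.val + 1)) 0 < (p.1 ^ (q.1.val + 1)) 0).card % 2 == 1

/-- The class of an element of A5. -/
def cls (p : A) : Fin 5 :=
  if fixCount p = 5 then 0 else if fixCount p = 1 then 1 else if fixCount p = 2 then 2
  else if seqOdd p then 4 else 3

/-- Class representatives. -/
def rep : Fin 5 → A := ![1, vA, rA, cA, cA ^ 2]

theorem cls_rep : ∀ c : Fin 5, cls (rep c) = c := by decide +kernel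

theorem cls_eq_zero : ∀ p : A, cls p = 0 ↔ p = 1 := by decide +kernel

theorem exists_conj : ∀ p : A, ∃ x : A, x * rep (cls p) * x⁻¹ = p := by decide +kernel

theorem cls_conj_rep : ∀ c : Fin 5, ∀ x : A, cls (x * rep c * x⁻¹) = c := by decide +kernel

theorem cls_conj (p x : A) : cls (x * p * x⁻¹) = cls p := by
  obtain ⟨y, hy⟩ := exists_conj p
  have h : x * p * x⁻¹ = x * y * rep (cls p) * (x * y)⁻¹ := by
    calc x * p * x⁻¹ = x * (y * rep (cls p) * y⁻¹) * x⁻¹ := by rw [hy]
      _ = _ := by group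
  rw [h, cls_conj_rep]

theorem class_card : ∀ c : Fin 5,
    (Finset.univ.filter fun p : A => cls p = c).card = ![1, 15, 20, 12, 12] c := by decide +kernel

theorem cls_pow_seven : ∀ p : A, cls (p ^ 7) = ![0, 1, 2, 4, 3] (cls p) := by decide +kernel

theorem card_A : Fintype.card A = 60 := by decide +kernel

theorem card_M : Fintype.card M = 120 := by decide +kernel

theorem fst_pow_seven : ∀ a : Multiplicative (ZMod 2), a ^ 7 = a := by decide +kernel

theorem special_iff : ∀ m : M, m ^ 15 = τ ↔ (m.1 ≠ 1 ∧ cls m.2 ≠ 1) := by decide +kernel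

theorem tau_ne : τ ≠ 1 ∧ τ * τ = 1 := by decide +kernel

theorem tau_central : ∀ m : M, τ * m = m * τ := by decide +kernel

theorem central_eq : ∀ m : M, m * (1, cA) = (1, cA) * m → m * (1, rA) = (1, rA) * m →
    m = 1 ∨ m = τ := by decide +kernel

theorem two_power_sq : ∀ m : M, m ^ 8 = 1 → m * m = 1 := by decide +kernel

theorem involution_cases : ∀ m : M, m * m = 1 → m ≠ 1 → m ≠ τ →
    (m.1 = 1 ∧ cls m.2 = 1) ∨ (m.1 ≠ 1 ∧ cls m.2 = 1) := by decide +kernel

theorem tau_mul_fst : ∀ m : M, (τ * m).1 = 1 ↔ m.1 ≠ 1 := by decide +kernel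

theorem involution_conj : ∀ a b : M, a.1 = b.1 → cls a.2 = 1 → cls b.2 = 1 →
    ∃ x : M, x * a * x⁻¹ = b := by
  intro a b h ha hb
  obtain ⟨x, hx⟩ := exists_conj a.2
  obtain ⟨y, hy⟩ := exists_conj b.2
  rw [ha] at hx
  rw [hb] at hy
  refine ⟨(1, y * x⁻¹), Prod.ext (by simpa using h) ?_⟩
  show y * x⁻¹ * a.2 * (y * x⁻¹)⁻¹ = b.2
  rw [← hx, ← hy]; group

theorem noncommuting_conj : ∀ p : A, cls p = 1 →
    ∃ x : A, p * (x * p * x⁻¹) ≠ x * p * x⁻¹ * p := by decide +kernel

theorem three_cube_commute : ∀ p q : A, p ^ 3 = 1 → cls q = 1 → p * q = q * p → p = 1 := by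
  decide +kernel

theorem fst_cube : ∀ a : Multiplicative (ZMod 2), a ^ 3 = 1 → a = 1 := by decide +kernel

theorem five_element : ((1, cA) : M) ^ 5 = 1 ∧ ((1, cA) : M) ≠ 1 := by decide +kernel

theorem five_inverted : ∃ w : M, w * w = 1 ∧ w ≠ 1 ∧ w ≠ τ ∧ w * (1, cA) * w⁻¹ = (1, cA)⁻¹ := by
  decide +kernel

theorem five_centralizer : (Finset.univ.filter fun m : M => m * (1, cA) = (1, cA) * m).card = 10 := by
  decide +kernel

/-- The number of factorisations into two involutions, on the special elements. -/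
def pairTable : Fin 5 → ℕ := ![30, 0, 6, 10, 10]

theorem pair_count : ∀ g : M, g.1 ≠ 1 → cls g.2 ≠ 1 →
    (Finset.univ.filter fun x : M => (x * x = 1 ∧ x ≠ 1) ∧
      ((x * g) * (x * g) = 1 ∧ x * g ≠ 1)).card = pairTable (cls g.2) := by decide +kernel

/-- The normalizer of the cyclic subgroup of order five. -/
def dihedral : Subgroup A where
  carrier := {g | g * cA * g⁻¹ = cA ∨ g * cA * g⁻¹ = cA⁻¹}
  one_mem' := by decide +kernel
  mul_mem' {a b} ha hb := (by decide +kernel :
    ∀ a b : A, (a * cA * a⁻¹ = cA ∨ a * cA * a⁻¹ = cA⁻¹) →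
      (b * cA * b⁻¹ = cA ∨ b * cA * b⁻¹ = cA⁻¹) →
      (a * b * cA * (a * b)⁻¹ = cA ∨ a * b * cA * (a * b)⁻¹ = cA⁻¹)) a b ha hb
  inv_mem' {a} ha := (by decide +kernel :
    ∀ a : A, (a * cA * a⁻¹ = cA ∨ a * cA * a⁻¹ = cA⁻¹) →
      (a⁻¹ * cA * a⁻¹⁻¹ = cA ∨ a⁻¹ * cA * a⁻¹⁻¹ = cA⁻¹)) a ha

/-- The cyclic subgroup of order five. -/
def cyclicFive : Subgroup A where
  carrier := {g | g * cA = cA * g}
  one_mem' := by decide +kernel
  mul_mem' {a b} ha hb := by
    show a * b * cA = cA * (a * b)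
    rw [mul_assoc, hb, ← mul_assoc, ha, mul_assoc]
  inv_mem' {a} ha := by
    show a⁻¹ * cA = cA * a⁻¹
    rw [inv_mul_eq_iff_eq_mul, ← mul_assoc, ha, mul_assoc, mul_inv_cancel, mul_one]

instance decDihedral (g : A) : Decidable (g ∈ dihedral) :=
  inferInstanceAs (Decidable (g * cA * g⁻¹ = cA ∨ g * cA * g⁻¹ = cA⁻¹))

instance decCyclicFive (g : A) : Decidable (g ∈ cyclicFive) :=
  inferInstanceAs (Decidable (g * cA = cA * g))

theorem card_dihedral : (Finset.univ.filter fun g : A => g ∈ dihedral).card = 10 := by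
  decide +kernel

theorem card_cyclicFive : (Finset.univ.filter fun g : A => g ∈ cyclicFive).card = 5 := by
  decide +kernel

/-- The exponent of an element of the cyclic subgroup. -/
def idx (g : A) : ℕ := (g.1 0).val

theorem idx_mul : ∀ g h : A, g ∈ cyclicFive → h ∈ cyclicFive →
    idx (g * h) = (idx g + idx h) % 5 := by decide +kernel

theorem idx_count : ∀ c : Fin 5, ∀ j : Fin 5,
    (Finset.univ.filter fun x : A => x⁻¹ * rep c * x ∈ cyclicFive ∧
      idx (x⁻¹ * rep c * x) = (j : ℕ)).card =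
    (if c = 0 then (if j = 0 then 60 else 0) else if c = 3 then (if j = 1 ∨ j = 4 then 5 else 0)
      else if c = 4 then (if j = 2 ∨ j = 3 then 5 else 0) else 0) := by decide +kernel

theorem dihedral_count : ∀ c : Fin 5,
    (∑ x : A, if x⁻¹ * rep c * x ∈ dihedral then (1 : ℤ) else 0) =
      ((10 : ℕ) : ℤ) * ![6, 2, 0, 1, 1] c := by decide +kernel

theorem fixCount_table : ∀ p : A, fixCount p = ![5, 1, 2, 0, 0] (cls p) := by decide +kernel

end Cfsg.Agent.H30.TwoTimesA5
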