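import Cfsg.Agent.H30.TwoTimesA5Data
import Cfsg.Agent.H30.GLTwoThreeFusion
import Cfsg.Agent.H28.CyclicSylow
import Cfsg.Agent.H31.SylowPrime
import Cfsg.Prelude.Def_SporadicB

/-!
# Local structure of a simple group with involution centralizer `C2 × A5`
-/

set_option autoImplicit false
set_option synthInstance.maxSize 4096
set_option maxHeartbeats 1000000

open scoped Pointwise

namespace Cfsg.Agent.H30.TwoTimesA5

variable {G : Type*} [Group G]

/-- The conjugates of `x` under a subgroup. -/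
def orbitBy (N : Subgroup G) (x : G) : Set G := {g | ∃ n ∈ N, n * x * n⁻¹ = g}

theorem card_orbitBy [Finite G] (N : Subgroup G) {x : G} (hx : x ∈ N) :
    Nat.card (orbitBy N x) * Nat.card ↥(N ⊓ Subgroup.centralizer {x}) = Nat.card N := by
  have h := H31.card_class_mul_centralizer (⟨x, hx⟩ : N)
  have e1 : Nat.card {g : N // IsConj (⟨x, hx⟩ : N) g} = Nat.card (orbitBy N x) := by
    refine Nat.card_congr (Equiv.ofBijective (fun g => ⟨(g.1 : G), ?_⟩) ⟨?_, ?_⟩)
    · obtain ⟨c, hc⟩ := isConj_iff.mp g.2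
      exact ⟨c, c.2, congrArg Subtype.val hc⟩
    · intro a b e
      exact Subtype.ext (Subtype.ext (congrArg Subtype.val e :))
    · rintro ⟨g, n, hn, rfl⟩
      exact ⟨⟨⟨n * x * n⁻¹, mul_mem (mul_mem hn hx) (inv_mem hn)⟩,
        isConj_iff.mpr ⟨⟨n, hn⟩, rfl⟩⟩, rfl⟩
  have e2 : Nat.card ↥(Subgroup.centralizer ({(⟨x, hx⟩ : N)} : Set N)) =
      Nat.card ↥(N ⊓ Subgroup.centralizer {x}) := by
    refine Nat.card_congr
      { toFun := fun c => ⟨(c.1 : G), c.1.2, ?_⟩
        invFun := fun c => ⟨⟨c.1, c.2.1⟩, ?_⟩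
        left_inv := fun c => rfl
        right_inv := fun c => rfl }
    · exact Subgroup.mem_centralizer_singleton_iff.mpr
        (congrArg Subtype.val (Subgroup.mem_centralizer_singleton_iff.mp c.2))
    · exact Subgroup.mem_centralizer_singleton_iff.mpr
        (Subtype.ext (Subgroup.mem_centralizer_singleton_iff.mp c.2.2))
  rw [e1, e2] at h
  exact h

/-- In an abelian Sylow subgroup fusion is controlled by the normalizer. -/
theorem orbitBy_normalizer [Finite G] {p : ℕ} [Fact p.Prime] (P : Sylow p G)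
    (hP : ∀ a ∈ (P : Subgroup G), ∀ b ∈ (P : Subgroup G), a * b = b * a) {x : G}
    (hx : x ∈ (P : Subgroup G)) :
    orbitBy (Subgroup.normalizer ((P : Subgroup G) : Set G)) x =
      {q | q ∈ (P : Subgroup G) ∧ IsConj x q} := by
  ext q
  constructor
  · rintro ⟨n, hn, rfl⟩
    exact ⟨(Subgroup.mem_normalizer_iff.mp hn x).mp hx, isConj_iff.mpr ⟨n, rfl⟩⟩
  · rintro ⟨hq, h⟩
    obtain ⟨g, rfl⟩ := isConj_iff.mp h
    have hc : ∀ a ∈ (P : Subgroup G), a ∈ Subgroup.centralizer ((P : Subgroup G) : Set G) :=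
      fun a ha => Subgroup.mem_centralizer_iff.mpr fun b hb => hP b hb a ha
    obtain ⟨n, hn, he⟩ := P.conj_eq_normalizer_conj_of_mem_centralizer x g⁻¹ (hc x hx)
      (hc _ (by rwa [inv_inv]))
    rw [inv_inv] at he
    exact ⟨n⁻¹, inv_mem hn, by rw [inv_inv, he]⟩

/-- The set-up. -/
structure Setting (G : Type*) [Group G] [Finite G] where
  t : G
  e : Subgroup.centralizer ({t} : Set G) ≃* M
  P : Sylow 2 G
  ht : orderOf t = 2
  htP : t ∈ (P : Subgroup G)
  hPt : ∀ x ∈ (P : Subgroup G), x * t = t * x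

variable [Finite G] (S : Setting G)

/-- The centralizer of the involution. -/
abbrev Setting.H : Subgroup G := Subgroup.centralizer ({S.t} : Set G)

/-- The involution as an element of its centralizer. -/
def Setting.t' : S.H := ⟨S.t, Subgroup.mem_centralizer_singleton_iff.mpr rfl⟩

theorem Setting.t_mul : S.t * S.t = 1 := by rw [← pow_two, ← S.ht, pow_orderOf_eq_one]

theorem Setting.t_ne : S.t ≠ 1 := fun h => by
  have := S.ht
  rw [h, orderOf_one] at this
  omega

theorem Setting.map_t : S.e S.t' = τ := by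
  have hc : ∀ b : M, S.e S.t' * b = b * S.e S.t' := fun b => by
    obtain ⟨c, rfl⟩ := S.e.surjective b
    rw [← map_mul, ← map_mul]
    exact congrArg S.e (Subtype.ext (Subgroup.mem_centralizer_singleton_iff.mp c.2).symm)
  refine (central_eq _ (hc _) (hc _)).resolve_left fun h => S.t_ne ?_
  exact congrArg Subtype.val (S.e.injective (h.trans (_root_.map_one S.e).symm))

theorem Setting.card_H : Nat.card S.H = 120 := by
  rw [Nat.card_congr S.e.toEquiv, Nat.card_eq_fintype_card, card_M]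

theorem Setting.P_le : (S.P : Subgroup G) ≤ S.H := fun x hx =>
  Subgroup.mem_centralizer_singleton_iff.mpr (S.hPt x hx)

theorem Setting.card_P : Nat.card (S.P : Subgroup G) = 8 := by
  have : Fact (Nat.Prime 2) := ⟨Nat.prime_two⟩
  have h1 := Subgroup.card_dvd_of_le S.P_le
  rw [S.card_H] at h1
  have h2 : 2 ^ 3 ∣ Nat.card (S.P : Subgroup G) := S.P.pow_dvd_card_of_pow_dvd_card
    ((show 2 ^ 3 ∣ 120 by norm_num).trans (S.card_H ▸ Subgroup.card_subgroup_dvd_card S.H))
  obtain ⟨n, hn⟩ := IsPGroup.iff_card.mp S.P.isPGroup'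
  rw [hn] at h1 h2 ⊢
  have h3 : n = 3 := by
    have hle : 3 ≤ n := (Nat.pow_dvd_pow_iff_le_right (by norm_num)).mp h2
    by_contra h
    have h4 : 2 ^ 4 ∣ 120 := (pow_dvd_pow 2 (by omega : 4 ≤ n)).trans h1
    norm_num at h4
  rw [h3]; norm_num

theorem Setting.exists_cofactor (S : Setting G) : ∃ m : ℕ, Nat.card G = 8 * m ∧ ¬ 2 ∣ m := by
  have : Fact (Nat.Prime 2) := ⟨Nat.prime_two⟩
  refine ⟨(S.P : Subgroup G).index, ?_, S.P.not_dvd_index⟩
  rw [← S.card_P, Subgroup.card_mul_index]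

theorem Setting.sq_P {x : G} (hx : x ∈ (S.P : Subgroup G)) : x * x = 1 := by
  have h8 : (⟨x, S.P_le hx⟩ : S.H) ^ 8 = 1 := by
    have h1 : (⟨x, hx⟩ : (S.P : Subgroup G)) ^ 8 = 1 := by rw [← S.card_P]; exact pow_card_eq_one'
    exact Subtype.ext (by simpa using congrArg Subtype.val h1)
  have h := two_power_sq (S.e ⟨x, S.P_le hx⟩) (by rw [← map_pow, h8, _root_.map_one])
  have := S.e.injective (((map_mul S.e _ _).trans h).trans (_root_.map_one S.e).symm)
  exact congrArg Subtype.val this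

theorem Setting.comm_P : ∀ a ∈ (S.P : Subgroup G), ∀ b ∈ (S.P : Subgroup G), a * b = b * a := by
  intro a ha b hb
  have h := S.sq_P (mul_mem ha hb)
  calc a * b = a * b * ((a * b) * (a * b))⁻¹ := by rw [h, inv_one, mul_one]
    _ = b⁻¹ * a⁻¹ := by group
    _ = b * a := by
      rw [inv_eq_of_mul_eq_one_right (S.sq_P ha), inv_eq_of_mul_eq_one_right (S.sq_P hb)]

/-- The type of an involution of the centralizer other than `t`. -/
def Setting.kind (x : S.H) : Prop := (S.e x).1 = 1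

theorem Setting.two_iff (x : S.H) : orderOf (x : G) = 2 ↔ (S.e x * S.e x = 1 ∧ S.e x ≠ 1) := by
  have : Fact (Nat.Prime 2) := ⟨Nat.prime_two⟩
  rw [Subgroup.orderOf_coe, ← MulEquiv.orderOf_eq S.e]
  constructor
  · intro h2
    have h3 := pow_orderOf_eq_one (S.e x)
    rw [h2, pow_two] at h3
    refine ⟨h3, fun h1 => ?_⟩
    rw [h1, orderOf_one] at h2
    omega
  · rintro ⟨h1, h2⟩
    exact orderOf_eq_prime (by rw [pow_two, h1]) h2

theorem Setting.cases_of_involution {x : S.H} (hx : orderOf (x : G) = 2) (hne : (x : G) ≠ S.t) :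
    cls (S.e x).2 = 1 := by
  obtain ⟨h1, h2⟩ := (S.two_iff x).mp hx
  have h3 : S.e x ≠ τ := fun h => hne (congrArg Subtype.val (S.e.injective (h.trans S.map_t.symm)))
  rcases involution_cases _ h1 h2 h3 with h | h <;> exact h.2

theorem Setting.same_kind {x y : S.H} (hx : orderOf (x : G) = 2) (hy : orderOf (y : G) = 2)
    (hxt : (x : G) ≠ S.t) (hyt : (y : G) ≠ S.t) (h : S.kind x ↔ S.kind y) :
    ∃ c : S.H, c * x * c⁻¹ = y := by
  have h12 : (S.e x).1 = (S.e y).1 := by
    have two : ∀ a b : Multiplicative (ZMod 2), (a = 1 ↔ b = 1) → a = b := by decide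
    exact two _ _ h
  obtain ⟨m, hm⟩ := involution_conj _ _ h12 (S.cases_of_involution hx hxt)
    (S.cases_of_involution hy hyt)
  obtain ⟨c, rfl⟩ := S.e.surjective m
  exact ⟨c, S.e.injective (by rw [map_mul, map_mul, map_inv, hm])⟩

variable [IsSimpleGroup G]

theorem Setting.not_isolated : ¬ H28.IsIsolatedInvolution S.t := by
  intro hiso
  have hN : (Cfsg.pPrimeCore 2 G).Normal := H19.pPrimeCore_normal 2 G
  rcases hN.eq_bot_or_eq_top with hb | hb
  · have hc : ∀ g : G, g * S.t = S.t * g := fun g => by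
      have h := H28.zStar hiso g
      rw [hb, Subgroup.mem_bot] at h
      rw [eq_comm]
      calc S.t * g = (S.t * g * S.t⁻¹ * g⁻¹) * (g * S.t) := by group
        _ = g * S.t := by rw [h, one_mul]
    have hz : S.t ∈ Subgroup.center G := Subgroup.mem_center_iff.mpr hc
    rcases (inferInstance : (Subgroup.center G).Normal).eq_bot_or_eq_top with h | h
    · exact S.t_ne (Subgroup.mem_bot.mp (h ▸ hz))
    · have hcomm : ∀ a b : S.H, a * b = b * a := fun a b => Subtype.ext
        (Subgroup.mem_center_iff.mp (h ▸ Subgroup.mem_top (b : G)) (a : G))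
      obtain ⟨a, ha⟩ := S.e.surjective (1, cA)
      obtain ⟨b, hb⟩ := S.e.surjective (1, rA)
      have h1 : ((1, cA) : M) * (1, rA) = (1, rA) * (1, cA) := by
        rw [← ha, ← hb, ← map_mul, ← map_mul, hcomm]
      exact absurd h1 (by decide +kernel)
  · have h2 := H19.pPrimeCore_coprime (G := G) 2
    rw [hb, Subgroup.card_top] at h2
    obtain ⟨m, hm, -⟩ := S.exists_cofactor
    rw [hm] at h2
    have : (2 : ℕ) ∣ Nat.gcd (8 * m) 2 := Nat.dvd_gcd (by omega) dvd_rfl
    rw [h2.gcd_eq_one] at this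
    omega

/-- The involutions of `P` other than `t` of one kind. -/
def Setting.kindSet (k : Prop) : Set G :=
  {q | ∃ h : q ∈ (S.P : Subgroup G), q ≠ 1 ∧ q ≠ S.t ∧ (S.kind ⟨q, S.P_le h⟩ ↔ k)}

omit [IsSimpleGroup G] in
theorem Setting.orderOf_mem_P {q : G} (hq : q ∈ (S.P : Subgroup G)) (h1 : q ≠ 1) : orderOf q = 2 :=
  orderOf_eq_prime (hp := ⟨Nat.prime_two⟩) (by rw [pow_two, S.sq_P hq]) h1

omit [IsSimpleGroup G] in
theorem Setting.card_kindSet (k : Prop) : (S.kindSet k).ncard = 3 := by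
  classical
  have hflip : ∀ k : Prop, (fun q => S.t * q) '' (S.kindSet k) ⊆ S.kindSet (¬ k) := by
    rintro k _ ⟨q, ⟨h, h1, ht', hk⟩, rfl⟩
    refine ⟨mul_mem S.htP h, fun e => ?_, fun e => ?_, ?_⟩
    · have := eq_inv_of_mul_eq_one_right e
      rw [inv_eq_of_mul_eq_one_right S.t_mul] at this
      exact ht' this
    · exact h1 (mul_eq_left.mp e)
    · show (S.e ⟨S.t * q, _⟩).1 = 1 ↔ ¬k
      rw [show (⟨S.t * q, S.P_le (mul_mem S.htP h)⟩ : S.H) = S.t' * ⟨q, S.P_le h⟩ from rfl,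
        map_mul, S.map_t, tau_mul_fst]
      exact not_congr hk
  have hle : ∀ k : Prop, (S.kindSet k).ncard ≤ (S.kindSet (¬ k)).ncard := fun k => by
    rw [← Set.ncard_image_of_injective (S.kindSet k) (mul_right_injective S.t)]
    exact Set.ncard_le_ncard (hflip k) (Set.toFinite _)
  have heq : (S.kindSet k).ncard = (S.kindSet (¬ k)).ncard := by
    refine le_antisymm (hle k) ((hle (¬ k)).trans (le_of_eq ?_))
    congr 1
    unfold Setting.kindSet
    simp only [not_not]
  have hU : S.kindSet k ∪ S.kindSet (¬ k) = ((S.P : Subgroup G) : Set G) \ {1, S.t} := by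
    ext q
    constructor
    · rintro (⟨h, h1, h2, -⟩ | ⟨h, h1, h2, -⟩) <;> exact ⟨h, by simp [h1, h2]⟩
    · rintro ⟨h, h12⟩
      simp only [Set.mem_insert_iff, Set.mem_singleton_iff, not_or] at h12
      by_cases hk : S.kind ⟨q, S.P_le h⟩ ↔ k
      · exact Or.inl ⟨h, h12.1, h12.2, hk⟩
      · exact Or.inr ⟨h, h12.1, h12.2, by tauto⟩
  have hdis : Disjoint (S.kindSet k) (S.kindSet (¬ k)) := by
    rw [Set.disjoint_left]
    rintro q ⟨h, -, -, hk⟩ ⟨h', -, -, hk'⟩
    tauto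
  have h6 := congrArg Set.ncard hU
  rw [Set.ncard_union_eq hdis (Set.toFinite _) (Set.toFinite _), ← heq,
    Set.ncard_sdiff (by
      rintro x (rfl | rfl)
      exacts [one_mem (S.P : Subgroup G), S.htP]) (Set.toFinite _),
    Set.ncard_pair (Ne.symm S.t_ne), show ((S.P : Subgroup G) : Set G).ncard = 8 from
      (Nat.card_coe_set_eq _).symm.trans S.card_P] at h6
  omega

omit [IsSimpleGroup G] in
theorem Setting.exists_kind (k : Prop) : ∃ q, q ∈ S.kindSet k := by
  have := S.card_kindSet k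
  exact (Set.nonempty_of_ncard_ne_zero (by omega))

/-- All involutions are conjugate to `t`. -/
theorem Setting.fusion {a : G} (ha : orderOf a = 2) : IsConj S.t a := by
  have : Fact (Nat.Prime 2) := ⟨Nat.prime_two⟩
  suffices hP : ∀ q ∈ (S.P : Subgroup G), q ≠ 1 → IsConj S.t q by
    obtain ⟨Q, hQ⟩ := (IsPGroup.of_card (p := 2) (n := 1) (G := Subgroup.zpowers a)
      (by rw [Nat.card_zpowers, ha, pow_one])).exists_le_sylow
    obtain ⟨g, hg⟩ := MulAction.exists_smul_eq G Q S.P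
    have hmem : g * a * g⁻¹ ∈ (S.P : Subgroup G) := by
      rw [← hg, Sylow.coe_subgroup_smul]
      exact ⟨a, hQ (Subgroup.mem_zpowers a), rfl⟩
    refine (hP _ hmem fun h => ?_).trans (isConj_iff.mpr ⟨g⁻¹, by group⟩)
    have : a = 1 := conj_eq_one_iff.mp h
    rw [this, orderOf_one] at ha
    omega
  -- kinds fused with `t`
  have hkind : ∀ (q : G) (k : Prop), q ∈ S.kindSet k → IsConj S.t q →
      ∀ r ∈ S.kindSet k, IsConj S.t r := by
    rintro q k ⟨hq, q1, qt, qk⟩ hc r ⟨hr, r1, rt, rk⟩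
    obtain ⟨c, hc'⟩ := S.same_kind (x := ⟨q, S.P_le hq⟩) (y := ⟨r, S.P_le hr⟩)
      (S.orderOf_mem_P hq q1) (S.orderOf_mem_P hr r1) qt rt (qk.trans rk.symm)
    exact hc.trans (isConj_iff.mpr ⟨c, congrArg Subtype.val hc'⟩)
  set O := {q | q ∈ (S.P : Subgroup G) ∧ IsConj S.t q} with hO
  have hodd : ¬ 2 ∣ O.ncard := by
    set N := Subgroup.normalizer ((S.P : Subgroup G) : Set G) with hN
    have h := card_orbitBy N (Subgroup.le_normalizer S.htP)
    rw [orbitBy_normalizer S.P S.comm_P S.htP, Nat.card_coe_set_eq] at h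
    intro h2
    obtain ⟨m, hm, hm2⟩ := S.exists_cofactor
    have h8 : 8 ∣ Nat.card ↥(N ⊓ Subgroup.centralizer {S.t}) := S.card_P ▸ Subgroup.card_dvd_of_le
      (le_inf Subgroup.le_normalizer S.P_le)
    have h16 : 16 ∣ Nat.card G := by
      refine dvd_trans ?_ (Subgroup.card_subgroup_dvd_card N)
      rw [← h]
      exact Nat.mul_dvd_mul h2 h8
    rw [hm] at h16
    omega
  obtain ⟨g, hg, hne⟩ : ∃ g : G, Commute S.t (g * S.t * g⁻¹) ∧ g * S.t * g⁻¹ ≠ S.t := by
    by_contra h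
    simp only [not_exists, not_and, not_not] at h
    exact S.not_isolated ⟨S.ht, h⟩
  set u : S.H := ⟨g * S.t * g⁻¹, Subgroup.mem_centralizer_singleton_iff.mpr hg.eq.symm⟩ with hu
  have hu2 : orderOf (u : G) = 2 :=
    (orderOf_injective (MulAut.conj g).toMonoidHom (MulAut.conj g).injective S.t).trans S.ht
  obtain ⟨q, hq⟩ := S.exists_kind (S.kind u)
  have hqc : IsConj S.t q := by
    obtain ⟨hq', q1, qt, qk⟩ := hq
    obtain ⟨c, hc⟩ := S.same_kind (x := u) (y := ⟨q, S.P_le hq'⟩) hu2 (S.orderOf_mem_P hq' q1)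
      hne qt qk.symm
    exact (isConj_iff.mpr ⟨g, rfl⟩ : IsConj S.t (u : G)).trans
      (isConj_iff.mpr ⟨c, congrArg Subtype.val hc⟩)
  have hk1 := hkind q _ hq hqc
  intro r hr r1
  by_cases rt : r = S.t
  · rw [rt]
  by_cases hrk : S.kind ⟨r, S.P_le hr⟩ ↔ S.kind u
  · exact hk1 r ⟨hr, r1, rt, hrk⟩
  by_contra hr'
  apply hodd
  have hOeq : O = insert S.t (S.kindSet (S.kind u)) := by
    ext x
    constructor
    · rintro ⟨hx, hxc⟩
      by_cases xt : x = S.t
      · exact Or.inl xt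
      refine Or.inr ?_
      have x1 : x ≠ 1 := fun h => S.t_ne (isConj_one_left.mp (h ▸ hxc))
      by_contra hxk
      refine hr' (hkind x (¬ S.kind u) ⟨hx, x1, xt, ?_⟩ hxc r ⟨hr, r1, rt, by tauto⟩)
      have : ¬ (S.kind ⟨x, S.P_le hx⟩ ↔ S.kind u) := fun h => hxk ⟨hx, x1, xt, h⟩
      tauto
    · rintro (rfl | hx)
      · exact ⟨S.htP, IsConj.refl _⟩
      · exact ⟨hx.1, hk1 x hx⟩
  rw [hOeq, Set.ncard_insert_of_notMem (fun h => by obtain ⟨_, _, h2, _⟩ := h; exact h2 rfl)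
    (Set.toFinite _), S.card_kindSet]
  norm_num

/-- An element of order three acting nontrivially on a subgroup of order seven. -/
theorem Setting.exists_seven (S : Setting G) : 840 ∣ Nat.card G ∧
    ∃ g u : G, orderOf g = 7 ∧ u ^ 3 = 1 ∧ u * g * u⁻¹ ∈ Subgroup.zpowers g ∧
      u * g ≠ g * u := by
  classical
  have : Fact (Nat.Prime 2) := ⟨Nat.prime_two⟩
  have : Fact (Nat.Prime 3) := ⟨Nat.prime_three⟩
  have : Fact (Nat.Prime 7) := ⟨by norm_num⟩
  set N := Subgroup.normalizer ((S.P : Subgroup G) : Set G) with hN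
  set K := N ⊓ Subgroup.centralizer {S.t} with hK
  have h := card_orbitBy N (Subgroup.le_normalizer S.htP)
  rw [orbitBy_normalizer S.P S.comm_P S.htP, Nat.card_coe_set_eq] at h
  have hO : {q | q ∈ (S.P : Subgroup G) ∧ IsConj S.t q} = ((S.P : Subgroup G) : Set G) \ {1} := by
    ext x
    constructor
    · rintro ⟨hx, hxc⟩
      exact ⟨hx, fun h1 => S.t_ne (isConj_one_left.mp
        (show IsConj S.t 1 from Set.mem_singleton_iff.mp h1 ▸ hxc))⟩
    · rintro ⟨hx, hx1⟩
      exact ⟨hx, S.fusion (S.orderOf_mem_P hx hx1)⟩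
  rw [hO, Set.ncard_sdiff_singleton_of_mem (one_mem (S.P : Subgroup G)), ← Nat.card_coe_set_eq,
    SetLike.coe_sort_coe, S.card_P] at h
  -- the stabiliser of `t`
  have hKH : K ≤ S.H := inf_le_right
  have hK8 : 8 ∣ Nat.card K := S.card_P ▸ Subgroup.card_dvd_of_le
    (le_inf Subgroup.le_normalizer S.P_le)
  have hK120 : Nat.card K ∣ 120 := S.card_H ▸ Subgroup.card_dvd_of_le hKH
  have hK3 : 3 ∣ Nat.card K := by
    obtain ⟨q, hq⟩ := S.exists_kind True
    obtain ⟨hq', q1, qt, qk⟩ := hq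
    have hsub : orbitBy K q = S.kindSet True := by
      ext x
      constructor
      · rintro ⟨n, hn, rfl⟩
        have hmem : n * q * n⁻¹ ∈ (S.P : Subgroup G) :=
          (Subgroup.mem_normalizer_iff.mp hn.1 q).mp hq'
        have hnt : n * S.t = S.t * n := Subgroup.mem_centralizer_singleton_iff.mp hn.2
        refine ⟨hmem, fun e => q1 (conj_eq_one_iff.mp e), fun e => qt ?_, ?_⟩
        · calc q = n⁻¹ * (n * q * n⁻¹) * n := by group
            _ = n⁻¹ * (n * S.t) := by rw [e, mul_assoc, ← hnt]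
            _ = S.t := by rw [inv_mul_cancel_left]
        · have e1 : (⟨n * q * n⁻¹, S.P_le hmem⟩ : S.H) =
              ⟨n, hKH hn⟩ * ⟨q, S.P_le hq'⟩ * (⟨n, hKH hn⟩ : S.H)⁻¹ := rfl
          show (S.e _).1 = 1 ↔ True
          rw [e1, map_mul, map_mul, map_inv, Prod.fst_mul, Prod.fst_mul, Prod.fst_inv,
            mul_comm (S.e ⟨n, hKH hn⟩).1, mul_assoc, mul_inv_cancel, mul_one]
          exact qk
      · rintro ⟨hx, x1, xt, xk⟩
        obtain ⟨c, hc⟩ := S.same_kind (x := ⟨q, S.P_le hq'⟩) (y := ⟨x, S.P_le hx⟩)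
          (S.orderOf_mem_P hq' q1) (S.orderOf_mem_P hx x1) qt xt (qk.trans xk.symm)
        let Q : Sylow 2 S.H := S.P.subtype S.P_le
        have hmemQ : ∀ y : S.H, y ∈ (Q : Subgroup S.H) ↔ (y : G) ∈ (S.P : Subgroup G) := fun y =>
          Iff.rfl
        have horb := orbitBy_normalizer Q (fun a ha b hb => Subtype.ext
          (S.comm_P _ ((hmemQ a).mp ha) _ ((hmemQ b).mp hb))) (x := ⟨q, S.P_le hq'⟩)
          ((hmemQ _).mpr hq')
        have hxm : (⟨x, S.P_le hx⟩ : S.H) ∈ orbitBy (Subgroup.normalizer ((Q : Subgroup S.H) : Set S.H))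
            ⟨q, S.P_le hq'⟩ := by
          rw [horb]
          exact ⟨(hmemQ _).mpr hx, isConj_iff.mpr ⟨c, hc⟩⟩
        obtain ⟨n, hn, hn'⟩ := hxm
        refine ⟨(n : G), ⟨Subgroup.mem_normalizer_iff.mpr fun y => ⟨fun hy => ?_, fun hy => ?_⟩,
          n.2⟩, congrArg Subtype.val hn'⟩
        · exact (hmemQ _).mp ((Subgroup.mem_normalizer_iff.mp hn ⟨y, S.P_le hy⟩).mp ((hmemQ _).mpr hy))
        · have h1 : (n⁻¹ : S.H) ∈ Subgroup.normalizer ((Q : Subgroup S.H) : Set S.H) := inv_mem hn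
          have h2 := (hmemQ _).mp ((Subgroup.mem_normalizer_iff.mp h1 ⟨_, S.P_le hy⟩).mp ((hmemQ _).mpr hy))
          simpa [mul_assoc] using h2
    have h3 := card_orbitBy K (x := q) ⟨Subgroup.le_normalizer hq', S.P_le hq'⟩
    rw [hsub, Nat.card_coe_set_eq, S.card_kindSet] at h3
    exact h3 ▸ dvd_mul_right 3 _
  have h840 : 840 ∣ Nat.card G := by
    have h7 : 7 ∣ Nat.card G :=
      (Dvd.intro _ h).trans (Subgroup.card_subgroup_dvd_card N)
    have h120 : 120 ∣ Nat.card G := S.card_H ▸ Subgroup.card_subgroup_dvd_card S.H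
    exact (show Nat.Coprime 7 120 by norm_num).mul_dvd_of_dvd_of_dvd h7 h120
  refine ⟨h840, ?_⟩
  have hK24 : Nat.card K = 24 := by
    have hlt : Nat.card K ≠ 120 := fun hc => by
      have hKeq : K = S.H := Subgroup.eq_of_le_of_card_ge hKH (by rw [hc, S.card_H])
      obtain ⟨q, hq', q1, qt, -⟩ := S.exists_kind True
      obtain ⟨x, hx⟩ := noncommuting_conj (S.e ⟨q, S.P_le hq'⟩).2
        (S.cases_of_involution (x := ⟨q, S.P_le hq'⟩) (S.orderOf_mem_P hq' q1) qt)
      obtain ⟨c, hc'⟩ := S.e.surjective ((1, x) : M)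
      have hcN : (c : G) ∈ N := ((hKeq.symm ▸ c.2 : (c : G) ∈ K)).1
      have hmem := (Subgroup.mem_normalizer_iff.mp hcN q).mp hq'
      have hcomm := S.comm_P q hq' _ hmem
      apply hx
      have h1 : (⟨q, S.P_le hq'⟩ : S.H) * (c * ⟨q, S.P_le hq'⟩ * c⁻¹) =
          c * ⟨q, S.P_le hq'⟩ * c⁻¹ * ⟨q, S.P_le hq'⟩ := Subtype.ext hcomm
      have h2 := congrArg (fun z => (S.e z).2) h1
      simpa [map_mul, hc'] using h2
    obtain ⟨k, hk⟩ := (Nat.Coprime.mul_dvd_of_dvd_of_dvd (by norm_num : Nat.Coprime 8 3) hK8 hK3)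
    rw [hk] at hK120 hlt ⊢
    have hk5 : k ∣ 5 := Nat.dvd_of_mul_dvd_mul_left (by norm_num : 0 < 24) hK120
    rcases (Nat.dvd_prime (by norm_num : Nat.Prime 5)).mp hk5 with rfl | rfl
    · rfl
    · exact absurd rfl hlt
  rw [hK24] at h
  let R : Sylow 7 N := default
  have hN168 : Nat.card N = 168 := by omega
  have hR : Nat.card (R : Subgroup N) = 7 :=
    H30.card_sylow_subgroup R (a := 1) (m := 24) (by rw [hN168]; norm_num) (by norm_num)
  have hn7 : Nat.card (Sylow 7 N) ∈ Nat.divisors 24 :=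
    Nat.mem_divisors.mpr ⟨H30.card_sylow_dvd (a := 1) (m := 24) (by rw [hN168]; norm_num)
      (by norm_num), by norm_num⟩
  have hmod : Nat.card (Sylow 7 N) % 7 = 1 := card_sylow_modEq_one 7 N
  have hNR := H30.card_sylow_mul_normalizer 7 R
  rw [hN168] at hNR
  set NR := Subgroup.normalizer ((R : Subgroup N) : Set N) with hNRdef
  have h3 : 3 ∣ Nat.card NR := by
    have key : ∀ n ∈ Nat.divisors 24, n % 7 = 1 → n = 1 ∨ n = 8 := by decide
    rcases key _ hn7 hmod with e1 | e1 <;> rw [e1] at hNR <;> omega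
  obtain ⟨u, hu⟩ := exists_prime_orderOf_dvd_card' (G := NR) 3 h3
  obtain ⟨g, hg⟩ := exists_prime_orderOf_dvd_card' (G := (R : Subgroup N)) 7 (by rw [hR])
  set g' : G := ((g : N) : G) with hg'
  set u' : G := ((u : N) : G) with hu'
  have hgo : orderOf g' = 7 := by rw [hg', Subgroup.orderOf_coe, Subgroup.orderOf_coe, hg]
  have huo : orderOf u' = 3 := by rw [hu', Subgroup.orderOf_coe, Subgroup.orderOf_coe, hu]
  refine ⟨g', u', hgo, by rw [← huo]; exact pow_orderOf_eq_one u', ?_, fun hcomm => ?_⟩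
  · have h1 := (Subgroup.mem_normalizer_iff.mp u.2 g).mp g.2
    have hgen : Subgroup.zpowers (g : N) = (R : Subgroup N) := by
      refine Subgroup.eq_of_le_of_card_ge (Subgroup.zpowers_le.mpr g.2) ?_
      rw [Nat.card_zpowers, Subgroup.orderOf_coe, hg, hR]
    obtain ⟨k, hk⟩ := Subgroup.mem_zpowers_iff.mp (hgen.ge h1)
    exact Subgroup.mem_zpowers_iff.mpr ⟨k, by
      have := congrArg Subtype.val hk
      simpa [hg', hu'] using this⟩
  · -- `g'` moves `t`, and `u'` commutes with it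
    have hNP : ∀ z : N, (z : G) * S.t * (z : G)⁻¹ ∈ (S.P : Subgroup G) := fun z =>
      (Subgroup.mem_normalizer_iff.mp z.2 S.t).mp S.htP
    have hgt : g' * S.t ≠ S.t * g' := fun hc => by
      have hgH : g' ∈ S.H := Subgroup.mem_centralizer_singleton_iff.mpr hc
      have := Subgroup.orderOf_dvd_natCard S.H hgH
      rw [hgo, S.card_H] at this
      norm_num at this
    -- the seven conjugates exhaust the nontrivial elements of `P`
    set f : ℕ → G := fun i => g' ^ i * S.t * (g' ^ i)⁻¹ with hf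
    have hfix : ∀ i : ℕ, f i = S.t → 7 ∣ i := by
      intro i hi
      by_contra h7
      apply hgt
      have hc : Commute (g' ^ i) S.t := mul_inv_eq_iff_eq_mul.mp hi
      obtain ⟨j, hj⟩ := exists_pow_eq_self_of_coprime (x := g') (n := i)
        (by rw [hgo]; exact ((Nat.Prime.coprime_iff_not_dvd (by norm_num)).mpr h7).symm)
      exact (hj ▸ hc.pow_left j).eq
    have hfmem : ∀ i, f i ∈ ((S.P : Subgroup G) : Set G) \ {1} := fun i =>
      ⟨(by simpa [hf, hg'] using hNP ((g : N) ^ i) : f i ∈ (S.P : Subgroup G)),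
        fun e => S.t_ne (conj_eq_one_iff.mp (Set.mem_singleton_iff.mp e))⟩
    have hinj : ∀ i j, i < 7 → j < 7 → i ≤ j → f i = f j → i = j := by
      intro i j hi hj hij e
      have h7 := hfix (j - i) (by
        show g' ^ (j - i) * S.t * (g' ^ (j - i))⁻¹ = S.t
        have e' : g' ^ i * S.t * (g' ^ i)⁻¹ = g' ^ j * S.t * (g' ^ j)⁻¹ := e
        rw [show g' ^ j = g' ^ i * g' ^ (j - i) by rw [← pow_add]; congr 1; omega] at e'
        have h2 := congrArg (fun z => (g' ^ i)⁻¹ * z * g' ^ i) e'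
        simp only [mul_inv_rev, mul_assoc, inv_mul_cancel_left, inv_mul_cancel, mul_one] at h2
        rw [mul_assoc]; exact h2.symm)
      omega
    have himg : f '' Set.Iio 7 = ((S.P : Subgroup G) : Set G) \ {1} := by
      refine Set.eq_of_subset_of_ncard_le (Set.image_subset_iff.mpr fun i _ => hfmem i) ?_
        (Set.toFinite _)
      rw [Set.ncard_sdiff_singleton_of_mem (one_mem (S.P : Subgroup G)), ← Nat.card_coe_set_eq,
        SetLike.coe_sort_coe, S.card_P, Set.InjOn.ncard_image]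
      · simp [Set.ncard_eq_toFinset_card']
      · intro i hi j hj e
        rcases le_total i j with h1 | h1
        · exact hinj i j hi hj h1 e
        · exact (hinj j i hj hi h1 e.symm).symm
    obtain ⟨i, -, hi⟩ : ∃ i ∈ Set.Iio 7, f i = u' * S.t * u'⁻¹ := by
      have h1 : u' * S.t * u'⁻¹ ∈ ((S.P : Subgroup G) : Set G) \ {1} :=
        ⟨hNP (u : N), fun e => S.t_ne (conj_eq_one_iff.mp (Set.mem_singleton_iff.mp e))⟩
      rw [← himg] at h1
      exact h1
    have hcu : Commute u' g' := hcomm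
    have hshift : ∀ j, u' * f j * u'⁻¹ = f (j + i) := fun j => by
      show u' * (g' ^ j * S.t * (g' ^ j)⁻¹) * u'⁻¹ = _
      calc _ = (u' * g' ^ j) * S.t * (u' * g' ^ j)⁻¹ := by group
        _ = g' ^ j * (u' * S.t * u'⁻¹) * (g' ^ j)⁻¹ := by rw [(hcu.pow_right j).eq]; group
        _ = f (j + i) := by rw [← hi]; simp only [hf, pow_add]; group
    have hu3 : u' * u' * u' = 1 := by
      rw [← pow_orderOf_eq_one u', huo, pow_succ, pow_two]
    have hi7 : f (i + i + i) = S.t := by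
      rw [← hshift, ← hshift, ← zero_add i, ← hshift]
      show u' * (u' * (u' * (g' ^ 0 * S.t * (g' ^ 0)⁻¹) * u'⁻¹) * u'⁻¹) * u'⁻¹ = S.t
      calc _ = (u' * u' * u') * S.t * (u' * u' * u')⁻¹ := by group
        _ = S.t := by rw [hu3]; group
    have h7i : 7 ∣ i := by
      have := hfix _ hi7
      omega
    have hut : u' * S.t * u'⁻¹ = S.t := by
      rw [← hi]
      obtain ⟨k, rfl⟩ := h7i
      show g' ^ (7 * k) * S.t * (g' ^ (7 * k))⁻¹ = S.t
      rw [pow_mul, ← hgo, pow_orderOf_eq_one, one_pow]; group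
    have huH : u' ∈ S.H := Subgroup.mem_centralizer_singleton_iff.mpr (mul_inv_eq_iff_eq_mul.mp hut)
    obtain ⟨q, hq', q1, qt, -⟩ := S.exists_kind True
    obtain ⟨j, -, hj⟩ : q ∈ f '' Set.Iio 7 := himg ▸ ⟨hq', q1⟩
    have huq : u' * q * u'⁻¹ = q := by
      rw [← hj, hshift]
      obtain ⟨k, rfl⟩ := h7i
      simp only [hf, pow_add, pow_mul, ← hgo, pow_orderOf_eq_one, one_pow, mul_one]
    have hc3 : (⟨u', huH⟩ : S.H) ^ 3 = 1 := Subtype.ext (by
      show u' ^ 3 = 1
      rw [← huo, pow_orderOf_eq_one])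
    have hcq : (⟨u', huH⟩ : S.H) * ⟨q, S.P_le hq'⟩ = ⟨q, S.P_le hq'⟩ * ⟨u', huH⟩ :=
      Subtype.ext (mul_inv_eq_iff_eq_mul.mp huq)
    have e1 : S.e ⟨u', huH⟩ ^ 3 = 1 := by rw [← map_pow, hc3, _root_.map_one]
    have h2 : (S.e ⟨u', huH⟩).2 = 1 := three_cube_commute _ _ (congrArg Prod.snd e1)
      (S.cases_of_involution (x := ⟨q, S.P_le hq'⟩) (S.orderOf_mem_P hq' q1) qt) (by
        have := congrArg (fun z => (S.e z).2) hcq
        simp only [map_mul, Prod.snd_mul] at this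
        exact this)
    have h4 : S.e ⟨u', huH⟩ = 1 := Prod.ext (fst_cube _ (congrArg Prod.fst e1)) h2
    have h5 : u' = 1 := congrArg Subtype.val (S.e.injective (h4.trans (_root_.map_one S.e).symm))
    rw [h5, orderOf_one] at huo
    omega

end Cfsg.Agent.H30.TwoTimesA5
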