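import Mathlib

/-!
# The shape of the virtual characters for Janko's first group
-/

set_option autoImplicit false
set_option maxRecDepth 4000
set_option maxHeartbeats 2000000

namespace Cfsg.Agent.H30.TwoTimesA5

variable {ι : Type*} [Fintype ι] [DecidableEq ι]

theorem sum_eq_list {R : Type*} [AddCommMonoid R] (l : List ι) (hl : l.Nodup) (f : ι → R)
    (h : ∀ i, i ∉ l → f i = 0) : ∑ i, f i = (l.map f).sum := by
  rw [← List.sum_toFinset f hl]
  exact (Finset.sum_subset (Finset.subset_univ _) fun i _ hi =>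
    h i fun h' => hi (List.mem_toFinset.mpr h')).symm

theorem sum_le_list (l : List ι) (hl : l.Nodup) (f : ι → ℤ) :
    (l.map fun i => f i * f i).sum ≤ ∑ i, f i * f i := by
  rw [← List.sum_toFinset _ hl]
  exact Finset.sum_le_sum_of_subset_of_nonneg (Finset.subset_univ _)
    fun i _ _ => mul_self_nonneg _

theorem eq_zero_outside {f : ι → ℤ} {N : ℤ} (l : List ι) (hl : l.Nodup)
    (hf : ∑ i, f i * f i = N) (h : N ≤ (l.map fun i => f i * f i).sum) :
    ∀ i, i ∉ l → f i = 0 := by
  intro i hi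
  have h1 := sum_le_list (i :: l) (List.nodup_cons.mpr ⟨hi, hl⟩) f
  rw [List.map_cons, List.sum_cons, hf] at h1
  exact mul_self_eq_zero.mp (le_antisymm (by linarith) (mul_self_nonneg _))

theorem exists_ne_outside {f : ι → ℤ} {N : ℤ} (l : List ι) (hl : l.Nodup)
    (hf : ∑ i, f i * f i = N) (h : (l.map fun i => f i * f i).sum < N) :
    ∃ i, i ∉ l ∧ f i ≠ 0 := by
  by_contra hc
  rw [sum_eq_list l hl (fun i => f i * f i) fun i hi => by
    have : f i = 0 := by by_contra h0; exact hc ⟨i, hi, h0⟩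
    rw [this, mul_zero]] at hf
  omega

theorem sign_of_mul_self {x : ℤ} (h : x * x ≤ 1) (h0 : x ≠ 0) : x = 1 ∨ x = -1 := by
  have : -1 ≤ x ∧ x ≤ 1 := by constructor <;> nlinarith
  omega

/-- The hypotheses on the coefficient vectors. -/
structure Coeffs (o : ι) (π : ι → ι) (a b p c : ι → ℤ) (d : ι → ℤ) : Prop where
  inv : ∀ i, π (π i) = i
  fix : π o = o
  pia : ∀ i, a (π i) = a i - b i
  pib : ∀ i, b (π i) = -b i
  pip : ∀ i, p (π i) = p i
  pic : ∀ i, c (π i) = c i
  pid : ∀ i, d (π i) = d i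
  ao : a o = 1
  bo : b o = 0
  po : p o = 1
  co : c o = 0
  dpos : ∀ i, 0 < d i
  aa : ∑ i, a i * a i = 4
  ap : ∑ i, a i * p i = 2
  bb : ∑ i, b i * b i = 4
  pp : ∑ i, p i * p i = 4
  cc : ∑ i, c i * c i = 2
  ac : ∑ i, a i * c i = 0
  pc : ∑ i, p i * c i = 0
  dc : ∑ i, c i * d i = 0
  rc : ∑ i, (c i : ℚ) * (((6 * a i - 3 * b i - 5 * p i + 4 * c i) ^ 2 : ℤ) : ℚ) / d i = 0

/-- The supports of the vectors `a` and `b`. -/
structure Core (o : ι) (π : ι → ι) (a b : ι → ℤ) where
  A : ι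
  B : ι
  R : ι
  e : ℤ
  f : ℤ
  g : ℤ
  he : e = 1 ∨ e = -1
  hf : f = 1 ∨ f = -1
  hg : g = 1 ∨ g = -1
  nodup : [o, A, π A, B, π B, R].Nodup
  aA : a A = e
  aA' : a (π A) = 0
  bA : b A = e
  bA' : b (π A) = -e
  aB : a B = f
  aB' : a (π B) = 0
  bB : b B = f
  bB' : b (π B) = -f
  aR : a R = g
  bR : b R = 0
  a0 : ∀ i, i ∉ [o, A, π A, B, π B, R] → a i = 0
  b0 : ∀ i, i ∉ [o, A, π A, B, π B, R] → b i = 0

/-- Exchanging the two pairs. -/
def Core.swap {o : ι} {π : ι → ι} {a b : ι → ℤ} (K : Core o π a b) : Core o π a b where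
  A := K.B
  B := K.A
  R := K.R
  e := K.f
  f := K.e
  g := K.g
  he := K.hf
  hf := K.he
  hg := K.hg
  nodup := by
    have := K.nodup
    simp only [List.nodup_cons, List.mem_cons, List.not_mem_nil, or_false, not_or,
      List.nodup_nil, and_true] at this ⊢
    obtain ⟨⟨h1, h2, h3, h4, h5⟩, ⟨h6, h7, h8, h9⟩, ⟨h10, h11, h12⟩, ⟨h13, h14⟩, h15, -⟩ := this
    exact ⟨⟨h3, h4, h1, h2, h5⟩, ⟨h13, Ne.symm h7, Ne.symm h10, h14⟩,
      ⟨Ne.symm h8, Ne.symm h11, h15⟩, ⟨h6, h9⟩, h12, not_false⟩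
  aA := K.aB
  aA' := K.aB'
  bA := K.bB
  bA' := K.bB'
  aB := K.aA
  aB' := K.aA'
  bB := K.bA
  bB' := K.bA'
  aR := K.aR
  bR := K.bR
  a0 := fun i hi => K.a0 i fun h => hi (by
    simp only [List.mem_cons, List.not_mem_nil, or_false] at h ⊢
    tauto)
  b0 := fun i hi => K.b0 i fun h => hi (by
    simp only [List.mem_cons, List.not_mem_nil, or_false] at h ⊢
    tauto)

theorem exists_core {o : ι} {π : ι → ι} {a b p c d : ι → ℤ} (H : Coeffs o π a b p c d) :
    Nonempty (Core o π a b) := by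
  have hne : ∀ i, b i ≠ 0 → π i ≠ i := fun i hi h => by
    have := H.pib i
    rw [h] at this
    omega
  have hno : ∀ i, b i ≠ 0 → i ≠ o ∧ π i ≠ o := fun i hi => by
    refine ⟨fun h => hi (h ▸ H.bo), fun h => hi ?_⟩
    rw [← H.inv i, h, H.fix, H.bo]
  -- a first pair
  obtain ⟨A, -, hA⟩ := exists_ne_outside ([] : List ι) List.nodup_nil H.bb (by simp)
  have hb1 : ∀ i, b i ≠ 0 → b i = 1 ∨ b i = -1 := fun i hi => by
    have h := sum_le_list [i, π i] (by simp [Ne.symm (hne i hi)]) b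
    simp only [List.map_cons, List.map_nil, List.sum_cons, List.sum_nil, H.bb, H.pib] at h
    have : -1 ≤ b i ∧ b i ≤ 1 := by constructor <;> nlinarith
    omega
  obtain ⟨B, hBA, hB⟩ := exists_ne_outside [A, π A] (by simp [Ne.symm (hne A hA)]) H.bb (by
    simp only [List.map_cons, List.map_nil, List.sum_cons, List.sum_nil, H.pib]
    rcases hb1 A hA with h | h <;> rw [h] <;> norm_num)
  simp only [List.mem_cons, List.not_mem_nil, or_false, not_or] at hBA
  obtain ⟨hBA1, hBA2⟩ := hBA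
  have hB1 : π B ≠ A := fun h => hBA2 (by rw [← h, H.inv])
  have hB2 : π B ≠ π A := fun h => hBA1 (by rw [← H.inv B, h, H.inv])
  have hnd : [o, A, π A, B, π B].Nodup := by
    simp only [List.nodup_cons, List.mem_cons, List.not_mem_nil, or_false, not_or,
      List.nodup_nil, and_true]
    exact ⟨⟨(hno A hA).1.symm, (hno A hA).2.symm, (hno B hB).1.symm, (hno B hB).2.symm⟩,
      ⟨(hne A hA).symm, Ne.symm hBA1, hB1.symm⟩, ⟨Ne.symm hBA2, hB2.symm⟩, (hne B hB).symm,
      not_false⟩
  have hb0 : ∀ i, i ∉ [o, A, π A, B, π B] → b i = 0 := by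
    refine eq_zero_outside _ hnd H.bb ?_
    simp only [List.map_cons, List.map_nil, List.sum_cons, List.sum_nil, H.pib, H.bo]
    rcases hb1 A hA with h | h <;> rcases hb1 B hB with h' | h' <;> rw [h, h'] <;> norm_num
  -- the values of `a` on the pairs
  have hle := sum_le_list [o, A, π A, B, π B] hnd a
  simp only [List.map_cons, List.map_nil, List.sum_cons, List.sum_nil, H.pia, H.ao, H.aa] at hle
  have two : ∀ x u : ℤ, (u = 1 ∨ u = -1) → x * x + (x - u) * (x - u) ≤ 2 → x = 0 ∨ x = u := by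
    rintro x u (rfl | rfl) h <;>
    · have : -1 ≤ x ∧ x ≤ 1 := by constructor <;> nlinarith
      have : x = -1 ∨ x = 0 ∨ x = 1 := by omega
      rcases this with rfl | rfl | rfl <;> omega
  have one_le : ∀ x u : ℤ, (u = 1 ∨ u = -1) → 1 ≤ x * x + (x - u) * (x - u) := by
    rintro x u (rfl | rfl) <;> nlinarith [mul_self_nonneg (2 * x - 1), mul_self_nonneg (2 * x + 1)]
  have hxA := two (a A) (b A) (hb1 A hA) (by linarith [one_le (a B) (b B) (hb1 B hB)])
  have hxB := two (a B) (b B) (hb1 B hB) (by linarith [one_le (a A) (b A) (hb1 A hA)])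
  -- orient the pairs
  have pick : ∀ i, b i ≠ 0 → (a i = 0 ∨ a i = b i) → ∃ j e, (e = 1 ∨ e = -1) ∧
      ((j = i ∧ π j = π i) ∨ (j = π i ∧ π j = i)) ∧
      a j = e ∧ a (π j) = 0 ∧ b j = e ∧ b (π j) = -e := by
    intro i hi hx
    rcases hx with h | h
    · refine ⟨π i, -b i, by have := hb1 i hi; omega, Or.inr ⟨rfl, H.inv i⟩, ?_, ?_, H.pib i, ?_⟩
      · rw [H.pia, h]; ring
      · rw [H.inv, h]
      · rw [H.inv, neg_neg]
    · exact ⟨i, b i, hb1 i hi, Or.inl ⟨rfl, rfl⟩, h, by rw [H.pia, h, sub_self], rfl, H.pib i⟩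
  obtain ⟨A₁, e, he, hA₁, q1, q2, q3, q4⟩ := pick A hA hxA
  obtain ⟨B₁, f, hf, hB₁, r1, r2, r3, r4⟩ := pick B hB hxB
  have hperm : ∀ i, i ∈ [o, A₁, π A₁, B₁, π B₁] ↔ i ∈ [o, A, π A, B, π B] := by
    intro i
    simp only [List.mem_cons, List.not_mem_nil, or_false]
    rcases hA₁ with ⟨x, y⟩ | ⟨x, y⟩ <;> rcases hB₁ with ⟨x', y'⟩ | ⟨x', y'⟩ <;>
      rw [y, y', x, x'] <;> tauto
  have hnd₁ : [o, A₁, π A₁, B₁, π B₁].Nodup := by
    simp only [List.nodup_cons, List.mem_cons, List.not_mem_nil, or_false, not_or,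
      List.nodup_nil, and_true] at hnd ⊢
    obtain ⟨⟨h1, h2, h3, h4⟩, ⟨h5, h6, h7⟩, ⟨h8, h9⟩, h10, -⟩ := hnd
    rcases hA₁ with ⟨x, y⟩ | ⟨x, y⟩ <;> rcases hB₁ with ⟨x', y'⟩ | ⟨x', y'⟩ <;>
      rw [y, y', x, x'] <;>
      simp [h1, h2, h3, h4, h5, h6, h7, h8, h9, h10, Ne.symm h5, Ne.symm h10]
  obtain ⟨R, hR, hR0⟩ := exists_ne_outside [o, A₁, π A₁, B₁, π B₁] hnd₁ H.aa (by
    simp only [List.map_cons, List.map_nil, List.sum_cons, List.sum_nil, q1, q2, r1, r2, H.ao]
    rcases he with rfl | rfl <;> rcases hf with rfl | rfl <;> norm_num)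
  have hndR : [o, A₁, π A₁, B₁, π B₁, R].Nodup := by
    simp only [List.nodup_cons, List.mem_cons, List.not_mem_nil, or_false, not_or,
      List.nodup_nil, and_true] at hnd₁ hR ⊢
    obtain ⟨⟨h1, h2, h3, h4⟩, ⟨h5, h6, h7⟩, ⟨h8, h9⟩, h10, -⟩ := hnd₁
    obtain ⟨k1, k2, k3, k4, k5⟩ := hR
    exact ⟨⟨h1, h2, h3, h4, Ne.symm k1⟩, ⟨h5, h6, h7, Ne.symm k2⟩, ⟨h8, h9, Ne.symm k3⟩,
      ⟨h10, Ne.symm k4⟩, Ne.symm k5, not_false⟩
  have hle2 := sum_le_list _ hndR a
  simp only [List.map_cons, List.map_nil, List.sum_cons, List.sum_nil, q1, q2, r1, r2, H.ao,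
    H.aa] at hle2
  have hg : a R = 1 ∨ a R = -1 :=
    sign_of_mul_self (by rcases he with rfl | rfl <;> rcases hf with rfl | rfl <;> linarith) hR0
  refine ⟨⟨A₁, B₁, R, e, f, a R, he, hf, hg, hndR, q1, q2, q3, q4, r1, r2, r3, r4, rfl,
    hb0 R fun h => hR ((hperm R).mpr h), eq_zero_outside _ hndR H.aa ?_, fun i hi => hb0 i fun h => ?_⟩⟩
  · simp only [List.map_cons, List.map_nil, List.sum_cons, List.sum_nil, q1, q2, r1, r2, H.ao]
    rcases he with rfl | rfl <;> rcases hf with rfl | rfl <;> rcases hg with h | h <;>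
      rw [h] <;> norm_num
  · apply hi
    have h' := (hperm i).mpr h
    exact (List.mem_append_left [R] h' :)

/-- The first configuration. -/
structure ShapeOne (o : ι) (π : ι → ι) (a b p c : ι → ℤ) where
  core : Core o π a b
  N : ι
  h : ℤ
  hh : h = 1 ∨ h = -1
  nodup : [o, core.A, π core.A, core.B, π core.B, core.R, N].Nodup
  pA : p core.A = core.e
  pB : p core.B = 0
  pR : p core.R = 0
  pN : p N = h
  p0 : ∀ i, i ∉ [o, core.A, π core.A, core.B, π core.B, core.R, N] → p i = 0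
  cA : c core.A = 0
  cB : c core.B = 0
  cR : c core.R = 0
  cN : c N = 0

/-- The second configuration. -/
structure ShapeTwo (o : ι) (π : ι → ι) (a b p c d : ι → ℤ) where
  core : Core o π a b
  M : ι
  N : ι
  h : ℤ
  k : ℤ
  hh : h = 1 ∨ h = -1
  hk : k = 1 ∨ k = -1
  pA : p core.A = 0
  pB : p core.B = 0
  pR : p core.R = core.g
  pM : p M = h
  pN : p N = k
  C : ι
  D : ι
  s : ℤ
  hs : s = 1 ∨ s = -1
  cC : c C = s
  cD : c D = -s
  cA : c core.A = 0
  cB : c core.B = 0
  cR : c core.R = 0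
  cM : c M = 0
  cN : c N = 0
  hd : d C = d D
  nodup : [o, core.A, π core.A, core.B, π core.B, core.R, M, N, C, D].Nodup
  a0 : ∀ i, i ∉ [o, core.A, π core.A, core.B, π core.B, core.R, M, N, C, D] → a i = 0
  b0 : ∀ i, i ∉ [o, core.A, π core.A, core.B, π core.B, core.R, M, N, C, D] → b i = 0
  p0 : ∀ i, i ∉ [o, core.A, π core.A, core.B, π core.B, core.R, M, N] → p i = 0
  c0 : ∀ i, i ∉ [C, D] → c i = 0

theorem sum_map_core {o : ι} {π : ι → ι} {a b : ι → ℤ} (K : Core o π a b) (u : ι → ℤ) :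
    ∑ i, a i * u i = a o * u o + K.e * u K.A + K.f * u K.B + K.g * u K.R := by
  rw [sum_eq_list _ K.nodup (fun i => a i * u i) fun i hi => by rw [K.a0 i hi, zero_mul]]
  simp only [List.map_cons, List.map_nil, List.sum_cons, List.sum_nil, K.aA, K.aA', K.aB, K.aB',
    K.aR]
  ring

theorem pick_pair {o : ι} {π : ι → ι} {a b p c d : ι → ℤ} (H : Coeffs o π a b p c d) :
    ∃ K : Core o π a b,
      (p K.A = K.e ∧ p K.B = 0 ∧ p K.R = 0) ∨ (p K.A = 0 ∧ p K.B = 0 ∧ p K.R = K.g) := by
  obtain ⟨K⟩ := exists_core H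
  have hd := sum_map_core K p
  rw [H.ap, H.ao, H.po] at hd
  have hle := sum_le_list _ K.nodup p
  simp only [List.map_cons, List.map_nil, List.sum_cons, List.sum_nil, H.pip, H.po, H.pp] at hle
  have bd : ∀ x : ℤ, x * x ≤ 3 → x = -1 ∨ x = 0 ∨ x = 1 := fun x hx => by
    have : -1 ≤ x ∧ x ≤ 1 := by constructor <;> nlinarith
    omega
  have nA := mul_self_nonneg (p K.A)
  have nB := mul_self_nonneg (p K.B)
  have nR := mul_self_nonneg (p K.R)
  rcases K.he with e1 | e1 <;> rcases K.hf with f1 | f1 <;> rcases K.hg with g1 | g1 <;>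
    rcases bd _ (by linarith : p K.A * p K.A ≤ 3) with a1 | a1 | a1 <;>
    rcases bd _ (by linarith : p K.B * p K.B ≤ 3) with b1 | b1 | b1 <;>
    rcases bd _ (by linarith : p K.R * p K.R ≤ 3) with r1 | r1 | r1 <;>
    simp only [e1, f1, g1, a1, b1, r1] at hd hle <;>
    first
      | omega
      | exact ⟨K, Or.inl ⟨by omega, by omega, by omega⟩⟩
      | exact ⟨K, Or.inr ⟨by omega, by omega, by omega⟩⟩
      | exact ⟨K.swap, Or.inl ⟨by show p K.B = K.f; omega, by show p K.A = 0; omega,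
          by show p K.R = 0; omega⟩⟩

theorem c_core {o : ι} {π : ι → ι} {a b p c d : ι → ℤ} (H : Coeffs o π a b p c d)
    (K : Core o π a b) : c K.A = 0 ∧ c K.B = 0 ∧ c K.R = 0 := by
  have hd := sum_map_core K c
  rw [H.ac, H.ao, H.co] at hd
  have hle := sum_le_list _ K.nodup c
  simp only [List.map_cons, List.map_nil, List.sum_cons, List.sum_nil, H.pic, H.co, H.cc] at hle
  have nA := mul_self_nonneg (c K.A)
  have nB := mul_self_nonneg (c K.B)
  have nR := mul_self_nonneg (c K.R)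
  have bd : ∀ x : ℤ, x * x ≤ 2 → x = -1 ∨ x = 0 ∨ x = 1 := fun x hx => by
    have : -1 ≤ x ∧ x ≤ 1 := by constructor <;> nlinarith
    omega
  rcases K.he with e1 | e1 <;> rcases K.hf with f1 | f1 <;> rcases K.hg with g1 | g1 <;>
    rcases bd _ (by linarith : c K.A * c K.A ≤ 2) with a1 | a1 | a1 <;>
    rcases bd _ (by linarith : c K.B * c K.B ≤ 2) with b1 | b1 | b1 <;>
    rcases bd _ (by linarith : c K.R * c K.R ≤ 2) with r1 | r1 | r1 <;>
    simp only [e1, f1, g1, a1, b1, r1] at hd hle <;>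
    omega

theorem shape {o : ι} {π : ι → ι} {a b p c d : ι → ℤ} (H : Coeffs o π a b p c d) :
    Nonempty (ShapeOne o π a b p c) ∨ Nonempty (ShapeTwo o π a b p c d) := by
  obtain ⟨K, hK⟩ := pick_pair H
  obtain ⟨cA, cB, cR⟩ := c_core H K
  have cA' : c (π K.A) = 0 := by rw [H.pic, cA]
  have cB' : c (π K.B) = 0 := by rw [H.pic, cB]
  rcases hK with ⟨pA, pB, pR⟩ | ⟨pA, pB, pR⟩
  · obtain ⟨N, hN, hN0⟩ := exists_ne_outside _ K.nodup H.pp (by
      simp only [List.map_cons, List.map_nil, List.sum_cons, List.sum_nil, H.pip, pA, pB, pR, H.po]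
      rcases K.he with h | h <;> rw [h] <;> norm_num)
    have hnd : [o, K.A, π K.A, K.B, π K.B, K.R, N].Nodup := by
      have h := List.nodup_append'.mpr ⟨K.nodup, List.nodup_singleton N, by simpa using hN⟩
      simpa using h
    have hle := sum_le_list _ hnd p
    simp only [List.map_cons, List.map_nil, List.sum_cons, List.sum_nil, H.pip, pA, pB, pR, H.po,
      H.pp] at hle
    have hh : p N = 1 ∨ p N = -1 := sign_of_mul_self (by
      rcases K.he with h | h <;> rw [h] at hle <;> linarith) hN0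
    have p0 : ∀ i, i ∉ [o, K.A, π K.A, K.B, π K.B, K.R, N] → p i = 0 := by
      refine eq_zero_outside _ hnd H.pp ?_
      simp only [List.map_cons, List.map_nil, List.sum_cons, List.sum_nil, H.pip, pA, pB, pR, H.po]
      rcases K.he with h | h <;> rcases hh with h' | h' <;> rw [h, h'] <;> norm_num
    have hpc := H.pc
    rw [sum_eq_list _ hnd (fun i => p i * c i) fun i hi => by rw [p0 i hi, zero_mul]] at hpc
    simp only [List.map_cons, List.map_nil, List.sum_cons, List.sum_nil, H.pip, pA, pB, pR, cA,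
      cA', cB, cB', cR, H.co] at hpc
    have cN : c N = 0 := (mul_eq_zero.mp (by simpa using hpc)).resolve_left hN0
    exact Or.inl ⟨⟨K, N, p N, hh, hnd, pA, pB, pR, rfl, p0, cA, cB, cR, cN⟩⟩
  · obtain ⟨M, hM, hM0⟩ := exists_ne_outside _ K.nodup H.pp (by
      simp only [List.map_cons, List.map_nil, List.sum_cons, List.sum_nil, H.pip, pA, pB, pR, H.po]
      rcases K.hg with h | h <;> rw [h] <;> norm_num)
    have hndM : [o, K.A, π K.A, K.B, π K.B, K.R, M].Nodup := by
      have h := List.nodup_append'.mpr ⟨K.nodup, List.nodup_singleton M, by simpa using hM⟩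
      simpa using h
    have hle := sum_le_list _ hndM p
    simp only [List.map_cons, List.map_nil, List.sum_cons, List.sum_nil, H.pip, pA, pB, pR, H.po,
      H.pp] at hle
    have hh : p M = 1 ∨ p M = -1 := by
      refine sign_of_mul_self ?_ hM0
      by_contra hc
      have h2 : p M ≥ 2 ∨ p M ≤ -2 ∨ p M = 1 ∨ p M = -1 := by omega
      rcases K.hg with h | h <;> rw [h] at hle <;>
        rcases h2 with h2 | h2 | h2 | h2 <;> nlinarith
    obtain ⟨N, hN, hN0⟩ := exists_ne_outside _ hndM H.pp (by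
      simp only [List.map_cons, List.map_nil, List.sum_cons, List.sum_nil, H.pip, pA, pB, pR, H.po]
      rcases K.hg with h | h <;> rcases hh with h' | h' <;> rw [h, h'] <;> norm_num)
    have hnd : [o, K.A, π K.A, K.B, π K.B, K.R, M, N].Nodup := by
      have h := List.nodup_append'.mpr ⟨hndM, List.nodup_singleton N, by simpa using hN⟩
      simpa using h
    have hle' := sum_le_list _ hnd p
    simp only [List.map_cons, List.map_nil, List.sum_cons, List.sum_nil, H.pip, pA, pB, pR, H.po,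
      H.pp] at hle'
    have hk : p N = 1 ∨ p N = -1 := sign_of_mul_self (by
      rcases K.hg with h | h <;> rcases hh with h' | h' <;> rw [h, h'] at hle' <;> linarith) hN0
    have p0 : ∀ i, i ∉ [o, K.A, π K.A, K.B, π K.B, K.R, M, N] → p i = 0 := by
      refine eq_zero_outside _ hnd H.pp ?_
      simp only [List.map_cons, List.map_nil, List.sum_cons, List.sum_nil, H.pip, pA, pB, pR, H.po]
      rcases K.hg with h | h <;> rcases hh with h' | h' <;> rcases hk with h'' | h'' <;>
        rw [h, h', h''] <;> norm_num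
    have hpc := H.pc
    rw [sum_eq_list _ hnd (fun i => p i * c i) fun i hi => by rw [p0 i hi, zero_mul]] at hpc
    simp only [List.map_cons, List.map_nil, List.sum_cons, List.sum_nil, H.pip, pA, pB, pR, cA,
      cA', cB, cB', cR, H.co, mul_zero, zero_add, add_zero] at hpc
    have haM : a M = 0 := K.a0 M (by simpa using hM)
    have hbM : b M = 0 := K.b0 M (by simpa using hM)
    have hN' : N ∉ [o, K.A, π K.A, K.B, π K.B, K.R] := fun h => hN (by
      simp only [List.mem_cons, List.not_mem_nil, or_false] at h ⊢; tauto)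
    have cM : c M = 0 := by
      by_contra h0
      have cN : c N ≠ 0 := fun h => by
        rw [h, mul_zero, add_zero] at hpc
        exact (mul_ne_zero hM0 h0) hpc
      have hMN : M ≠ N := fun h => hN (by simp [h])
      have hcd := sum_le_list [M, N] (by simp [hMN]) c
      simp only [List.map_cons, List.map_nil, List.sum_cons, List.sum_nil, H.cc] at hcd
      have hpos : ∀ x : ℤ, x ≠ 0 → 1 ≤ x * x := fun x hx => mul_self_pos.mpr hx
      have h1 := sign_of_mul_self (by linarith [hpos _ cN]) h0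
      have h2 := sign_of_mul_self (by linarith [hpos _ h0]) cN
      have c0 : ∀ i, i ∉ [M, N] → c i = 0 := eq_zero_outside _ (by simp [hMN]) H.cc (by
        simp only [List.map_cons, List.map_nil, List.sum_cons, List.sum_nil]
        linarith [hpos _ h0, hpos _ cN])
      have hdc := H.dc
      rw [sum_eq_list [M, N] (by simp [hMN]) (fun i => c i * d i)
        fun i hi => by rw [c0 i hi, zero_mul]] at hdc
      have hrc := H.rc
      rw [sum_eq_list [M, N] (by simp [hMN])
        (fun i => (c i : ℚ) * (((6 * a i - 3 * b i - 5 * p i + 4 * c i) ^ 2 : ℤ) : ℚ) / d i)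
        fun i hi => by rw [c0 i hi]; simp] at hrc
      simp only [List.map_cons, List.map_nil, List.sum_cons, List.sum_nil, add_zero, haM, hbM,
        K.a0 N hN', K.b0 N hN'] at hdc hrc
      have hcc : c N = -c M := by
        rcases h1 with e1 | e1 <;> rcases h2 with e2 | e2 <;> rw [e1, e2] at hdc ⊢ <;>
          have := H.dpos M <;> have := H.dpos N <;> omega
      have hdd : d N = d M := by
        rw [hcc] at hdc
        rcases h1 with e1 | e1 <;> rw [e1] at hdc <;> omega
      rw [hcc] at hpc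
      have hpp : p N = p M := by
        rcases h1 with e1 | e1 <;> rw [e1] at hpc <;> linarith
      rw [hcc, hdd, hpp] at hrc
      have hd0 : (d M : ℚ) ≠ 0 := by exact_mod_cast (H.dpos M).ne'
      rcases h1 with e1 | e1 <;> rcases hh with e2 | e2 <;> rw [e1, e2] at hrc <;>
        (field_simp at hrc; norm_num at hrc)
    have cN : c N = 0 := by
      rw [cM, mul_zero, zero_add] at hpc
      exact (mul_eq_zero.mp hpc).resolve_left hN0
    -- the support of `c`
    obtain ⟨C, -, hC0⟩ := exists_ne_outside ([] : List ι) List.nodup_nil H.cc (by simp)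
    have hC1 : c C = 1 ∨ c C = -1 := by
      refine sign_of_mul_self ?_ hC0
      by_contra hc
      have h := sum_le_list [C] (List.nodup_singleton C) c
      simp only [List.map_cons, List.map_nil, List.sum_cons, List.sum_nil, H.cc, add_zero] at h
      have h2 : c C ≥ 2 ∨ c C ≤ -2 ∨ c C = 1 ∨ c C = -1 := by omega
      rcases h2 with h2 | h2 | h2 | h2 <;> nlinarith
    obtain ⟨D, hD, hD0⟩ := exists_ne_outside [C] (List.nodup_singleton C) H.cc (by
      simp only [List.map_cons, List.map_nil, List.sum_cons, List.sum_nil]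
      rcases hC1 with h | h <;> rw [h] <;> norm_num)
    simp only [List.mem_cons, List.not_mem_nil, or_false] at hD
    have hCD : [C, D].Nodup := by simp [Ne.symm hD]
    have hle2 := sum_le_list _ hCD c
    simp only [List.map_cons, List.map_nil, List.sum_cons, List.sum_nil, H.cc] at hle2
    have hD1 : c D = 1 ∨ c D = -1 := sign_of_mul_self (by
      rcases hC1 with h | h <;> rw [h] at hle2 <;> linarith) hD0
    have c0 : ∀ i, i ∉ [C, D] → c i = 0 := eq_zero_outside _ hCD H.cc (by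
      simp only [List.map_cons, List.map_nil, List.sum_cons, List.sum_nil]
      rcases hC1 with h | h <;> rcases hD1 with h' | h' <;> rw [h, h'] <;> norm_num)
    have hdc := H.dc
    rw [sum_eq_list [C, D] hCD (fun i => c i * d i) fun i hi => by rw [c0 i hi, zero_mul]] at hdc
    simp only [List.map_cons, List.map_nil, List.sum_cons, List.sum_nil, add_zero] at hdc
    have hDC : c D = -c C := by
      rcases hC1 with e1 | e1 <;> rcases hD1 with e2 | e2 <;> rw [e1, e2] at hdc ⊢ <;>
        have := H.dpos C <;> have := H.dpos D <;> omega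
    have hd : d C = d D := by
      rw [hDC] at hdc
      rcases hC1 with e1 | e1 <;> rw [e1] at hdc <;> omega
    have hz : ∀ i, c i ≠ 0 → i ∉ [o, K.A, π K.A, K.B, π K.B, K.R, M, N] := by
      intro i hi h
      simp only [List.mem_cons, List.not_mem_nil, or_false] at h
      rcases h with rfl | rfl | rfl | rfl | rfl | rfl | rfl | rfl
      exacts [hi H.co, hi cA, hi cA', hi cB, hi cB', hi cR, hi cM, hi cN]
    have hnd2 : [o, K.A, π K.A, K.B, π K.B, K.R, M, N, C, D].Nodup := by
      have h := List.nodup_append'.mpr ⟨hnd, hCD, fun i hi hi' => by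
        simp only [List.mem_cons, List.not_mem_nil, or_false] at hi'
        rcases hi' with rfl | rfl
        exacts [hz _ hC0 hi, hz _ hD0 hi]⟩
      simpa using h
    refine Or.inr ⟨⟨K, M, N, p M, p N, hh, hk, pA, pB, pR, rfl, rfl, C, D, c C, hC1, rfl, hDC,
      cA, cB, cR, cM, cN, hd, hnd2, fun i hi => K.a0 i fun h => hi ?_,
      fun i hi => K.b0 i fun h => hi ?_, p0, c0⟩⟩ <;>
    exact (List.mem_append_left [M, N, C, D] h :)

end Cfsg.Agent.H30.TwoTimesA5
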