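import Cfsg.Agent.H30.TwoTimesA5Chars
import Cfsg.Agent.H30.TwoTimesA5Arith
import Cfsg.Agent.H30.TwoTimesA5Shape
import Cfsg.Agent.H30.TwoTimesA5Local
import Cfsg.Agent.H45.Galois
import Cfsg.Agent.H26.CharLinear

/-!
# The two possible orders of a simple group with involution centralizer `C2 × A5`
-/

set_option autoImplicit false
set_option synthInstance.maxSize 4096
set_option maxHeartbeats 2000000
set_option maxRecDepth 4000

namespace Cfsg.Agent.H30.TwoTimesA5

open scoped ComplexConjugate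

section Abstract

variable {ι : Type*} [Fintype ι] [DecidableEq ι]

/-- A permutation with the relations may be replaced by an involution. -/
theorem exists_involution {o : ι} {π : ι → ι} {a b p c d : ι → ℤ} (hπ : Function.Injective π)
    (pia : ∀ i, a (π i) = a i - b i) (pib : ∀ i, b (π i) = -b i) (pip : ∀ i, p (π i) = p i)
    (pic : ∀ i, c (π i) = c i) (pid : ∀ i, d (π i) = d i) (bo : b o = 0)
    (bb : ∑ i, b i * b i = 4) :
    ∃ σ : ι → ι, (∀ i, σ (σ i) = i) ∧ σ o = o ∧ (∀ i, a (σ i) = a i - b i) ∧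
      (∀ i, b (σ i) = -b i) ∧ (∀ i, p (σ i) = p i) ∧ (∀ i, c (σ i) = c i) ∧
      (∀ i, d (σ i) = d i) := by
  have hne : ∀ i, b i ≠ 0 → π i ≠ i := fun i hi h => by
    have := pib i
    rw [h] at this
    omega
  obtain ⟨A, -, hA⟩ := exists_ne_outside ([] : List ι) List.nodup_nil bb (by simp)
  have hA' : b (π A) ≠ 0 := by rw [pib]; omega
  have hlt : ([A, π A].map fun i => b i * b i).sum < 4 := by
    have hb1 : b A = 1 ∨ b A = -1 := by
      have h := sum_le_list [A, π A] (by simp [Ne.symm (hne A hA)]) b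
      simp only [List.map_cons, List.map_nil, List.sum_cons, List.sum_nil, bb, pib] at h
      have : -1 ≤ b A ∧ b A ≤ 1 := by constructor <;> nlinarith
      omega
    simp only [List.map_cons, List.map_nil, List.sum_cons, List.sum_nil, pib]
    rcases hb1 with h | h <;> rw [h] <;> norm_num
  obtain ⟨B, hB, hB1, hB2, hB3⟩ : ∃ B, b B ≠ 0 ∧ B ≠ A ∧ B ≠ π A ∧ π B ≠ A := by
    by_cases h : π (π A) = A
    · obtain ⟨B, hB, hB0⟩ := exists_ne_outside [A, π A] (by simp [Ne.symm (hne A hA)]) bb hlt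
      simp only [List.mem_cons, List.not_mem_nil, or_false, not_or] at hB
      exact ⟨B, hB0, hB.1, hB.2, fun e => hB.2 (hπ (e.trans h.symm))⟩
    · refine ⟨π (π A), by rw [pib, pib]; omega, h, hne _ hA', fun e => ?_⟩
      have := congrArg b e
      rw [pib, pib, pib] at this
      omega
  have hB4 : π B ≠ π A := fun e => hB1 (hπ e)
  have hB5 : π B ≠ B := hne B hB
  have hA5 : π A ≠ A := hne A hA
  have hzero : ∀ i, i ≠ A → i ≠ π A → i ≠ B → i ≠ π B → b i = 0 := by
    intro i h1 h2 h3 h4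
    by_contra h0
    have h := sum_le_list [i, A, π A, B, π B] (by
      simp [h1, h2, h3, h4, Ne.symm hA5, Ne.symm hB1, Ne.symm hB2, Ne.symm hB3, Ne.symm hB4,
        Ne.symm hB5]) b
    simp only [List.map_cons, List.map_nil, List.sum_cons, List.sum_nil, bb, pib] at h
    have hpos : ∀ j, b j ≠ 0 → 1 ≤ b j * b j := fun j hj => mul_self_pos.mpr hj
    have := hpos i h0
    have := hpos A hA
    have := hpos B hB
    linarith [mul_neg (-b A) (b A), neg_mul_neg (b A) (b A), neg_mul_neg (b B) (b B)]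
  obtain ⟨σ, hσ⟩ : ∃ σ : ι → ι, ∀ i, (i = A ∧ σ i = π A) ∨ (i = π A ∧ σ i = A) ∨
      (i = B ∧ σ i = π B) ∨ (i = π B ∧ σ i = B) ∨
      (i ≠ A ∧ i ≠ π A ∧ i ≠ B ∧ i ≠ π B ∧ σ i = i) := by
    refine ⟨fun i => if i = A then π A else if i = π A then A else if i = B then π B
      else if i = π B then B else i, fun i => ?_⟩
    by_cases h1 : i = A
    · simp [h1]
    by_cases h2 : i = π A
    · simp [h2, hA5]
    by_cases h3 : i = B
    · simp [h3, hB1, hB2]
    by_cases h4 : i = π B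
    · simp [h4, hB3, hB4, hB5]
    · simp [h1, h2, h3, h4]
  have hA6 := Ne.symm hA5
  have hB6 := Ne.symm hB5
  refine ⟨σ, fun i => ?_, ?_, fun i => ?_, fun i => ?_, fun i => ?_, fun i => ?_, fun i => ?_⟩
  · rcases hσ i with ⟨e, e'⟩ | ⟨e, e'⟩ | ⟨e, e'⟩ | ⟨e, e'⟩ | ⟨n1, n2, n3, n4, e'⟩ <;>
      rw [e'] <;> try rw [e]
    · rcases hσ (π A) with ⟨u, u'⟩ | ⟨u, u'⟩ | ⟨u, u'⟩ | ⟨u, u'⟩ | ⟨m1, m2, m3, m4, u'⟩
      exacts [absurd u hA5, u', absurd u (Ne.symm hB2), absurd u (Ne.symm hB4), absurd rfl m2]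
    · rcases hσ A with ⟨u, u'⟩ | ⟨u, u'⟩ | ⟨u, u'⟩ | ⟨u, u'⟩ | ⟨m1, m2, m3, m4, u'⟩
      exacts [u', absurd u hA6, absurd u (Ne.symm hB1), absurd u (Ne.symm hB3), absurd rfl m1]
    · rcases hσ (π B) with ⟨u, u'⟩ | ⟨u, u'⟩ | ⟨u, u'⟩ | ⟨u, u'⟩ | ⟨m1, m2, m3, m4, u'⟩
      exacts [absurd u hB3, absurd u hB4, absurd u hB5, u', absurd rfl m4]
    · rcases hσ B with ⟨u, u'⟩ | ⟨u, u'⟩ | ⟨u, u'⟩ | ⟨u, u'⟩ | ⟨m1, m2, m3, m4, u'⟩
      exacts [absurd u hB1, absurd u hB2, u', absurd u hB6, absurd rfl m3]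
    · exact e'
  · rcases hσ o with ⟨e, e'⟩ | ⟨e, e'⟩ | ⟨e, e'⟩ | ⟨e, e'⟩ | ⟨n1, n2, n3, n4, e'⟩
    · exact absurd (e ▸ bo) hA
    · exact absurd (e ▸ bo) hA'
    · exact absurd (e ▸ bo) hB
    · exact absurd (e ▸ bo : b (π B) = 0) (by rw [pib]; omega)
    · exact e'
  all_goals
    rcases hσ i with ⟨e, e'⟩ | ⟨e, e'⟩ | ⟨e, e'⟩ | ⟨e, e'⟩ | ⟨n1, n2, n3, n4, e'⟩ <;> rw [e']
  all_goals
    first
      | (rw [e]; simp [pia, pib, pip, pic, pid]; done)
      | (rw [hzero i n1 n2 n3 n4]; ring)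
      | rfl

end Abstract

/-- What remains of the second candidate. -/
structure Spurious {ι : Type*} (o : ι) (v d : ι → ℤ) where
  R : ι
  C : ι
  D : ι
  nodup : [o, R, C, D].Nodup
  vR : v R * v R = 1
  vC : v C * v C = 16
  vD : v D * v D = 16
  dR : d R = 15
  dCD : d C = d D
  other : ∀ i, v i ≠ 0 → i = o ∨ i = R ∨ i = C ∨ i = D ∨ 7 ∣ d i

section Assemble

variable {ι : Type*} [Fintype ι] [DecidableEq ι]

theorem sign_div {e : ℤ} (he : e = 1 ∨ e = -1) (x : ℤ) (w : ℚ) :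
    (e : ℚ) * w / (x : ℚ) = w / ((e * x : ℤ) : ℚ) := by
  rcases he with rfl | rfl
  · norm_num
  · push_cast; ring

theorem assemble {o : ι} {π : ι → ι} {a b p c d : ι → ℤ} (G : ℤ) (H : Coeffs o π a b p c d)
    (v : ι → ℤ) (hv : ∀ i, v i = 6 * a i - 3 * b i - 5 * p i + 4 * c i)
    (hdo : d o = 1) (hda : ∑ i, a i * d i = 0) (hdp : ∑ i, p i * d i = 0)
    (hmod : ∀ i, (d i - v i) % 8 = 0) (hone : ∀ i, i ≠ o → d i ≠ 1)
    (hsq : ∀ i j, i ≠ j → d i * d i + d j * d j ≤ G)
    (hG : ∃ k : ℤ, G = 840 * k ∧ k % 2 = 1 ∧ 0 < k)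
    (ea : (G : ℚ) * ∑ i, (a i : ℚ) * ((v i ^ 2 : ℤ) : ℚ) / d i = 144000)
    (ep : (G : ℚ) * ∑ i, (p i : ℚ) * ((v i ^ 2 : ℤ) : ℚ) / d i = 86400) :
    G = 175560 ∨ (G = 189000 ∧ Nonempty (Spurious o v d)) := by
  rcases shape H with ⟨⟨K, N, h, hh, hnd, pA, pB, pR, pN, p0, cA, cB, cR, cN⟩⟩ | ⟨T⟩
  · exfalso
    have hN : N ∉ [o, K.A, π K.A, K.B, π K.B, K.R] := by
      have h' := List.nodup_append'.mp (show ([o, K.A, π K.A, K.B, π K.B, K.R] ++ [N]).Nodup by
        simpa using hnd)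
      exact fun hm => h'.2.2 hm (List.mem_singleton_self N)
    have vo : v o = 1 := by rw [hv, H.ao, H.bo, H.po, H.co]; norm_num
    have vA : v K.A = -2 * K.e := by rw [hv, K.aA, K.bA, pA, cA]; ring
    have vA' : v (π K.A) = -2 * K.e := by rw [hv, K.aA', K.bA', H.pip, pA, H.pic, cA]; ring
    have vB : v K.B = 3 * K.f := by rw [hv, K.aB, K.bB, pB, cB]; ring
    have vR : v K.R = 6 * K.g := by rw [hv, K.aR, K.bR, pR, cR]; ring
    have vN : v N = -5 * h := by rw [hv, K.a0 N hN, K.b0 N hN, pN, cN]; ring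
    have sA := hmod K.A
    have sN := hmod N
    rw [vA] at sA
    rw [vN] at sN
    rw [sum_map_core K d, H.ao, hdo] at hda
    rw [sum_eq_list _ hnd (fun i => p i * d i) fun i hi => by rw [p0 i hi, zero_mul]] at hdp
    simp only [List.map_cons, List.map_nil, List.sum_cons, List.sum_nil, H.pip, H.pid, H.po, pA, pB,
      pR, pN, hdo] at hdp
    rw [sum_eq_list _ K.nodup (fun i => (a i : ℚ) * ((v i ^ 2 : ℤ) : ℚ) / d i)
      fun i hi => by rw [K.a0 i hi]; simp] at ea
    rw [sum_eq_list _ hnd (fun i => (p i : ℚ) * ((v i ^ 2 : ℤ) : ℚ) / d i)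
      fun i hi => by rw [p0 i hi]; simp] at ep
    simp only [List.map_cons, List.map_nil, List.sum_cons, List.sum_nil, H.pip, H.pid, H.ao, H.po,
      K.aA, K.aA', K.aB, K.aB', K.aR, pA, pB, pR, pN, hdo, vo, vA, vA', vB, vR, vN,
      sign_div K.he, sign_div K.hf, sign_div K.hg, sign_div hh] at ea ep
    have he2 : K.e ^ 2 = 1 := by rcases K.he with e1 | e1 <;> rw [e1] <;> norm_num
    have hf2 : K.f ^ 2 = 1 := by rcases K.hf with e1 | e1 <;> rw [e1] <;> norm_num
    have hg2 : K.g ^ 2 = 1 := by rcases K.hg with e1 | e1 <;> rw [e1] <;> norm_num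
    have hh2 : h ^ 2 = 1 := by rcases hh with e1 | e1 <;> rw [e1] <;> norm_num
    simp only [mul_pow, he2, hf2, hg2, hh2] at ea ep
    refine noFirst G (K.e * d K.A) (K.f * d K.B) (K.g * d K.R) (h * d N) hG ?_ ?_ ?_
      (by linarith) (by linarith) ?_ ?_
    · rcases K.he with e1 | e1 <;> rw [e1] at sA ⊢ <;> omega
    · exact mul_ne_zero (by rcases K.hf with e1 | e1 <;> omega) (H.dpos _).ne'
    · exact mul_ne_zero (by rcases K.hg with e1 | e1 <;> omega) (H.dpos _).ne'
    · rw [← ea]; push_cast; ring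
    · rw [← ep]; push_cast; ring
  · obtain ⟨K, M, N, h, k, hh, hk, pA, pB, pR, pM, pN, C, D, s, hs, cC, cD, cA, cB, cR, cM, cN, hd,
      hnd, a0, b0, p0, c0⟩ := T
    have hnd' := hnd
    simp only [List.nodup_cons, List.mem_cons, List.not_mem_nil, or_false, not_or, List.nodup_nil,
      and_true] at hnd'
    obtain ⟨⟨oA, oA', oB, oB', oR, oM, oN, oC, oD⟩, ⟨AA', AB, AB', AR, AM, AN, AC, AD⟩,
      ⟨A'B, A'B', A'R, A'M, A'N, A'C, A'D⟩, ⟨BB', BR, BM, BN, BC, BD⟩,
      ⟨B'R, B'M, B'N, B'C, B'D⟩, ⟨RM, RN, RC, RD⟩, ⟨MN, MC, MD⟩, ⟨NC, ND⟩, CD, -⟩ := hnd'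
    have out : ∀ i, i ≠ o → i ≠ K.A → i ≠ π K.A → i ≠ K.B → i ≠ π K.B → i ≠ K.R →
        a i = 0 ∧ b i = 0 := fun i h1 h2 h3 h4 h5 h6 =>
      ⟨K.a0 i (by simp [h1, h2, h3, h4, h5, h6]), K.b0 i (by simp [h1, h2, h3, h4, h5, h6])⟩
    obtain ⟨aM, bM⟩ := out M (Ne.symm oM) (Ne.symm AM) (Ne.symm A'M) (Ne.symm BM) (Ne.symm B'M)
      (Ne.symm RM)
    obtain ⟨aN, bN⟩ := out N (Ne.symm oN) (Ne.symm AN) (Ne.symm A'N) (Ne.symm BN) (Ne.symm B'N)
      (Ne.symm RN)
    obtain ⟨aC, bC⟩ := out C (Ne.symm oC) (Ne.symm AC) (Ne.symm A'C) (Ne.symm BC) (Ne.symm B'C)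
      (Ne.symm RC)
    obtain ⟨aD, bD⟩ := out D (Ne.symm oD) (Ne.symm AD) (Ne.symm A'D) (Ne.symm BD) (Ne.symm B'D)
      (Ne.symm RD)
    have pC : p C = 0 := p0 C (by simp [Ne.symm oC, Ne.symm AC, Ne.symm A'C, Ne.symm BC,
      Ne.symm B'C, Ne.symm RC, Ne.symm MC, Ne.symm NC])
    have pD : p D = 0 := p0 D (by simp [Ne.symm oD, Ne.symm AD, Ne.symm A'D, Ne.symm BD,
      Ne.symm B'D, Ne.symm RD, Ne.symm MD, Ne.symm ND])
    have vo : v o = 1 := by rw [hv, H.ao, H.bo, H.po, H.co]; norm_num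
    have vA : v K.A = 3 * K.e := by rw [hv, K.aA, K.bA, pA, cA]; ring
    have vA' : v (π K.A) = 3 * K.e := by rw [hv, K.aA', K.bA', H.pip, pA, H.pic, cA]; ring
    have vB : v K.B = 3 * K.f := by rw [hv, K.aB, K.bB, pB, cB]; ring
    have vB' : v (π K.B) = 3 * K.f := by rw [hv, K.aB', K.bB', H.pip, pB, H.pic, cB]; ring
    have vR : v K.R = K.g := by rw [hv, K.aR, K.bR, pR, cR]; ring
    have vM : v M = -5 * h := by rw [hv, aM, bM, pM, cM]; ring
    have vN : v N = -5 * k := by rw [hv, aN, bN, pN, cN]; ring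
    have vC : v C = 4 * s := by rw [hv, aC, bC, pC, cC]; ring
    have vD : v D = -4 * s := by rw [hv, aD, bD, pD, cD]; ring
    have sA := hmod K.A
    have sB := hmod K.B
    have sR := hmod K.R
    rw [vA] at sA
    rw [vB] at sB
    rw [vR] at sR
    have hndp : [o, K.A, π K.A, K.B, π K.B, K.R, M, N].Nodup := by
      simp [oA, oA', oB, oB', oR, oM, oN, AA', AB, AB', AR, AM, AN, A'B, A'B', A'R, A'M, A'N,
        BB', BR, BM, BN, B'R, B'M, B'N, RM, RN, MN]
    rw [sum_map_core K d, H.ao, hdo] at hda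
    rw [sum_eq_list _ hndp (fun i => p i * d i) fun i hi => by rw [p0 i hi, zero_mul]] at hdp
    simp only [List.map_cons, List.map_nil, List.sum_cons, List.sum_nil, H.pip, H.pid, H.po, pA, pB,
      pR, pM, pN, hdo] at hdp
    rw [sum_eq_list _ K.nodup (fun i => (a i : ℚ) * ((v i ^ 2 : ℤ) : ℚ) / d i)
      fun i hi => by rw [K.a0 i hi]; simp] at ea
    rw [sum_eq_list _ hndp (fun i => (p i : ℚ) * ((v i ^ 2 : ℤ) : ℚ) / d i)
      fun i hi => by rw [p0 i hi]; simp] at ep
    simp only [List.map_cons, List.map_nil, List.sum_cons, List.sum_nil, H.pip, H.pid, H.ao, H.po,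
      K.aA, K.aA', K.aB, K.aB', K.aR, pA, pB, pR, pM, pN, hdo, vo, vA, vB, vR, vM, vN,
      sign_div K.he, sign_div K.hf, sign_div K.hg, sign_div hh, sign_div hk] at ea ep
    have he2 : K.e ^ 2 = 1 := by rcases K.he with e1 | e1 <;> rw [e1] <;> norm_num
    have hf2 : K.f ^ 2 = 1 := by rcases K.hf with e1 | e1 <;> rw [e1] <;> norm_num
    have hg2 : K.g ^ 2 = 1 := by rcases K.hg with e1 | e1 <;> rw [e1] <;> norm_num
    have hh2 : h ^ 2 = 1 := by rcases hh with e1 | e1 <;> rw [e1] <;> norm_num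
    have hk2 : k ^ 2 = 1 := by rcases hk with e1 | e1 <;> rw [e1] <;> norm_num
    simp only [mul_pow, he2, hf2, hg2, hh2, hk2] at ea ep
    have sqd : ∀ {e : ℤ}, (e = 1 ∨ e = -1) → ∀ x : ℤ, e * x * (e * x) = x * x := by
      rintro e (rfl | rfl) x <;> ring
    rcases second G (K.e * d K.A) (K.f * d K.B) (K.g * d K.R) (h * d M) (k * d N) hG
      (by rcases K.he with e1 | e1 <;> rw [e1] at sA ⊢ <;> omega)
      (by rcases K.hf with e1 | e1 <;> rw [e1] at sB ⊢ <;> omega)
      (by rcases K.hg with e1 | e1 <;> rw [e1] at sR ⊢ <;> omega)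
      (by
        have := hone K.R (Ne.symm oR)
        have := H.dpos K.R
        rcases K.hg with e1 | e1 <;> rw [e1] <;> omega)
      (mul_ne_zero (by rcases hh with e1 | e1 <;> omega) (H.dpos _).ne')
      (mul_ne_zero (by rcases hk with e1 | e1 <;> omega) (H.dpos _).ne')
      (by
        have := hsq K.A (π K.A) AA'
        rw [H.pid] at this
        rw [sqd K.he]; linarith)
      (by
        have := hsq K.B (π K.B) BB'
        rw [H.pid] at this
        rw [sqd K.hf]; linarith)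
      (by linarith) (by linarith) (by rw [← ea]; push_cast; ring) (by rw [← ep]; push_cast; ring)
      with hres | ⟨hG2, hr, hp, hq, hm, hn⟩
    · exact Or.inl hres
    · refine Or.inr ⟨hG2, ⟨⟨K.R, C, D, by simp [oR, oC, oD, RC, RD, CD], ?_, ?_, ?_, ?_, hd, ?_⟩⟩⟩
      · rw [vR]; rcases K.hg with e1 | e1 <;> rw [e1] <;> norm_num
      · rw [vC]; rcases hs with e1 | e1 <;> rw [e1] <;> norm_num
      · rw [vD]; rcases hs with e1 | e1 <;> rw [e1] <;> norm_num
      · have := H.dpos K.R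
        rcases K.hg with e1 | e1 <;> rw [e1] at hr <;> omega
      · intro i hi
        have h7 : ∀ {e x : ℤ}, (e = 1 ∨ e = -1) → (e * x = 35 ∨ e * x = -21) → 7 ∣ x := by
          rintro e x (rfl | rfl) h' <;> omega
        by_cases hl : i ∈ [o, K.A, π K.A, K.B, π K.B, K.R, M, N, C, D]
        · simp only [List.mem_cons, List.not_mem_nil, or_false] at hl
          rcases hl with rfl | rfl | rfl | rfl | rfl | rfl | rfl | rfl | rfl | rfl
          · exact Or.inl rfl
          · exact Or.inr (Or.inr (Or.inr (Or.inr (h7 K.he hp))))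
          · exact Or.inr (Or.inr (Or.inr (Or.inr ((H.pid K.A).symm ▸ h7 K.he hp))))
          · exact Or.inr (Or.inr (Or.inr (Or.inr (h7 K.hf hq))))
          · exact Or.inr (Or.inr (Or.inr (Or.inr ((H.pid K.B).symm ▸ h7 K.hf hq))))
          · exact Or.inr (Or.inl rfl)
          · exact Or.inr (Or.inr (Or.inr (Or.inr (h7 hh hm))))
          · exact Or.inr (Or.inr (Or.inr (Or.inr (h7 hk hn))))
          · exact Or.inr (Or.inr (Or.inl rfl))
          · exact Or.inr (Or.inr (Or.inr (Or.inl rfl)))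
        · refine absurd ?_ hi
          rw [hv, a0 i hl, b0 i hl, p0 i fun hm' => hl (List.mem_append_left [C, D] hm' :),
            c0 i fun hm' => hl (List.mem_append_right [o, K.A, π K.A, K.B, π K.B, K.R, M, N] hm' :)]
          norm_num

end Assemble

section Group

variable {G : Type*} [Group G] [Fintype G] (S : Setting G)

/-- Transport to the centralizer. -/
noncomputable def Setting.onH (T : Fin 5 → ℂ) : S.H → ℂ := fun h => ofTable T (S.e h)

/-- The support set. -/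
def Setting.special : Set G := {g | g ^ 15 = S.t}

theorem Setting.special_ti : ∀ g : G, ∀ x ∈ S.special, g * x * g⁻¹ ∈ S.special →
    g ∈ S.H := by
  intro g x hx hgx
  have h : g * S.t * g⁻¹ = S.t := by
    rw [Setting.special, Set.mem_setOf_eq, conj_pow] at hgx
    rw [show x ^ 15 = S.t from hx] at hgx
    exact hgx
  exact Subgroup.mem_centralizer_singleton_iff.mpr (mul_inv_eq_iff_eq_mul.mp h)

theorem Setting.mem_special_iff (y : S.H) :
    (y : G) ∈ S.special ↔ ((S.e y).1 ≠ 1 ∧ cls (S.e y).2 ≠ 1) := by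
  rw [← special_iff, ← map_pow, ← S.map_t, S.e.injective.eq_iff]
  show (y : G) ^ 15 = S.t ↔ _
  rw [Subtype.ext_iff, SubmonoidClass.coe_pow]
  rfl

theorem Setting.onH_supported {T : Fin 5 → ℂ} (hT : Vanishes T) (y : S.H)
    (hy : (y : G) ∉ S.special) : S.onH T y = 0 := by
  rw [S.mem_special_iff] at hy
  unfold Setting.onH ofTable
  split_ifs with h
  · rfl
  · rw [show cls (S.e y).2 = 1 by tauto]
    exact hT

omit [Fintype G] in
theorem gen_indFun' [Fintype G] {K : Subgroup G} {θ : K → ℂ}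
    (h : Cfsg.IsGeneralizedCharacter K θ) : Cfsg.IsGeneralizedCharacter G (Cfsg.indFun K θ) := by
  obtain ⟨a, b, ha, hb, rfl⟩ := h
  exact ⟨_, _, H25.isCharacter_indFun K ha, H25.isCharacter_indFun K hb, H25.indFun_sub K a b⟩

theorem Setting.gen_onH {T : Fin 5 → ℂ} (h : Cfsg.IsGeneralizedCharacter M (ofTable T)) :
    Cfsg.IsGeneralizedCharacter S.H (S.onH T) := by
  obtain ⟨a, b, ha, hb, hab⟩ := h
  refine ⟨fun h => a (S.e h), fun h => b (S.e h), H26.isCharacter_comp ha S.e.toMonoidHom,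
    H26.isCharacter_comp hb S.e.toMonoidHom, ?_⟩
  funext x
  simp only [Setting.onH, hab]
  rfl

theorem Setting.classInner_onH [Fintype S.H] (T U : Fin 5 → ℂ) :
    Cfsg.classInner (S.onH T) (S.onH U) = Cfsg.classInner (ofTable T) (ofTable U) := by
  rw [Cfsg.classInner, Cfsg.classInner, Nat.card_congr S.e.toEquiv]
  congr 1
  exact Equiv.sum_comp S.e.toEquiv fun g => ofTable T g * conj (ofTable U g)

/-- An exponent inducing the field automorphism. -/
theorem exists_galois_exponent {n : ℕ} (hn : n ≠ 0) : ∃ k : ℕ, k.Coprime n ∧ k % 30 = 7 := by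
  refine ⟨7 + 30 * ∏ q ∈ n.primeFactors.erase 7, q, ?_, by omega⟩
  refine Nat.coprime_of_dvd fun q hq hqk hqn => ?_
  by_cases h7 : q = 7
  · subst h7
    have : 7 ∣ 30 * ∏ q ∈ n.primeFactors.erase 7, q := (Nat.dvd_add_right dvd_rfl).mp hqk
    rcases hq.dvd_mul.mp this with h | h
    · norm_num at h
    · obtain ⟨r, hr, hr'⟩ := (Prime.dvd_finsetProd_iff hq.prime _).mp h
      rw [Finset.mem_erase, Nat.mem_primeFactors] at hr
      exact hr.1 ((Nat.prime_dvd_prime_iff_eq hq hr.2.1).mp hr').symm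
  · have h : q ∣ 30 * ∏ q ∈ n.primeFactors.erase 7, q :=
      (Finset.dvd_prod_of_mem _ (Finset.mem_erase.mpr ⟨h7, Nat.mem_primeFactors.mpr ⟨hq, hqn, hn⟩⟩)).mul_left 30
    have := (Nat.dvd_add_left h).mp hqk
    exact h7 ((Nat.prime_dvd_prime_iff_eq hq (by norm_num)).mp this)

theorem pow_thirty : ∀ a : M, a ^ 30 = 1 := by decide +kernel

/-- The number of factorisations of a special element as products of two conjugates of `t`. -/
theorem Setting.count_special [IsSimpleGroup G] (y : S.H) (hy : (y : G) ∈ S.special) :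
    Nat.card {p : G × G // IsConj S.t p.1 ∧ IsConj S.t p.2 ∧ p.1 * p.2 = (y : G)} =
      pairTable (cls (S.e y).2) := by
  classical
  obtain ⟨h0, h1⟩ := (S.mem_special_iff y).mp hy
  rw [← pair_count (S.e y) h0 h1]
  have hy15 : (y : G) ^ 15 = S.t := hy
  have hyt : ∀ a b : G, a * a = 1 → b * b = 1 → a * b = (y : G) → a ∈ S.H := by
    intro a b ha hb hab
    have hinv : a * (y : G) * a⁻¹ = (y : G)⁻¹ := by
      rw [← hab, mul_inv_rev, inv_eq_of_mul_eq_one_right ha, inv_eq_of_mul_eq_one_right hb,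
        ← mul_assoc, ha, one_mul]
    have h1 : a * S.t * a⁻¹ = S.t := by
      rw [← hy15, ← conj_pow, hinv, inv_pow, hy15, inv_eq_of_mul_eq_one_right S.t_mul]
    exact Subgroup.mem_centralizer_singleton_iff.mpr (mul_inv_eq_iff_eq_mul.mp h1)
  have hsq : ∀ a : G, IsConj S.t a → a * a = 1 ∧ a ≠ 1 := fun a ha => by
    obtain ⟨g, rfl⟩ := isConj_iff.mp ha
    refine ⟨?_, fun h => S.t_ne (conj_eq_one_iff.mp h)⟩
    rw [show g * S.t * g⁻¹ * (g * S.t * g⁻¹) = g * (S.t * S.t) * g⁻¹ by group, S.t_mul]; group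
  rw [show (Finset.univ.filter fun x : M => (x * x = 1 ∧ x ≠ 1) ∧
    ((x * S.e y) * (x * S.e y) = 1 ∧ x * S.e y ≠ 1)).card = Nat.card {x : M // (x * x = 1 ∧ x ≠ 1) ∧
      ((x * S.e y) * (x * S.e y) = 1 ∧ x * S.e y ≠ 1)} by
      rw [Nat.card_eq_fintype_card, Fintype.card_subtype]]
  refine Nat.card_congr
    { toFun := fun p => ⟨S.e ⟨p.1.1, hyt p.1.1 p.1.2 (hsq _ p.2.1).1 (hsq _ p.2.2.1).1 p.2.2.2⟩, ?_⟩
      invFun := fun x => ⟨(((S.e.symm x.1 : S.H) : G), ((S.e.symm x.1 * y : S.H) : G)), ?_⟩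
      left_inv := fun p => ?_
      right_inv := fun x => ?_ }
  · obtain ⟨⟨a, b⟩, ha, hb, hab⟩ := p
    obtain ⟨g1, g2⟩ := hsq _ ha
    obtain ⟨g3, g4⟩ := hsq _ hb
    have hb' : a * (y : G) = b := by rw [← hab, ← mul_assoc, g1, one_mul]
    refine ⟨⟨?_, fun h => g2 ?_⟩, ?_, fun h => g4 ?_⟩
    · rw [← map_mul, ← _root_.map_one S.e]; exact congrArg S.e (Subtype.ext g1)
    · exact congrArg Subtype.val (S.e.injective (h.trans (_root_.map_one S.e).symm))
    · rw [← map_mul, ← map_mul, ← _root_.map_one S.e]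
      exact congrArg S.e (Subtype.ext (by show a * (y : G) * (a * (y : G)) = 1; rw [hb', g3]))
    · rw [← hb']
      rw [← map_mul] at h
      exact congrArg Subtype.val (S.e.injective (h.trans (_root_.map_one S.e).symm))
  · obtain ⟨x, ⟨x1, x2⟩, x3, x4⟩ := x
    have key : ∀ h : S.H, S.e h * S.e h = 1 → S.e h ≠ 1 → IsConj S.t (h : G) := fun h h1 h2 =>
      S.fusion ((S.two_iff h).mpr ⟨h1, h2⟩)
    refine ⟨key (S.e.symm x) (by simpa using x1) (by simpa using x2),
      key (S.e.symm x * y) (by simpa using x3) (by simpa using x4), ?_⟩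
    show ((S.e.symm x : S.H) : G) * ((S.e.symm x * y : S.H) : G) = y
    rw [← Subgroup.coe_mul, ← mul_assoc,
      show S.e.symm x * S.e.symm x = 1 by rw [← map_mul, x1, _root_.map_one], one_mul]
  · obtain ⟨⟨a, b⟩, ha, hb, hab⟩ := p
    apply Subtype.ext
    simp only [MulEquiv.symm_apply_apply, Subgroup.coe_mul, Prod.mk.injEq, true_and]
    rw [← hab, ← mul_assoc, (hsq _ ha).1, one_mul]
  · apply Subtype.ext
    simp

/-- The two candidates, with the data needed to exclude the second. -/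
theorem Setting.order_cases [IsSimpleGroup G] : Nat.card G = 175560 ∨
    (Nat.card G = 189000 ∧ ∃ v d : Cfsg.IrrCharacter G → ℤ,
      (∀ χ : Cfsg.IrrCharacter G, χ.1 S.t = (v χ : ℂ) ∧ χ.1 1 = (d χ : ℂ)) ∧
      Nonempty (Spurious (H26.oneIrr G) v d)) := by
  classical
  obtain ⟨L⟩ := exists_lattice
  have hinner : ∀ {T U : Fin 5 → ℂ}, Vanishes T → Vanishes U →
      Cfsg.classInner (Cfsg.indFun S.H (S.onH T)) (Cfsg.indFun S.H (S.onH U)) =
        Cfsg.classInner (ofTable T) (ofTable U) := fun {T U} hT hU => by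
    have hcl : Cfsg.IsClassFunction S.H (S.onH U) := fun g x => by
      simp only [Setting.onH, map_mul, map_inv]
      exact isClassFunction_ofTable U (S.e g) (S.e x)
    rw [H38.classInner_indFun_ti S.H S.special S.special_ti _ _ hcl (S.onH_supported hT)
      (S.onH_supported hU), S.classInner_onH]
  have hone : ∀ (T : Fin 5 → ℂ),
      Cfsg.classInner (Cfsg.indFun S.H (S.onH T)) (fun _ => 1) =
        Cfsg.classInner (ofTable T) (fun _ => 1) := fun T => by
    rw [H25.classInner_indFun_left S.H _ (fun _ => (1 : ℂ)) (fun _ _ => rfl), Cfsg.classInner,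
      Cfsg.classInner, Nat.card_congr S.e.toEquiv]
    congr 1
    exact Equiv.sum_comp S.e.toEquiv fun g => ofTable T g * conj (1 : ℂ)
  have hdeg0 : ∀ {T : Fin 5 → ℂ}, Cfsg.indFun S.H (S.onH T) 1 = 0 := fun {T} => by
    rw [H25.indFun_one]
    simp [Setting.onH, ofTable]
  have va : Vanishes (Ta L.s) := rfl
  have vb : Vanishes (Tb L.s) := rfl
  have vp : Vanishes Tp := rfl
  have vc : Vanishes Tc := rfl
  obtain ⟨ma, hma⟩ := H57.gen_exists_coef (gen_indFun' (S.gen_onH L.gena))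
  obtain ⟨mb, hmb⟩ := H57.gen_exists_coef (gen_indFun' (S.gen_onH L.genb))
  obtain ⟨mp, hmp⟩ := H57.gen_exists_coef (gen_indFun' (S.gen_onH L.genp))
  obtain ⟨mc, hmc⟩ := H57.gen_exists_coef (gen_indFun' (S.gen_onH L.genc))
  have hdot : ∀ {T U : Fin 5 → ℂ} {c d : Cfsg.IrrCharacter G → ℤ}, Vanishes T → Vanishes U →
      Cfsg.indFun S.H (S.onH T) = ∑ χ : Cfsg.IrrCharacter G, c χ • (χ : G → ℂ) →
      Cfsg.indFun S.H (S.onH U) = ∑ χ : Cfsg.IrrCharacter G, d χ • (χ : G → ℂ) →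
      ∀ k : ℤ, Cfsg.classInner (ofTable T) (ofTable U) = (k : ℂ) → ∑ χ, c χ * d χ = k := by
    intro T U c d hT hU hc hd k hk
    rw [← hinner hT hU, hc, hd, H26.classInner_sum_right] at hk
    simp only [H57.classInner_zsmul_right, H57.inner_coef, ← Int.cast_mul, ← Int.cast_sum] at hk
    have hk' : ∑ χ, d χ * c χ = k := by exact_mod_cast hk
    rw [← hk']
    exact Finset.sum_congr rfl fun χ _ => mul_comm _ _
  set o := H26.oneIrr G with ho
  have hco : ∀ {T : Fin 5 → ℂ} {c : Cfsg.IrrCharacter G → ℤ},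
      Cfsg.indFun S.H (S.onH T) = ∑ χ : Cfsg.IrrCharacter G, c χ • (χ : G → ℂ) →
      ∀ k : ℤ, Cfsg.classInner (ofTable T) (fun _ => 1) = (k : ℂ) → c o = k := by
    intro T c hc k hk
    have h := H57.inner_coef c o
    rw [← hc, show (o : G → ℂ) = fun _ => 1 from rfl, hone T, hk] at h
    exact_mod_cast h.symm
  have hs := L.conj_s
  have hsq2 : L.s ^ 2 = 1 - L.s := by rw [pow_two]; exact L.sq_s
  have table : ∀ T U : Fin 5 → ℂ, ∀ k : ℂ,
      (120 : ℂ)⁻¹ * (T 0 * conj (U 0) + 15 * (T 1 * conj (U 1)) + 20 * (T 2 * conj (U 2)) +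
        12 * (T 3 * conj (U 3)) + 12 * (T 4 * conj (U 4))) = k →
      Cfsg.classInner (ofTable T) (ofTable U) = k := fun T U k h => by
    rw [classInner_ofTable]; exact h
  have daa := hdot va va hma hma 4 (table _ _ _ (by
    simp [Ta, hs, map_ofNat]; (ring_nf; rw [hsq2]; ring)))
  have dap := hdot va vp hma hmp 2 (table _ _ _ (by simp [Ta, Tp, map_ofNat]; ring))
  have dbb := hdot vb vb hmb hmb 4 (table _ _ _ (by
    simp [Tb, hs, map_ofNat]; (ring_nf; rw [hsq2]; ring)))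
  have dpp := hdot vp vp hmp hmp 4 (table _ _ _ (by simp [Tp, map_ofNat]; norm_num))
  have dcc := hdot vc vc hmc hmc 2 (table _ _ _ (by simp [Tc, map_ofNat]; norm_num))
  have dac := hdot va vc hma hmc 0 (table _ _ _ (by simp [Ta, Tc, map_ofNat]; ring))
  have dpc := hdot vp vc hmp hmc 0 (table _ _ _ (by simp [Tp, Tc, map_ofNat]; norm_num))
  have oa := hco hma 1 (by rw [classInner_ofTable_one]; simp [Ta]; ring)
  have ob := hco hmb 0 (by rw [classInner_ofTable_one]; simp [Tb]; ring)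
  have op := hco hmp 1 (by rw [classInner_ofTable_one]; simp [Tp]; norm_num)
  have oc := hco hmc 0 (by rw [classInner_ofTable_one]; simp [Tc]; norm_num)
  choose d hd0 hd using fun χ : Cfsg.IrrCharacter G => H57.irr_degree χ.2
  set v : Cfsg.IrrCharacter G → ℤ := fun χ => 6 * ma χ - 3 * mb χ - 5 * mp χ + 4 * mc χ with hv
  have hcoef : ∀ {T : Fin 5 → ℂ} {c : Cfsg.IrrCharacter G → ℤ},
      Cfsg.indFun S.H (S.onH T) = ∑ χ : Cfsg.IrrCharacter G, c χ • (χ : G → ℂ) →
      ∀ χ : Cfsg.IrrCharacter G,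
        (c χ : ℂ) = (120 : ℂ)⁻¹ * ∑ y : S.H, S.onH T y * conj (χ.1 y) := by
    intro T c hc χ
    rw [← H57.inner_coef c χ, ← hc,
      H25.classInner_indFun_left S.H _ _ (H26.irr_isClassFunction χ), Cfsg.classInner, S.card_H]
    norm_num
  have hval : ∀ χ : Cfsg.IrrCharacter G, χ.1 S.t = (v χ : ℂ) := by
    intro χ
    have hf : ∀ y : S.H, 6 * S.onH (Ta L.s) y - 3 * S.onH (Tb L.s) y - 5 * S.onH Tp y +
        4 * S.onH Tc y = if y = S.t' then 120 else 0 := by
      intro y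
      have key : ∀ c : Fin 5, 6 * Ta L.s c - 3 * Tb L.s c - 5 * Tp c + 4 * Tc c =
          if c = 0 then 120 else 0 := by
        intro c
        fin_cases c <;> simp [Ta, Tb, Tp, Tc] <;> ring
      have hiff : y = S.t' ↔ ((S.e y).1 ≠ 1 ∧ cls (S.e y).2 = 0) := by
        rw [← S.e.injective.eq_iff, S.map_t, cls_eq_zero]
        constructor
        · intro h; rw [h]; exact ⟨ofAdd_ne, rfl⟩
        · rintro ⟨h, h'⟩
          have two : ∀ a : Multiplicative (ZMod 2), a ≠ 1 → a = Multiplicative.ofAdd 1 := by decide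
          exact Prod.ext (two _ h) h'
      by_cases h1 : (S.e y).1 = 1
      · rw [if_neg fun h => (hiff.mp h).1 h1]
        simp [Setting.onH, ofTable, h1]
      · simp only [Setting.onH, ofTable, if_neg h1, key]
        by_cases h2 : cls (S.e y).2 = 0
        · rw [if_pos h2, if_pos (hiff.mpr ⟨h1, h2⟩)]
        · rw [if_neg h2, if_neg fun h => h2 (hiff.mp h).2]
    have h : (v χ : ℂ) = (120 : ℂ)⁻¹ * ∑ y : S.H, (6 * S.onH (Ta L.s) y - 3 * S.onH (Tb L.s) y -
        5 * S.onH Tp y + 4 * S.onH Tc y) * conj (χ.1 y) := by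
      rw [hv]
      push_cast
      rw [hcoef hma, hcoef hmb, hcoef hmp, hcoef hmc]
      simp only [add_mul, sub_mul, Finset.sum_add_distrib, Finset.sum_sub_distrib, mul_assoc,
        ← Finset.mul_sum]
      ring
    simp only [hf, ite_mul, zero_mul, Finset.sum_ite_eq', Finset.mem_univ, if_true] at h
    rw [← mul_assoc, inv_mul_cancel₀ (by norm_num), one_mul] at h
    have h' := congrArg conj h
    rw [map_intCast, Complex.conj_conj] at h'
    exact h'.symm
  -- the field automorphism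
  obtain ⟨k, hk, hk30⟩ := exists_galois_exponent (Nat.card_pos (α := G)).ne'
  set π : Cfsg.IrrCharacter G → Cfsg.IrrCharacter G := H45.galIrr hk with hπ
  have hbij : Function.Bijective fun y : S.H => y ^ k :=
    H45.powCoprime_bijective (hk.coprime_dvd_right (Subgroup.card_subgroup_dvd_card S.H))
  have htwist : ∀ (T T' : Fin 5 → ℂ), (∀ c, T c = T' (![0, 1, 2, 4, 3] c)) →
      ∀ {c : Cfsg.IrrCharacter G → ℤ},
      Cfsg.indFun S.H (S.onH T) = ∑ χ : Cfsg.IrrCharacter G, c χ • (χ : G → ℂ) →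
      ∀ χ, (c (π χ) : ℂ) = (120 : ℂ)⁻¹ * ∑ y : S.H, S.onH T' y * conj (χ.1 y) := by
    intro T T' hT c hc χ
    rw [hcoef hc]
    congr 1
    refine Fintype.sum_bijective _ hbij _ _ fun y => ?_
    have e1 : S.e (y ^ k) = S.e y ^ 7 := by
      rw [map_pow, ← Nat.div_add_mod k 30, hk30, pow_add, pow_mul, pow_thirty, one_pow, one_mul]
    have e2 : S.onH T' (y ^ k) = S.onH T y := by
      unfold Setting.onH ofTable
      rw [e1, Prod.pow_fst, Prod.pow_snd, fst_pow_seven, cls_pow_seven, ← hT]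
    rw [e2]
    rfl
  have pia : ∀ χ, ma (π χ) = ma χ - mb χ := by
    intro χ
    have h := htwist (Ta L.s) (fun c => Ta L.s c - Tb L.s c) (fun c => by
      fin_cases c <;> simp [Ta, Tb] <;> ring) hma χ
    have e3 : ∀ y : S.H, S.onH (fun c => Ta L.s c - Tb L.s c) y =
        S.onH (Ta L.s) y - S.onH (Tb L.s) y := fun y => by
      unfold Setting.onH ofTable
      split_ifs <;> simp
    simp only [e3, sub_mul, Finset.sum_sub_distrib, mul_sub, ← hcoef hma, ← hcoef hmb] at h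
    exact_mod_cast h
  have pib : ∀ χ, mb (π χ) = -mb χ := by
    intro χ
    have h := htwist (Tb L.s) (fun c => -Tb L.s c) (fun c => by
      fin_cases c <;> simp [Tb]) hmb χ
    have e3 : ∀ y : S.H, S.onH (fun c => -Tb L.s c) y = -S.onH (Tb L.s) y := fun y => by
      unfold Setting.onH ofTable
      split_ifs <;> simp
    simp only [e3, neg_mul, Finset.sum_neg_distrib, mul_neg, ← hcoef hmb] at h
    exact_mod_cast h
  have pip : ∀ χ, mp (π χ) = mp χ := fun χ => by
    have h := htwist Tp Tp (fun c => by fin_cases c <;> simp [Tp]) hmp χ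
    rw [← hcoef hmp] at h
    exact_mod_cast h
  have pic : ∀ χ, mc (π χ) = mc χ := fun χ => by
    have h := htwist Tc Tc (fun c => by fin_cases c <;> simp [Tc]) hmc χ
    rw [← hcoef hmc] at h
    exact_mod_cast h
  have pid : ∀ χ, (d (π χ) : ℤ) = d χ := fun χ => by
    have h := hd (π χ)
    rw [hπ, show (H45.galIrr hk χ).1 1 = χ.1 (1 ^ k) from rfl, one_pow, hd χ] at h
    exact_mod_cast h.symm
  obtain ⟨σ, s1, s2, sa, sb, sp, sc, sd⟩ := exists_involution (o := o) (H45.galIrr_injective hk)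
    pia pib pip pic (d := fun χ => (d χ : ℤ)) pid ob dbb
  -- degrees
  have hdegs : ∀ {T : Fin 5 → ℂ} {c : Cfsg.IrrCharacter G → ℤ},
      Cfsg.indFun S.H (S.onH T) = ∑ χ : Cfsg.IrrCharacter G, c χ • (χ : G → ℂ) →
      ∑ χ, c χ * (d χ : ℤ) = 0 := by
    intro T c hc
    have h := congrFun hc 1
    rw [hdeg0, Finset.sum_apply] at h
    simp only [Pi.smul_apply, zsmul_eq_mul, hd] at h
    exact_mod_cast h.symm
  -- counting
  let n : G → ℕ := fun g => Nat.card {p : G × G // IsConj S.t p.1 ∧ IsConj S.t p.2 ∧ p.1 * p.2 = g}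
  have hct : Nat.card (Subgroup.centralizer ({S.t} : Set G)) = 120 := S.card_H
  have hcount : ∀ {T : Fin 5 → ℂ} {c : Cfsg.IrrCharacter G → ℤ} {K : ℤ}, Vanishes T →
      Cfsg.indFun S.H (S.onH T) = ∑ χ : Cfsg.IrrCharacter G, c χ • (χ : G → ℂ) →
      120 * (30 * T 0 + 120 * T 2 + 120 * T 3 + 120 * T 4) = (K : ℂ) →
      (Nat.card G : ℚ) * ∑ χ, (c χ : ℚ) * ((v χ ^ 2 : ℤ) : ℚ) / ((d χ : ℤ) : ℚ) = (K : ℚ) := by
    intro T c K hT hc hK
    have hG : (Nat.card G : ℂ) ≠ 0 := Nat.cast_ne_zero.2 Nat.card_pos.ne'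
    have hcf : ∀ g : G, (n g : ℂ) * (120 * 120) =
        (Nat.card G : ℂ) * ∑ χ : Cfsg.IrrCharacter G,
          (v χ : ℂ) * (v χ : ℂ) * conj (χ.1 g) / χ.1 1 := by
      intro g
      have h := GLTwoThree.count_formula S.t S.t g
      rw [hct] at h
      simp only [hval] at h
      push_cast at h
      exact h
    have hnf : Cfsg.IsClassFunction G fun g => (n g : ℂ) := by
      intro g x
      have h1 := hcf (x * g * x⁻¹)
      simp only [H26.irr_conj] at h1
      rw [← hcf g] at h1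
      exact mul_right_cancel₀ (by norm_num) h1
    have hfr := H25.classInner_indFun_left S.H (S.onH T) (fun g => (n g : ℂ)) hnf
    have hM : ∑ y : S.H, S.onH T y * conj ((n y : ℕ) : ℂ) =
        30 * T 0 + 120 * T 2 + 120 * T 3 + 120 * T 4 := by
      have h1 : ∑ y : S.H, S.onH T y * conj ((n y : ℕ) : ℂ) =
          ∑ m : M, ofTable (fun c => T c * (pairTable c : ℂ)) m := by
        rw [← Equiv.sum_comp S.e.toEquiv fun m => ofTable (fun c => T c * (pairTable c : ℂ)) m]
        refine Finset.sum_congr rfl fun y _ => ?_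
        rw [map_natCast]
        show ofTable T (S.e y) * _ = ofTable _ (S.e y)
        unfold ofTable
        split_ifs with h
        · rw [zero_mul]
        · by_cases h2 : cls (S.e y).2 = 1
          · simp [h2, show T 1 = 0 from hT]
          · rw [show n y = _ from S.count_special y ((S.mem_special_iff y).mpr ⟨h, h2⟩)]
      rw [h1, sum_ofTable]
      simp [pairTable]
      ring
    unfold Cfsg.classInner at hfr
    rw [hM, S.card_H] at hfr
    have hexp : ∑ g : G, Cfsg.indFun S.H (S.onH T) g * conj ((n g : ℕ) : ℂ) * (120 * 120) =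
        (Nat.card G : ℂ) * ((Nat.card G : ℂ) *
          ∑ χ, (c χ : ℂ) * ((v χ : ℂ) * (v χ : ℂ)) / χ.1 1) := by
      calc _ = ∑ g : G, Cfsg.indFun S.H (S.onH T) g * ((Nat.card G : ℂ) *
            ∑ χ : Cfsg.IrrCharacter G, (v χ : ℂ) * (v χ : ℂ) * conj (χ.1 g) / χ.1 1) :=
            Finset.sum_congr rfl fun g _ => by rw [map_natCast, mul_assoc, hcf]
        _ = (Nat.card G : ℂ) * ∑ χ : Cfsg.IrrCharacter G, (v χ : ℂ) * (v χ : ℂ) / χ.1 1 *
            ∑ g : G, Cfsg.indFun S.H (S.onH T) g * conj (χ.1 g) := by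
            simp only [Finset.mul_sum]
            rw [Finset.sum_comm]
            exact Finset.sum_congr rfl fun χ _ => Finset.sum_congr rfl fun g _ => by ring
        _ = _ := by
            congr 1
            rw [Finset.mul_sum]
            refine Finset.sum_congr rfl fun χ _ => ?_
            have h := H57.inner_coef c χ
            rw [← hc, Cfsg.classInner] at h
            rw [← h]
            field_simp
    rw [← Finset.sum_mul] at hexp
    field_simp at hfr
    push_cast at hfr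
    have h3 : (Nat.card G : ℂ) * ∑ χ, (c χ : ℂ) * ((v χ : ℂ) * (v χ : ℂ)) / χ.1 1 = (K : ℂ) := by
      rw [← hK]
      apply mul_left_cancel₀ hG
      linear_combination 120 * hfr - hexp
    have h4 : (((Nat.card G : ℚ) * ∑ χ, (c χ : ℚ) * ((v χ ^ 2 : ℤ) : ℚ) / ((d χ : ℤ) : ℚ) : ℚ) : ℂ) =
        (((K : ℤ) : ℚ) : ℂ) := by
      push_cast
      rw [← h3]
      simp only [hd, pow_two]
    exact Rat.cast_injective h4
  have ea := hcount (K := 144000) va hma (by simp [Ta]; ring)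
  have ep := hcount (K := 86400) vp hmp (by simp [Tp]; norm_num)
  have ec := hcount (K := 0) vc hmc (by simp [Tc]; norm_num)
  have hGne : (Nat.card G : ℚ) ≠ 0 := Nat.cast_ne_zero.mpr Nat.card_pos.ne'
  rw [Int.cast_zero, mul_eq_zero] at ec
  have H : Coeffs o σ ma mb mp mc fun χ => (d χ : ℤ) :=
    { inv := s1, fix := s2, pia := sa, pib := sb, pip := sp, pic := sc, pid := sd
      ao := oa, bo := ob, po := op, co := oc
      dpos := fun χ => by exact_mod_cast hd0 χ
      aa := daa, ap := dap, bb := dbb, pp := dpp, cc := dcc, ac := dac, pc := dpc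
      dc := hdegs hmc
      rc := ec.resolve_left hGne }
  have hdo : d o = 1 := by
    have h := hd o
    rw [show o.1 1 = (1 : ℂ) from rfl] at h
    exact_mod_cast h.symm
  have hmod : ∀ χ, ((d χ : ℤ) - v χ) % 8 = 0 := by
    intro χ
    haveI : Fintype (S.P : Subgroup G) := Fintype.ofFinite _
    obtain ⟨z, hz⟩ := H57.gen_inner_int
      (H57.gen_of_char (H26.isCharacter_comp (H26.irr_isCharacter χ) (S.P : Subgroup G).subtype))
      (H57.gen_of_irr (H26.oneIrr (S.P : Subgroup G)).2)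
    rw [Cfsg.classInner, S.card_P] at hz
    simp only [H26.oneIrr_val, map_one, mul_one, Function.comp_apply, Subgroup.coe_subtype] at hz
    rw [← Finset.add_sum_erase _ _ (Finset.mem_univ (1 : (S.P : Subgroup G))),
      Finset.sum_congr rfl (g := fun _ => (v χ : ℂ)) (fun x hx => by
        have hx1 : (x : G) ≠ 1 := fun h => (Finset.mem_erase.mp hx).1 (Subtype.ext h)
        rw [← H26.irr_eq_of_isConj χ (S.fusion (S.orderOf_mem_P x.2 hx1)), hval]),
      Finset.sum_const, Finset.card_erase_of_mem (Finset.mem_univ _), Finset.card_univ,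
      ← Nat.card_eq_fintype_card, S.card_P, OneMemClass.coe_one, hd, nsmul_eq_mul] at hz
    have h8 : ((d χ : ℤ) : ℂ) + ((7 * v χ : ℤ) : ℂ) = ((8 * z : ℤ) : ℂ) := by
      push_cast
      norm_num at hz
      linear_combination 8 * hz
    have h8' : (d χ : ℤ) + 7 * v χ = 8 * z := by exact_mod_cast h8
    omega
  have hlin : ∀ χ, χ ≠ o → (d χ : ℤ) ≠ 1 := by
    intro χ hχ h1
    obtain ⟨f, hf⟩ := H26.exists_hom_of_isCharacter_one (H26.irr_isCharacter χ)
      (by rw [hd, show d χ = 1 by exact_mod_cast h1, Nat.cast_one])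
    rcases (inferInstance : f.ker.Normal).eq_bot_or_eq_top with hb | hb
    · have hinj : Function.Injective f := (MonoidHom.ker_eq_bot_iff f).mp hb
      obtain ⟨a, ha⟩ := S.e.surjective (1, cA)
      obtain ⟨b, hb'⟩ := S.e.surjective (1, rA)
      have hab : a * b = b * a :=
        Subtype.ext (hinj (by rw [Subgroup.coe_mul, Subgroup.coe_mul, map_mul, map_mul, mul_comm]))
      have h2 : ((1, cA) : M) * (1, rA) = (1, rA) * (1, cA) := by
        rw [← ha, ← hb', ← map_mul, ← map_mul, hab]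
      exact absurd h2 (by decide +kernel)
    · refine hχ (Subtype.ext (funext fun g => ?_))
      rw [← hf g, show f g = 1 from (MonoidHom.mem_ker).mp (hb ▸ Subgroup.mem_top g)]
      rfl
  have hsq : ∀ χ ψ, χ ≠ ψ → (d χ : ℤ) * d χ + d ψ * d ψ ≤ (Nat.card G : ℤ) := by
    intro χ ψ hne
    have h := H26.sum_sq_degrees (G := G)
    simp only [hd] at h
    have h' : ∑ χ : Cfsg.IrrCharacter G, d χ ^ 2 = Nat.card G := by exact_mod_cast h
    have h2 := Finset.sum_le_sum_of_subset (f := fun χ => d χ ^ 2)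
      (Finset.subset_univ ({χ, ψ} : Finset (Cfsg.IrrCharacter G)))
    rw [Finset.sum_pair hne, h'] at h2
    simp only [pow_two] at h2
    exact_mod_cast h2
  obtain ⟨h840, -⟩ := S.exists_seven
  obtain ⟨m, hm, hm2⟩ := S.exists_cofactor
  obtain ⟨q, hq⟩ := h840
  have hpos := Nat.card_pos (α := G)
  have hres := assemble (Nat.card G : ℤ) H v (fun χ => rfl) (by exact_mod_cast hdo) (hdegs hma)
    (hdegs hmp) hmod hlin hsq ⟨(q : ℤ), by exact_mod_cast hq, by omega, by omega⟩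
    (by exact_mod_cast ea) (by exact_mod_cast ep)
  rcases hres with h | ⟨h, hsp⟩
  · exact Or.inl (by exact_mod_cast h)
  · exact Or.inr ⟨by exact_mod_cast h, v, fun χ => (d χ : ℤ),
      fun χ => ⟨hval χ, by rw [hd]; push_cast; rfl⟩, hsp⟩

end Group

end Cfsg.Agent.H30.TwoTimesA5
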