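import Cfsg.Agent.H30.TwoTimesA5Order
import Cfsg.Agent.H27.DefectZero

/-!
# There is no simple group of order 189000 with involution centralizer `C2 × A5`
-/

set_option autoImplicit false
set_option synthInstance.maxSize 4096
set_option maxHeartbeats 2000000
set_option maxRecDepth 4000

namespace Cfsg.Agent.H30.TwoTimesA5

open scoped ComplexConjugate

variable {G : Type*} [Group G] [Fintype G] (S : Setting G) [IsSimpleGroup G]

theorem Setting.not_commute_involution (S : Setting G) {g a : G} (hg : orderOf g = 7) (ha : orderOf a = 2) :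
    a * g ≠ g * a := by
  intro hc
  obtain ⟨x, hx⟩ := isConj_iff.mp (S.fusion ha)
  have hmem : x⁻¹ * g * x ∈ S.H := by
    refine Subgroup.mem_centralizer_singleton_iff.mpr ?_
    rw [show S.t = x⁻¹ * a * x by rw [← hx]; group]
    calc x⁻¹ * g * x * (x⁻¹ * a * x) = x⁻¹ * (g * a) * x := by group
      _ = x⁻¹ * (a * g) * x := by rw [hc]
      _ = x⁻¹ * a * x * (x⁻¹ * g * x) := by group
  have h := Subgroup.orderOf_dvd_natCard S.H hmem
  have ho : orderOf (x⁻¹ * g * x) = 7 := by
    have := orderOf_injective (MulAut.conj x⁻¹).toMonoidHom (MulAut.conj x⁻¹).injective g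
    simp only [MulEquiv.coe_toMonoidHom, MulAut.conj_apply, inv_inv] at this
    rw [this, hg]
  rw [ho, S.card_H] at h
  norm_num at h

/-- An involution normalising a subgroup of order seven inverts it. -/
theorem Setting.inverts (S : Setting G) {g a : G} (hg : orderOf g = 7) (ha : orderOf a = 2)
    (hn : a * g * a⁻¹ ∈ Subgroup.zpowers g) : a * g * a⁻¹ = g⁻¹ := by
  obtain ⟨k, hk, hk'⟩ : ∃ k, k < 7 ∧ a * g * a⁻¹ = g ^ k := by
    obtain ⟨k, hk⟩ := (mem_powers_iff_mem_zpowers.mpr hn : a * g * a⁻¹ ∈ Submonoid.powers g)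
    exact ⟨k % 7, Nat.mod_lt _ (by norm_num), by rw [← hg, pow_mod_orderOf]; exact hk.symm⟩
  have haa : a * a = 1 := by rw [← pow_two, ← ha, pow_orderOf_eq_one]
  have h2 : g ^ (k * k) = g := by
    rw [pow_mul, ← hk', conj_pow, ← hk']
    calc a * (a * g * a⁻¹) * a⁻¹ = (a * a) * g * (a * a)⁻¹ := by group
      _ = g := by rw [haa]; group
  have h3 : k * k ≡ 1 [MOD 7] := by
    rw [← hg, ← pow_eq_pow_iff_modEq, pow_one]; exact h2
  have h4 : ∀ k, k < 7 → k * k % 7 = 1 → k = 1 ∨ k = 6 := by decide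
  rcases h4 k hk h3 with rfl | rfl
  · exact absurd (mul_inv_eq_iff_eq_mul.mp (hk'.trans (pow_one g))) (S.not_commute_involution hg ha)
  · rw [hk']
    refine eq_inv_of_mul_eq_one_left ?_
    rw [← pow_succ, show 6 + 1 = orderOf g from hg.symm, pow_orderOf_eq_one]

/-- The chosen element of order five. -/
noncomputable def Setting.five : G := ((S.e.symm (1, cA) : S.H) : G)

theorem Setting.orderOf_five : orderOf S.five = 5 := by
  rw [Setting.five, Subgroup.orderOf_coe, MulEquiv.orderOf_eq S.e.symm]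
  exact orderOf_eq_prime (hp := ⟨by norm_num⟩) five_element.1 five_element.2

theorem Setting.card_inf_five :
    Nat.card ↥(S.H ⊓ Subgroup.centralizer {S.five}) = 10 := by
  classical
  rw [← five_centralizer, ← Fintype.card_subtype, ← Nat.card_eq_fintype_card]
  refine Nat.card_congr
    { toFun := fun x => ⟨S.e ⟨x.1, x.2.1⟩, ?_⟩
      invFun := fun m => ⟨((S.e.symm m.1 : S.H) : G), (S.e.symm m.1).2, ?_⟩
      left_inv := fun x => ?_
      right_inv := fun m => ?_ }
  · have h := Subgroup.mem_centralizer_singleton_iff.mp x.2.2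
    have h' : (⟨x.1, x.2.1⟩ : S.H) * S.e.symm (1, cA) = S.e.symm (1, cA) * ⟨x.1, x.2.1⟩ :=
      Subtype.ext h
    simpa [map_mul] using congrArg S.e h'
  · have h := congrArg (fun m => ((S.e.symm m : S.H) : G)) m.2
    simp only [map_mul, Subgroup.coe_mul] at h
    exact Subgroup.mem_centralizer_singleton_iff.mpr h
  · apply Subtype.ext; simp
  · apply Subtype.ext; simp

/-- No element of order seven centralizes the chosen element of order five. -/
theorem Setting.five_no_seven (h49 : ¬ 49 ∣ Nat.card G) {g : G} (hg : orderOf g = 7) :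
    g * S.five ≠ S.five * g := by
  classical
  intro hgy
  have : Fact (Nat.Prime 2) := ⟨Nat.prime_two⟩
  have : Fact (Nat.Prime 7) := ⟨by norm_num⟩
  set y := S.five with hy
  set K := Subgroup.centralizer ({y} : Set G) with hK
  have htK : S.t ∈ K := Subgroup.mem_centralizer_singleton_iff.mpr
    (Subgroup.mem_centralizer_singleton_iff.mp (S.e.symm (1, cA)).2).symm
  -- `4` does not divide the order of `K`
  have hK4 : ¬ 4 ∣ Nat.card K := by
    intro h4
    have hT : IsPGroup 2 (Subgroup.zpowers (⟨S.t, htK⟩ : K)) := IsPGroup.of_card (n := 1)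
      (by rw [Nat.card_zpowers, ← Subgroup.orderOf_coe, S.ht, pow_one])
    obtain ⟨T, hT'⟩ := hT.exists_le_sylow
    have h4T : 2 ^ 2 ∣ Nat.card (T : Subgroup K) := T.pow_dvd_card_of_pow_dvd_card h4
    obtain ⟨Q, hQ⟩ := (T.isPGroup'.map K.subtype).exists_le_sylow
    obtain ⟨x, hx⟩ := MulAction.exists_smul_eq G Q S.P
    have hQc : ∀ a ∈ (Q : Subgroup G), ∀ b ∈ (Q : Subgroup G), a * b = b * a := by
      intro a ha b hb
      have hm : ∀ c ∈ (Q : Subgroup G), x * c * x⁻¹ ∈ (S.P : Subgroup G) := fun c hc => by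
        rw [← hx, Sylow.coe_subgroup_smul]
        exact ⟨c, hc, rfl⟩
      have h := S.comm_P _ (hm a ha) _ (hm b hb)
      calc a * b = x⁻¹ * (x * a * x⁻¹ * (x * b * x⁻¹)) * x := by group
        _ = x⁻¹ * (x * b * x⁻¹ * (x * a * x⁻¹)) * x := by rw [h]
        _ = b * a := by group
    have hle : (T : Subgroup K).map K.subtype ≤ S.H ⊓ K := by
      rintro _ ⟨c, hc, rfl⟩
      exact ⟨Subgroup.mem_centralizer_singleton_iff.mpr (hQc _ (hQ ⟨c, hc, rfl⟩) _
        (hQ ⟨_, hT' (Subgroup.mem_zpowers _), rfl⟩)), c.2⟩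
    have h5 := Subgroup.card_dvd_of_le hle
    rw [S.card_inf_five, Subgroup.card_map_of_injective K.subtype_injective] at h5
    have := h4T.trans h5
    norm_num at this
  have hK2 : 2 ∣ Nat.card K := by
    have := Subgroup.orderOf_dvd_natCard K htK
    rwa [S.ht] at this
  obtain ⟨mK, hmK⟩ := hK2
  have hmKodd : ¬ 2 ∣ mK := fun h => hK4 (by rw [hmK]; exact Nat.mul_dvd_mul_left 2 h)
  let T : Sylow 2 K := default
  have hT : Nat.card (T : Subgroup K) = 2 :=
    H30.card_sylow_subgroup T (a := 1) (m := mK) (by rw [hmK, pow_one]) hmKodd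
  obtain ⟨M0, hM0⟩ := H28.exists_index_two_of_cyclic_sylow (even_iff_two_dvd.mpr ⟨mK, hmK⟩) T
    (isCyclic_of_prime_card (p := 2) hT)
  have hM0card : Nat.card M0 = mK := by
    have h := M0.card_mul_index
    rw [hM0, hmK] at h
    omega
  have hM0n := Subgroup.normal_of_index_eq_two hM0
  set Mg : Subgroup G := M0.map K.subtype with hMg
  have hMgmem : ∀ a : G, a ∈ Mg ↔ a ∈ K ∧ ¬ 2 ∣ orderOf a := by
    intro a
    constructor
    · rintro ⟨b, hb, rfl⟩
      refine ⟨b.2, fun h => hmKodd ?_⟩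
      rw [← hM0card]
      refine h.trans ?_
      rw [Subgroup.coe_subtype, Subgroup.orderOf_coe]
      exact Subgroup.orderOf_dvd_natCard _ hb
    · rintro ⟨ha, ha2⟩
      refine ⟨⟨a, ha⟩, ?_, rfl⟩
      show (⟨a, ha⟩ : K) ∈ M0
      rw [← QuotientGroup.eq_one_iff, ← orderOf_eq_one_iff]
      refine Nat.eq_one_of_dvd_coprimes
        ((Nat.Prime.coprime_iff_not_dvd Nat.prime_two).mpr ha2) ?_ ?_
      · exact hM0 ▸ orderOf_dvd_natCard _
      · rw [← Subgroup.orderOf_mk a ha]
        exact orderOf_map_dvd (QuotientGroup.mk' M0) _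
  set L : Subgroup G := Subgroup.normalizer (Mg : Set G) with hL
  have hnorm : ∀ x : G, (∀ a, a ∈ K ↔ x * a * x⁻¹ ∈ K) → x ∈ L := fun x hx =>
    Subgroup.mem_normalizer_iff.mpr fun a => by
      rw [hMgmem, hMgmem, ← hx,
        show orderOf (x * a * x⁻¹) = orderOf a from
          orderOf_injective (MulAut.conj x).toMonoidHom (MulAut.conj x).injective a]
  obtain ⟨w, w1, w2, w3, w4⟩ := five_inverted
  set w' : G := ((S.e.symm w : S.H) : G) with hw'
  have hwy : w' * y * w'⁻¹ = y⁻¹ := by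
    have h := congrArg (fun m => ((S.e.symm m : S.H) : G)) w4
    simp only [map_mul, map_inv, Subgroup.coe_mul, Subgroup.coe_inv] at h
    exact h
  have hKn : ∀ x : G, (x * y * x⁻¹ = y ∨ x * y * x⁻¹ = y⁻¹) → x ∈ L := by
    intro x hx
    refine hnorm x fun a => ?_
    have hK' : ∀ b, b ∈ K ↔ b * y * b⁻¹ = y := fun b => by
      rw [hK, Subgroup.mem_centralizer_singleton_iff, mul_inv_eq_iff_eq_mul]
    rw [hK', hK']
    have e : x * a * x⁻¹ * (x * y * x⁻¹) * (x * a * x⁻¹)⁻¹ = x * (a * y * a⁻¹) * x⁻¹ := by group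
    rcases hx with hx | hx <;> rw [hx] at e
    · rw [e]
      constructor
      · intro h; rw [h, hx]
      · intro h
        calc a * y * a⁻¹ = x⁻¹ * (x * (a * y * a⁻¹) * x⁻¹) * x := by group
          _ = x⁻¹ * (x * y * x⁻¹) * x := by rw [h, hx]
          _ = y := by group
    · constructor
      · intro h
        rw [h, hx] at e
        have e2 := congrArg (fun z => z⁻¹) e
        simpa [mul_assoc] using e2
      · intro h
        have e2 : x * a * x⁻¹ * y⁻¹ * (x * a * x⁻¹)⁻¹ = y⁻¹ := by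
          calc x * a * x⁻¹ * y⁻¹ * (x * a * x⁻¹)⁻¹ = (x * a * x⁻¹ * y * (x * a * x⁻¹)⁻¹)⁻¹ := by
                group
            _ = y⁻¹ := by rw [h]
        rw [e2, ← hx] at e
        calc a * y * a⁻¹ = x⁻¹ * (x * (a * y * a⁻¹) * x⁻¹) * x := by group
          _ = x⁻¹ * (x * y * x⁻¹) * x := by rw [← e]
          _ = y := by group
  have htL : S.t ∈ L := hKn _ (Or.inl (mul_inv_eq_iff_eq_mul.mpr
    (Subgroup.mem_centralizer_singleton_iff.mp htK)))
  have hwL : w' ∈ L := hKn _ (Or.inr hwy)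
  set N : Subgroup L := Mg.subgroupOf L with hN
  haveI : N.Normal := Subgroup.normal_in_normalizer
  have hNcard : Nat.card N = mK := by
    rw [Nat.card_congr (Subgroup.subgroupOfEquivOfLe Subgroup.le_normalizer).toEquiv,
      hMg, Subgroup.card_map_of_injective K.subtype_injective, hM0card]
  -- the quotient has order divisible by four
  have h4L : 4 ∣ N.index := by
    have hsq : ∀ x : G, x * x = 1 → x ∈ Mg → x = 1 := fun x hx hxm => by
      by_contra h1
      exact ((hMgmem x).mp hxm).2 (dvd_of_eq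
        (orderOf_eq_prime (p := 2) (by rw [pow_two, hx]) h1).symm)
    have hww : w' * w' = 1 := by
      rw [hw', ← Subgroup.coe_mul, ← map_mul, w1, _root_.map_one]; rfl
    have hw1 : w' ≠ 1 := fun h => w2 (by
      have : S.e.symm w = 1 := Subtype.ext h
      simpa using congrArg S.e this)
    have htw : Commute S.t w' :=
      (Subgroup.mem_centralizer_singleton_iff.mp (S.e.symm w).2).symm
    have hyy : y⁻¹ ≠ y := fun h => by
      have h2 : y ^ 2 = 1 := by rw [pow_two]; nth_rw 1 [← h]; exact inv_mul_cancel y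
      have h3 := orderOf_dvd_of_pow_eq_one h2
      rw [hy, S.orderOf_five] at h3
      norm_num at h3
    have hnK : ∀ z : G, z * y * z⁻¹ = y⁻¹ → z ∉ Mg := fun z hz hm => hyy (by
      rw [← hz]
      exact mul_inv_eq_iff_eq_mul.mpr (Subgroup.mem_centralizer_singleton_iff.mp ((hMgmem z).mp hm).1))
    set a : L ⧸ N := QuotientGroup.mk (⟨S.t, htL⟩ : L) with ha
    set b : L ⧸ N := QuotientGroup.mk (⟨w', hwL⟩ : L) with hb
    have hmk : ∀ z : L, (QuotientGroup.mk z : L ⧸ N) = 1 ↔ (z : G) ∈ Mg := fun z => by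
      rw [QuotientGroup.eq_one_iff, hN, Subgroup.mem_subgroupOf]
    have a2 : a ^ 2 = 1 := by
      rw [ha, ← QuotientGroup.mk_pow, hmk, SubmonoidClass.coe_pow, pow_two]
      show S.t * S.t ∈ Mg
      rw [S.t_mul]; exact one_mem _
    have b2 : b ^ 2 = 1 := by
      rw [hb, ← QuotientGroup.mk_pow, hmk, SubmonoidClass.coe_pow, pow_two]
      show w' * w' ∈ Mg
      rw [hww]; exact one_mem _
    have hab : a * b = b * a := by
      rw [ha, hb, ← QuotientGroup.mk_mul, ← QuotientGroup.mk_mul]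
      exact congrArg QuotientGroup.mk (Subtype.ext htw.eq)
    have a1 : a ≠ 1 := fun h => S.t_ne (hsq _ S.t_mul ((hmk _).mp h))
    have b1 : b ≠ 1 := fun h => hw1 (hsq _ hww ((hmk _).mp h))
    have ab1 : a * b ≠ 1 := fun h => by
      rw [ha, hb, ← QuotientGroup.mk_mul, hmk] at h
      refine hnK _ ?_ h
      show S.t * w' * y * (S.t * w')⁻¹ = y⁻¹
      calc S.t * w' * y * (S.t * w')⁻¹ = S.t * (w' * y * w'⁻¹) * S.t⁻¹ := by group
        _ = (S.t * y * S.t⁻¹)⁻¹ := by rw [hwy]; group
        _ = y⁻¹ := by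
          rw [mul_inv_eq_iff_eq_mul.mpr (Subgroup.mem_centralizer_singleton_iff.mp htK)]
    set V : Subgroup (L ⧸ N) := Subgroup.closure {a, b} with hV
    have hVcomm : ∀ x ∈ V, ∀ z ∈ V, x * z = z * x := by
      intro x hx z hz
      have hc : IsMulCommutative V := Subgroup.isMulCommutative_closure (by
        intro p hp q hq
        rcases hp with rfl | rfl <;> rcases hq with rfl | rfl <;>
          first | rfl | exact hab | exact hab.symm)
      exact congrArg Subtype.val (hc.1.1 ⟨x, hx⟩ ⟨z, hz⟩)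
    have hVexp : ∀ x ∈ V, x ^ 2 = 1 := by
      intro x hx
      induction hx using Subgroup.closure_induction with
      | mem p hp => rcases hp with rfl | rfl <;> assumption
      | one => exact one_pow 2
      | mul p q hp hq ihp ihq =>
        rw [(show Commute p q from hVcomm p hp q hq).mul_pow, ihp, ihq, one_mul]
      | inv p _ ihp => rw [inv_pow, ihp, inv_one]
    have hV2 : IsPGroup 2 V := fun x => ⟨1, Subtype.ext (by simpa using hVexp x x.2)⟩
    obtain ⟨k, hk⟩ := IsPGroup.iff_card.mp hV2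
    have hk2 : 2 ≤ k := by
      by_contra hk2
      have hle : Nat.card V ≤ 2 := by
        rw [hk]
        calc 2 ^ k ≤ 2 ^ 1 := Nat.pow_le_pow_right (by norm_num) (by omega)
          _ = 2 := by norm_num
      have h3 : ({1, a, b} : Finset (L ⧸ N)).card = 3 := Finset.card_eq_three.mpr
        ⟨1, a, b, Ne.symm a1, Ne.symm b1, fun h => ab1 (by rw [← h, ← pow_two, a2]), rfl⟩
      have hsub : (↑({1, a, b} : Finset (L ⧸ N)) : Set (L ⧸ N)) ⊆ V := by
        intro z hz
        simp only [Finset.coe_insert, Finset.coe_singleton, Set.mem_insert_iff,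
          Set.mem_singleton_iff] at hz
        rcases hz with rfl | rfl | rfl
        exacts [one_mem V, Subgroup.subset_closure (by simp), Subgroup.subset_closure (by simp)]
      have := Set.ncard_le_ncard hsub (Set.toFinite _)
      rw [Set.ncard_coe_finset, h3, ← Nat.card_coe_set_eq] at this
      simp only [SetLike.coe_sort_coe] at this
      omega
    have h4V : 4 ∣ Nat.card V := by rw [hk]; exact pow_dvd_pow 2 hk2
    exact h4V.trans (Subgroup.index_eq_card N ▸ Subgroup.card_subgroup_dvd_card V)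
  -- a Sylow 7-subgroup and the Frattini argument
  have hgMg : g ∈ Mg := (hMgmem g).mpr ⟨Subgroup.mem_centralizer_singleton_iff.mpr hgy,
    by rw [hg]; norm_num⟩
  have hgL : g ∈ L := Subgroup.le_normalizer hgMg
  set g₀ : N := ⟨⟨g, hgL⟩, hgMg⟩ with hg₀
  have hg₀o : orderOf g₀ = 7 := by
    rw [hg₀, ← Subgroup.orderOf_coe, ← Subgroup.orderOf_coe]; exact hg
  obtain ⟨R, hR⟩ := (IsPGroup.of_card (p := 7) (n := 1) (G := Subgroup.zpowers g₀)
    (by rw [Nat.card_zpowers, hg₀o, pow_one])).exists_le_sylow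
  have hRcard : Nat.card (R : Subgroup N) = 7 := by
    obtain ⟨j, hj⟩ := IsPGroup.iff_card.mp R.isPGroup'
    have h7 : 7 ∣ Nat.card (R : Subgroup N) := by
      have := Subgroup.orderOf_dvd_natCard (R : Subgroup N) (hR (Subgroup.mem_zpowers g₀))
      rwa [hg₀o] at this
    have hd : Nat.card (R : Subgroup N) ∣ Nat.card G :=
      ((Subgroup.card_subgroup_dvd_card _).trans (Subgroup.card_subgroup_dvd_card N)).trans
        (Subgroup.card_subgroup_dvd_card L)
    rw [hj] at h7 hd ⊢
    rcases j with _ | _ | j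
    · norm_num at h7
    · norm_num
    · exact absurd ((show 49 = 7 ^ 2 by norm_num) ▸ (pow_dvd_pow 7 (by omega)).trans hd) h49
  have hRz : (R : Subgroup N) = Subgroup.zpowers g₀ := by
    refine (Subgroup.eq_of_le_of_card_ge hR ?_).symm
    rw [hRcard, Nat.card_zpowers, hg₀o]
  have hfr := Sylow.normalizer_sup_eq_top R
  set NR : Subgroup L := Subgroup.normalizer (((R : Subgroup N).map N.subtype : Subgroup L) : Set L)
    with hNR
  have hmap : N.index ∣ Nat.card NR := by
    rw [Subgroup.index_eq_card]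
    have hsurj : Function.Surjective ((QuotientGroup.mk' N).comp NR.subtype) := by
      intro q
      obtain ⟨l, rfl⟩ := QuotientGroup.mk'_surjective N q
      have hl : l ∈ NR ⊔ N := hfr ▸ Subgroup.mem_top l
      obtain ⟨r, hr, n, hn, rfl⟩ := Subgroup.mem_sup_of_normal_right.mp hl
      exact ⟨⟨r, hr⟩, by simp [QuotientGroup.eq, hn]⟩
    exact Subgroup.card_dvd_of_surjective _ hsurj
  obtain ⟨F, hF⟩ := Sylow.exists_subgroup_card_pow_prime 2 (n := 2) (G := NR)
    ((show 2 ^ 2 = 4 by norm_num) ▸ h4L.trans hmap)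
  set F' : Subgroup G := (F.map NR.subtype).map L.subtype with hF'
  have hF'card : Nat.card F' = 4 := by
    rw [hF', Subgroup.card_map_of_injective L.subtype_injective,
      Subgroup.card_map_of_injective NR.subtype_injective, hF]
    norm_num
  obtain ⟨Q, hQ⟩ := (IsPGroup.of_card (p := 2) (n := 2) (G := F')
    (by rw [hF'card]; norm_num)).exists_le_sylow
  obtain ⟨x, hx⟩ := MulAction.exists_smul_eq G Q S.P
  have hsqF : ∀ a ∈ F', a * a = 1 := fun a ha => by
    have hm : x * a * x⁻¹ ∈ (S.P : Subgroup G) := by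
      rw [← hx, Sylow.coe_subgroup_smul]
      exact ⟨a, hQ ha, rfl⟩
    have h := S.sq_P hm
    calc a * a = x⁻¹ * (x * a * x⁻¹ * (x * a * x⁻¹)) * x := by group
      _ = 1 := by rw [h]; group
  have hinv : ∀ a ∈ F', a ≠ 1 → a * g * a⁻¹ = g⁻¹ := by
    intro a ha ha1
    refine S.inverts hg (orderOf_eq_prime (p := 2) (by rw [pow_two, hsqF a ha]) ha1) ?_
    obtain ⟨l, ⟨r, -, rfl⟩, rfl⟩ := ha
    have h1 := (Subgroup.mem_normalizer_iff.mp r.2 (⟨g, hgL⟩ : L)).mp
      ⟨g₀, hRz ▸ Subgroup.mem_zpowers g₀, rfl⟩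
    obtain ⟨z, hz, hz'⟩ := h1
    rw [hRz] at hz
    obtain ⟨j, rfl⟩ := Subgroup.mem_zpowers_iff.mp hz
    refine Subgroup.mem_zpowers_iff.mpr ⟨j, ?_⟩
    have h2 := congrArg Subtype.val hz'
    simpa [hg₀] using h2
  obtain ⟨a, b, ha1, hb1, hab⟩ : ∃ a b : F', a ≠ 1 ∧ b ≠ 1 ∧ a ≠ b := by
    haveI : Nontrivial F' := Finite.one_lt_card_iff_nontrivial.mp (by omega)
    obtain ⟨a, ha⟩ := exists_ne (1 : F')
    by_contra hcon
    simp only [not_exists, not_and, not_not] at hcon
    have hsub : (Finset.univ : Finset F') ⊆ {1, a} := fun z _ => by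
      by_cases hz : z = 1
      · simp [hz]
      · simp [(hcon a z ha hz).symm]
    have h := (Finset.card_le_card hsub).trans Finset.card_le_two
    rw [Finset.card_univ, ← Nat.card_eq_fintype_card, hF'card] at h
    omega
  have hv : ∀ c : F', c ≠ 1 → (c : G) * g * (c : G)⁻¹ = g⁻¹ := fun c hc =>
    hinv c c.2 fun h => hc (Subtype.ext h)
  have habc : (a : G) * b * g * ((a : G) * b)⁻¹ = g := by
    calc (a : G) * b * g * ((a : G) * b)⁻¹ = a * ((b : G) * g * (b : G)⁻¹) * (a : G)⁻¹ := by group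
      _ = ((a : G) * g * (a : G)⁻¹)⁻¹ := by rw [hv b hb1]; group
      _ = g := by rw [hv a ha1, inv_inv]
  refine S.not_commute_involution hg (a := (a : G) * b) ?_ (mul_inv_eq_iff_eq_mul.mp habc)
  refine orderOf_eq_prime (p := 2) (by rw [pow_two]; exact hsqF _ (mul_mem a.2 b.2)) fun h => hab ?_
  refine Subtype.ext ?_
  calc (a : G) = (a : G) * b * (b : G)⁻¹ := by group
    _ = (b : G) := by rw [h, one_mul, inv_eq_of_mul_eq_one_right (hsqF _ b.2)]

/-- In a group of order 189000 no involution inverts the element of order seven. -/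
theorem Setting.no_inverting (S : Setting G) (hG : Nat.card G = 189000) {g u : G} (hg : orderOf g = 7)
    (hu : u ^ 3 = 1) (hun : u * g * u⁻¹ ∈ Subgroup.zpowers g) (hnc : u * g ≠ g * u) {s : G}
    (hs : orderOf s = 2) : s * g * s⁻¹ ≠ g⁻¹ := by
  classical
  intro hsg
  have : Fact (Nat.Prime 7) := ⟨by norm_num⟩
  have : Fact (Nat.Prime 5) := ⟨by norm_num⟩
  set Z := Subgroup.zpowers g with hZdef
  have hZ : Nat.card Z = 7 := by rw [Nat.card_zpowers, hg]
  let R : Sylow 7 G := Sylow.ofCard Z (by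
    rw [hZ, hG]
    have h2 : (189000 : ℕ).factorization 7 = 1 := by
      rw [show (189000 : ℕ) = 7 * 27000 by norm_num, Nat.factorization_mul (by norm_num) (by norm_num)]
      simp [Nat.Prime.factorization_self (show Nat.Prime 7 by norm_num),
        Nat.factorization_eq_zero_of_not_dvd (show ¬ 7 ∣ 27000 by norm_num)]
    rw [h2, pow_one])
  set N := Subgroup.normalizer (Z : Set G) with hN
  have hNR := H30.card_sylow_mul_normalizer 7 R
  rw [hG] at hNR
  have hmemN : ∀ x : G, x * g * x⁻¹ ∈ Z → x ∈ N := by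
    intro x hx
    rw [hN, Subgroup.mem_normalizer_iff]
    have hmap : Z.map (MulAut.conj x).toMonoidHom = Z := by
      refine Subgroup.eq_of_le_of_card_ge ?_ ?_
      · rw [hZdef, MonoidHom.map_zpowers, Subgroup.zpowers_le]; simpa using hx
      · rw [Subgroup.card_map_of_injective (MulAut.conj x).injective]
    intro z
    constructor
    · intro hz; rw [← hmap]; exact ⟨z, hz, rfl⟩
    · intro hz
      rw [← hmap] at hz
      obtain ⟨z', hz', e⟩ := hz
      simp only [MulEquiv.coe_toMonoidHom, MulAut.conj_apply, mul_left_inj, mul_right_inj] at e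
      exact e ▸ hz'
  have huN : u ∈ N := hmemN u hun
  have hsN : s ∈ N := hmemN s (hsg ▸ inv_mem (Subgroup.mem_zpowers g))
  have horb := card_orbitBy N (Subgroup.le_normalizer (Subgroup.mem_zpowers g))
  have hC : N ⊓ Subgroup.centralizer {g} = Subgroup.centralizer {g} := by
    refine inf_eq_right.mpr fun x hx => hmemN x ?_
    rw [mul_inv_eq_iff_eq_mul.mpr (Subgroup.mem_centralizer_singleton_iff.mp hx)]
    exact Subgroup.mem_zpowers g
  obtain ⟨r, hr, hur⟩ : ∃ r, r < 7 ∧ u * g * u⁻¹ = g ^ r := by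
    obtain ⟨k, hk⟩ := (mem_powers_iff_mem_zpowers.mpr hun : u * g * u⁻¹ ∈ Submonoid.powers g)
    exact ⟨k % 7, Nat.mod_lt _ (by norm_num), by rw [← hg, pow_mod_orderOf]; exact hk.symm⟩
  have hconjpow : ∀ (x : G) (i j : ℕ), x * g * x⁻¹ = g ^ i → x * g ^ j * x⁻¹ = g ^ (i * j) :=
    fun x i j h => by rw [← conj_pow, h, pow_mul]
  have hs6 : s * g * s⁻¹ = g ^ 6 := by
    rw [hsg]
    refine (eq_inv_of_mul_eq_one_left ?_).symm
    rw [← pow_succ, show 6 + 1 = orderOf g from hg.symm, pow_orderOf_eq_one]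
  have hr3 : r * (r * r) % 7 = 1 := by
    have h : g ^ (r * (r * r)) = g ^ 1 := by
      rw [← hconjpow u r (r * r) hur, ← hconjpow u r r hur, ← hur, pow_one]
      calc u * (u * (u * g * u⁻¹) * u⁻¹) * u⁻¹ = u ^ 3 * g * (u ^ 3)⁻¹ := by
            simp only [pow_succ, pow_zero, one_mul, mul_inv_rev, mul_assoc]
        _ = g := by rw [hu]; group
    rw [pow_eq_pow_iff_modEq, hg] at h
    exact h
  have hr24 : r = 2 ∨ r = 4 := by
    have h4 : ∀ r, r < 7 → r * (r * r) % 7 = 1 → r = 1 ∨ r = 2 ∨ r = 4 := by decide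
    rcases h4 r hr hr3 with rfl | h | h
    · exact absurd (mul_inv_eq_iff_eq_mul.mp (hur.trans (pow_one g))) hnc
    · exact Or.inl h
    · exact Or.inr h
  have hclosed : ∀ i : ℕ, g ^ i ∈ orbitBy N g → g ^ (r * i) ∈ orbitBy N g ∧ g ^ (6 * i) ∈ orbitBy N g := by
    rintro i ⟨n, hn, hn'⟩
    exact ⟨⟨u * n, mul_mem huN hn, by rw [← hconjpow u r i hur, ← hn']; group⟩,
      ⟨s * n, mul_mem hsN hn, by rw [← hconjpow s 6 i hs6, ← hn']; group⟩⟩
  have h1 : g ^ 1 ∈ orbitBy N g := ⟨1, one_mem N, by rw [pow_one]; group⟩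
  have horb6 : Nat.card (orbitBy N g) = 6 := by
    have hsub : orbitBy N g = (Z : Set G) \ {1} := by
      refine Set.Subset.antisymm ?_ ?_
      · rintro _ ⟨n, hn, rfl⟩
        exact ⟨(Subgroup.mem_normalizer_iff.mp hn g).mp (Subgroup.mem_zpowers g), fun e => by
          rw [Set.mem_singleton_iff, conj_eq_one_iff] at e
          rw [e, orderOf_one] at hg
          norm_num at hg⟩
      · rintro z ⟨hz, hz1⟩
        obtain ⟨k, hk⟩ := (mem_powers_iff_mem_zpowers.mpr hz : z ∈ Submonoid.powers g)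
        rw [← hk]
        show g ^ k ∈ orbitBy N g
        rw [← pow_mod_orderOf, hg]
        have hk1 : k % 7 ≠ 0 := fun e => hz1 (Set.mem_singleton_iff.mpr (by
          rw [← hk]; show g ^ k = 1; rw [← pow_mod_orderOf, hg, e, pow_zero]))
        have a1 := (hclosed 1 h1).1
        have a2 := (hclosed _ a1).1
        have b1 := (hclosed 1 h1).2
        have b2 := (hclosed _ a1).2
        have b3 := (hclosed _ a2).2
        rw [← pow_mod_orderOf, hg] at a1 a2 b1 b2 b3
        have h6 : k % 7 = 1 ∨ k % 7 = 2 ∨ k % 7 = 3 ∨ k % 7 = 4 ∨ k % 7 = 5 ∨ k % 7 = 6 := by omega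
        rcases hr24 with rfl | rfl <;> rcases h6 with e | e | e | e | e | e <;> rw [e] <;> assumption
    rw [Nat.card_coe_set_eq, hsub, Set.ncard_sdiff_singleton_of_mem (one_mem Z),
      ← Nat.card_coe_set_eq, SetLike.coe_sort_coe, hZ]
  rw [hC, horb6] at horb
  have h7C : 7 ∣ Nat.card (Subgroup.centralizer ({g} : Set G)) := by
    have := Subgroup.orderOf_dvd_natCard (Subgroup.centralizer ({g} : Set G))
      (Subgroup.mem_centralizer_singleton_iff.mpr rfl : g ∈ _)
    rwa [hg] at this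
  obtain ⟨c, hc⟩ := h7C
  have hRN : Nat.card (Subgroup.normalizer ((R : Subgroup G) : Set G)) = Nat.card N := rfl
  rw [hRN, ← horb, hc] at hNR
  set n7 := Nat.card (Sylow 7 G) with hn7
  have hprod : n7 * c = 4500 := by
    have : n7 * c * 42 = 4500 * 42 := by rw [show (4500 : ℕ) * 42 = 189000 by norm_num, ← hNR]; ring
    omega
  have hmod : n7 % 7 = 1 := card_sylow_modEq_one 7 G
  have hcodd : c % 2 = 1 := by
    by_contra h
    have h2 : 2 ∣ Nat.card (Subgroup.centralizer ({g} : Set G)) :=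
      hc ▸ (show 2 ∣ c by omega).mul_left 7
    obtain ⟨a, ha⟩ := exists_prime_orderOf_dvd_card' (G := Subgroup.centralizer ({g} : Set G)) 2
      (hp := ⟨Nat.prime_two⟩) h2
    exact S.not_commute_involution hg (by rw [Subgroup.orderOf_coe, ha])
      (Subgroup.mem_centralizer_singleton_iff.mp a.2)
  have hc125 : c = 125 := by
    have hlist : ∀ c ∈ Nat.divisors 4500, c % 2 = 1 → 4500 / c % 7 = 1 → c = 125 := by decide +kernel
    refine hlist c (Nat.mem_divisors.mpr ⟨Dvd.intro_left _ hprod, by norm_num⟩) hcodd ?_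
    rw [← hprod, Nat.mul_div_cancel _ (by omega)]
    exact hmod
  subst hc125
  let Q : Sylow 5 (Subgroup.centralizer ({g} : Set G)) := default
  have hQ : Nat.card (Q : Subgroup (Subgroup.centralizer ({g} : Set G))) = 5 ^ 3 :=
    H30.card_sylow_subgroup Q (a := 3) (m := 7) (by rw [hc]; norm_num) (by norm_num)
  let Q' : Sylow 5 G := Sylow.ofCard ((Q : Subgroup _).map (Subgroup.centralizer ({g} : Set G)).subtype)
    (by
      rw [Subgroup.card_map_of_injective (Subgroup.subtype_injective _), hQ, hG]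
      congr 1
      rw [show (189000 : ℕ) = 5 ^ 3 * 1512 by norm_num,
        Nat.factorization_mul (by norm_num) (by norm_num), (show Nat.Prime 5 by norm_num).factorization_pow]
      simp [Nat.factorization_eq_zero_of_not_dvd (show ¬ 5 ∣ 1512 by norm_num)])
  obtain ⟨Y, hY⟩ := (IsPGroup.of_card (p := 5) (n := 1) (G := Subgroup.zpowers S.five)
    (by rw [Nat.card_zpowers, S.orderOf_five, pow_one])).exists_le_sylow
  obtain ⟨x, hx⟩ := MulAction.exists_smul_eq G Y Q'
  have hmem : x * S.five * x⁻¹ ∈ Subgroup.centralizer ({g} : Set G) := by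
    have h : x * S.five * x⁻¹ ∈ (Q' : Subgroup G) := by
      rw [← hx, Sylow.coe_subgroup_smul]
      exact ⟨S.five, hY (Subgroup.mem_zpowers _), rfl⟩
    obtain ⟨q, -, hq⟩ := h
    rw [← hq]
    exact q.2
  refine S.five_no_seven (by rw [hG]; norm_num) (g := x⁻¹ * g * x) ?_ ?_
  · have := orderOf_injective (MulAut.conj x⁻¹).toMonoidHom (MulAut.conj x⁻¹).injective g
    simp only [MulEquiv.coe_toMonoidHom, MulAut.conj_apply, inv_inv] at this
    rw [this, hg]
  · have h := Subgroup.mem_centralizer_singleton_iff.mp hmem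
    calc x⁻¹ * g * x * S.five = x⁻¹ * (g * (x * S.five * x⁻¹)) * x := by group
      _ = x⁻¹ * (x * S.five * x⁻¹ * g) * x := by rw [h]
      _ = S.five * (x⁻¹ * g * x) := by group

/-- The order is 175560. -/
theorem Setting.card_eq (S : Setting G) : Nat.card G = 175560 := by
  classical
  rcases S.order_cases with h | ⟨hG, v, d, hvd, ⟨X⟩⟩
  · exact h
  exfalso
  have : Fact (Nat.Prime 7) := ⟨by norm_num⟩
  obtain ⟨-, g, u, hg, hu, hun, hnc⟩ := S.exists_seven
  set Z := Subgroup.zpowers g with hZdef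
  have hZ : Nat.card Z = 7 := by rw [Nat.card_zpowers, hg]
  have hno : ∀ z ∈ Z, z ≠ 1 →
      Nat.card {p : G × G // IsConj S.t p.1 ∧ IsConj S.t p.2 ∧ p.1 * p.2 = z} = 0 := by
    intro z hz hz1
    rw [Nat.card_eq_zero]
    left
    refine ⟨fun p => ?_⟩
    obtain ⟨⟨a, b⟩, ha, hb, hab⟩ := p
    have ho : ∀ c, IsConj S.t c → orderOf c = 2 := fun c hc => by
      obtain ⟨x, rfl⟩ := isConj_iff.mp hc
      exact (orderOf_injective (MulAut.conj x).toMonoidHom (MulAut.conj x).injective S.t).trans S.ht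
    have haa : a * a = 1 := by rw [← pow_two, ← ho a ha, pow_orderOf_eq_one]
    have hbb : b * b = 1 := by rw [← pow_two, ← ho b hb, pow_orderOf_eq_one]
    have hinv : a * z * a⁻¹ = z⁻¹ := by
      rw [← hab, mul_inv_rev, inv_eq_of_mul_eq_one_right haa, inv_eq_of_mul_eq_one_right hbb,
        ← mul_assoc, haa, one_mul]
    have hgz : g ∈ Subgroup.zpowers z := by
      have : Subgroup.zpowers z = Z := by
        refine Subgroup.eq_of_le_of_card_ge (Subgroup.zpowers_le.mpr hz) ?_
        rw [hZ, Nat.card_zpowers]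
        have h7 := Subgroup.orderOf_dvd_natCard Z hz
        rw [hZ] at h7
        rcases (Nat.dvd_prime (by norm_num : Nat.Prime 7)).mp h7 with e | e
        · exact absurd (orderOf_eq_one_iff.mp e) hz1
        · omega
      rw [this]; exact Subgroup.mem_zpowers g
    obtain ⟨j, hj⟩ := Subgroup.mem_zpowers_iff.mp hgz
    refine S.no_inverting hG hg hu hun hnc (ho a ha) ?_
    rw [← hj, ← conj_zpow, hinv, inv_zpow]
  have hct : Nat.card (Subgroup.centralizer ({S.t} : Set G)) = 120 := S.card_H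
  have heq : ∀ z ∈ Z, z ≠ 1 →
      ∑ χ : Cfsg.IrrCharacter G, (v χ : ℂ) * (v χ : ℂ) * conj (χ.1 z) / (d χ : ℂ) = 0 := by
    intro z hz hz1
    have h := GLTwoThree.count_formula S.t S.t z
    rw [hno z hz hz1, hct, Nat.cast_zero, zero_mul] at h
    simp only [fun χ => (hvd χ).1, fun χ => (hvd χ).2] at h
    exact (mul_eq_zero.mp h.symm).resolve_left (Nat.cast_ne_zero.mpr Nat.card_pos.ne')
  choose w hw using fun χ : Cfsg.IrrCharacter G => H57.gen_inner_int
    (H57.gen_of_char (H26.isCharacter_comp (H26.irr_isCharacter χ) Z.subtype))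
    (H57.gen_of_irr (H26.oneIrr Z).2)
  have hsum : ∀ χ : Cfsg.IrrCharacter G,
      ∑ z ∈ (Finset.univ : Finset Z).erase 1, χ.1 (z : G) = 7 * (w χ : ℂ) - (d χ : ℂ) := by
    intro χ
    have h := hw χ
    rw [Cfsg.classInner, hZ, inv_mul_eq_iff_eq_mul₀ (by norm_num)] at h
    simp only [H26.oneIrr_val, map_one, mul_one, Function.comp_apply, Subgroup.coe_subtype] at h
    rw [Finset.sum_erase_eq_sub (Finset.mem_univ _), h, OneMemClass.coe_one, (hvd χ).2]
    norm_num
  have hdne : ∀ χ : Cfsg.IrrCharacter G, (d χ : ℂ) ≠ 0 := fun χ => by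
    rw [← (hvd χ).2]; exact H26.irr_one_ne_zero χ
  -- characters of degree divisible by seven
  have h7 : ∀ χ : Cfsg.IrrCharacter G, 7 ∣ d χ → 7 * w χ = d χ := by
    intro χ h
    obtain ⟨n, hn0, hn⟩ := H57.irr_degree χ.2
    have hdn : d χ = n := by
      have h' := (hvd χ).2.symm.trans hn
      exact_mod_cast h'
    have hvan : ∀ z ∈ (Finset.univ : Finset Z).erase 1, χ.1 (z : G) = 0 := fun z hz => by
      refine H27.char_eq_zero_of_defect_zero χ (n := 1) (show Nat.Prime 7 by norm_num)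
        (by rw [hG]; norm_num) (by rw [hG]; norm_num) hn
        (by rw [pow_one]; exact_mod_cast (hdn ▸ h : (7 : ℤ) ∣ n)) _ ?_
      have hz1 : z ≠ 1 := (Finset.mem_erase.mp hz).1
      have h8 := orderOf_dvd_natCard z
      rw [hZ] at h8
      rcases (Nat.dvd_prime (by norm_num : Nat.Prime 7)).mp h8 with e | e
      · exact absurd (orderOf_eq_one_iff.mp e) hz1
      · rw [Subgroup.orderOf_coe, e]
    have h2 := hsum χ
    rw [Finset.sum_eq_zero hvan] at h2
    have h3 : ((7 * w χ : ℤ) : ℂ) = ((d χ : ℤ) : ℂ) := by push_cast; linear_combination -h2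
    exact_mod_cast h3
  set f : Cfsg.IrrCharacter G → ℚ := fun χ =>
    ((v χ * v χ * (7 * w χ - d χ) : ℤ) : ℚ) / (d χ : ℚ) with hf
  have htot : ∑ χ, f χ = 0 := by
    have h := Finset.sum_eq_zero (s := (Finset.univ : Finset Z).erase 1)
      (f := fun z : Z => ∑ χ : Cfsg.IrrCharacter G,
        (v χ : ℂ) * (v χ : ℂ) * conj (χ.1 (z : G)) / (d χ : ℂ))
      fun z hz => heq _ z.2 fun e => (Finset.mem_erase.mp hz).1 (Subtype.ext e)
    rw [Finset.sum_comm] at h
    simp only [← Finset.sum_div, ← Finset.mul_sum, ← map_sum, hsum, map_sub, map_mul, map_ofNat,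
      map_intCast] at h
    have h' : (((∑ χ, f χ : ℚ)) : ℂ) = ((0 : ℚ) : ℂ) := by
      rw [Rat.cast_zero, ← h]
      push_cast [hf]
      rfl
    exact Rat.cast_injective h'
  have hne : ∀ i, i ∉ [H26.oneIrr G, X.R, X.C, X.D] → f i = 0 := by
    intro i hi
    simp only [List.mem_cons, List.not_mem_nil, or_false, not_or] at hi
    by_cases hv0 : v i = 0
    · simp [hf, hv0]
    rcases X.other i hv0 with e | e | e | e | e
    · exact absurd e hi.1
    · exact absurd e hi.2.1
    · exact absurd e hi.2.2.1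
    · exact absurd e hi.2.2.2
    · simp only [hf]
      rw [h7 i e, sub_self, mul_zero, Int.cast_zero, zero_div]
  rw [sum_eq_list _ X.nodup f hne] at htot
  simp only [List.map_cons, List.map_nil, List.sum_cons, List.sum_nil, add_zero, hf] at htot
  have hvo : v (H26.oneIrr G) = 1 ∧ d (H26.oneIrr G) = 1 := by
    constructor
    · have h := (hvd (H26.oneIrr G)).1
      rw [H26.oneIrr_val] at h
      exact_mod_cast h.symm
    · have h := (hvd (H26.oneIrr G)).2
      rw [H26.oneIrr_val] at h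
      exact_mod_cast h.symm
  have hwo : w (H26.oneIrr G) = 1 := by
    have h := hw (H26.oneIrr G)
    rw [Cfsg.classInner] at h
    simp only [H26.oneIrr_val, map_one, mul_one, Function.comp_apply, Finset.sum_const,
      Finset.card_univ, nsmul_eq_mul, ← Nat.card_eq_fintype_card] at h
    rw [hZ] at h
    norm_num at h
    exact_mod_cast h.symm
  rw [hvo.1, hvo.2, hwo, X.vR, X.vC, X.vD, X.dR, ← X.dCD] at htot
  set D := d X.C with hD
  have hD0 : (D : ℚ) ≠ 0 := by
    have := hdne X.C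
    exact_mod_cast this
  have key : 90 * D + D * (7 * w X.R - 15) + 240 * (7 * (w X.C + w X.D) - 2 * D) = 0 := by
    have h : ((90 * D + D * (7 * w X.R - 15) + 240 * (7 * (w X.C + w X.D) - 2 * D) : ℤ) : ℚ) =
        ((0 : ℤ) : ℚ) := by
      push_cast at htot ⊢
      field_simp at htot
      linear_combination htot
    exact_mod_cast h
  have hD1 : D ≠ 0 := by exact_mod_cast hD0
  by_cases hD7 : 7 ∣ D
  · have hC := h7 X.C hD7
    have hD' := h7 X.D (X.dCD ▸ hD7)
    rw [← X.dCD] at hD'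
    have h2 : D * (7 * w X.R + 75) = 0 := by linear_combination key - 240 * hC - 240 * hD'
    have := (mul_eq_zero.mp h2).resolve_left hD1
    omega
  · have h7' : (7 : ℤ) ∣ 405 * D :=
      ⟨D * w X.R + 240 * (w X.C + w X.D), by linear_combination -key⟩
    omega

end Cfsg.Agent.H30.TwoTimesA5
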